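import Mathlib.GroupTheory.GroupAction.Quotient
import Mathlib.GroupTheory.SpecificGroups.Alternating
import Mathlib.GroupTheory.Perm.Sign
import Mathlib.GroupTheory.Subgroup.Simple
import Mathlib.GroupTheory.Sylow
import Mathlib.Tactic

namespace Cfsg.Agent.Lib.SylowCounting

variable {G : Type*} [Group G] [Finite G] [IsSimpleGroup G]

/-- The coset action of a simple group on a proper subgroup is faithful. -/
theorem toPermHom_injective (H : Subgroup G) (hH : H ≠ ⊤) :
    Function.Injective (MulAction.toPermHom G (G ⧸ H)) := by
  rw [← MonoidHom.ker_eq_bot_iff, ← Subgroup.normalCore_eq_ker]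
  refine (IsSimpleGroup.eq_bot_or_eq_top_of_normal _ H.normalCore_normal).resolve_right ?_
  intro h
  exact hH (top_le_iff.1 (h ▸ H.normalCore_le))

omit [Finite G] in
theorem hom_zmod_trivial (hG : ¬ IsMulCommutative G) {A : Type*} [CommGroup A] (f : G →* A) (g : G) :
    f g = 1 := by
  rcases IsSimpleGroup.eq_bot_or_eq_top_of_normal _ f.normal_ker with h | h
  · exfalso
    apply hG
    refine ⟨⟨fun a b => ?_⟩⟩
    apply (MonoidHom.ker_eq_bot_iff f).1 h
    rw [map_mul, map_mul, mul_comm]
  · rw [← MonoidHom.mem_ker, h]; trivial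

/-- A nonabelian simple group with a proper subgroup of index `n` embeds into `A_n`. -/
theorem exists_embedding_alternating (hG : ¬ IsMulCommutative G) (H : Subgroup G) (hH : H ≠ ⊤) :
    ∃ f : G →* alternatingGroup (Fin H.index), Function.Injective f := by
  let e : (G ⧸ H) ≃ Fin H.index := (Finite.equivFinOfCardEq (H.index_eq_card).symm)
  let f₀ : G →* Equiv.Perm (Fin H.index) :=
    e.permCongrHom.toMonoidHom.comp (MulAction.toPermHom G (G ⧸ H))
  have hf : Function.Injective f₀ := e.permCongrHom.injective.comp (toPermHom_injective H hH)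
  refine ⟨f₀.codRestrict (alternatingGroup _) fun g => ?_, fun a b h => hf (congrArg Subtype.val h)⟩
  rw [Equiv.Perm.mem_alternatingGroup]
  exact hom_zmod_trivial hG (Equiv.Perm.sign.comp f₀) g

/-- Order of a nonabelian simple group divides the order of `A_n`, `n` the index of a proper subgroup. -/
theorem two_card_dvd_factorial (hG : ¬ IsMulCommutative G) (H : Subgroup G) (hH : H ≠ ⊤) :
    2 * Nat.card G ∣ H.index.factorial := by
  obtain ⟨f, hf⟩ := exists_embedding_alternating hG H hH
  have h1 : Nat.card G ∣ Nat.card (alternatingGroup (Fin H.index)) :=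
    Subgroup.card_dvd_of_injective f hf
  rcases lt_or_ge H.index 2 with h2 | h2
  · exfalso
    rcases Nat.lt_succ_iff.1 h2 |>.lt_or_eq with h3 | h3
    · exact Subgroup.index_ne_zero_of_finite (H := H) (by omega)
    · exact hH (Subgroup.index_eq_one.1 h3)
  · haveI : Nontrivial (Fin H.index) := Fin.nontrivial_iff_two_le.2 h2
    have := two_mul_card_alternatingGroup (α := Fin H.index)
    rw [Fintype.card_perm, Fintype.card_fin] at this
    rw [← this, ← Nat.card_eq_fintype_card]
    exact Nat.mul_dvd_mul_left 2 h1

omit [Finite G] in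
/-- A simple group of non-prime order is not commutative. -/
theorem not_comm_of_not_prime (h : ¬ (Nat.card G).Prime) : ¬ IsMulCommutative G := by
  intro hc
  apply h
  haveI := hc
  let _ : CommGroup G := { (inferInstance : Group G) with mul_comm := fun a b => hc.is_comm.comm a b }
  exact IsSimpleGroup.prime_card

end Cfsg.Agent.Lib.SylowCounting
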