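import Cfsg.Agent.Lib.SylowCounting.Tools
import Mathlib.GroupTheory.GroupAction.Quotient

namespace Cfsg.Agent.Lib.SylowCounting

variable {G : Type*} [Group G] [Finite G]

/-- Elements of pairwise different orders are bounded by the group order. -/
theorem sum_card_orderOf_le (s : Finset ℕ) :
    ∑ d ∈ s, Nat.card {g : G // orderOf g = d} ≤ Nat.card G := by
  classical
  haveI : Fintype G := Fintype.ofFinite _
  simp only [Nat.card_eq_fintype_card, Fintype.card_subtype]
  rw [← Finset.card_biUnion (fun a _ b _ hab => Finset.disjoint_left.2 fun g ha hb =>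
    hab ((Finset.mem_filter.1 ha).2.symm.trans (Finset.mem_filter.1 hb).2))]
  exact Finset.card_le_univ _

theorem card_class_le_card_orderOf (x : G) :
    Nat.card {g : G // IsConj x g} ≤ Nat.card {g : G // orderOf g = orderOf x} := by
  refine Nat.card_le_card_of_injective (fun g => ⟨g.1, ?_⟩) (fun a b h => Subtype.ext (congrArg (fun z : {g : G // orderOf g = orderOf x} => z.1) h))
  obtain ⟨c, hc⟩ := isConj_iff.1 g.2
  rw [← hc]
  simpa using (MulAut.conj c).orderOf_eq x

/-- The Sylow numbers permitted by Sylow's theorem, other than `1`. -/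
def candidates (p m : ℕ) : Finset ℕ := m.divisors.filter (fun d => d % p = 1 ∧ d ≠ 1)

theorem sylow_count_candidates [IsSimpleGroup G] {p k m : ℕ} [Fact p.Prime]
    (hG : Nat.card G = p ^ k * m) (hm : ¬ p ∣ m) (hk : k ≠ 0) (hm1 : m ≠ 1) :
    Nat.card (Sylow p G) ∈ candidates p m := by
  have h1 := sylow_count_mem hG hm
  rw [Finset.mem_filter] at h1
  rw [candidates, Finset.mem_filter]
  exact ⟨h1.1, h1.2, sylow_count_ne_one hG hm hk hm1⟩

/-- Indices allowed for a subgroup with more than one Sylow subgroup of full order. -/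
def interIndices (p m : ℕ) : Finset ℕ :=
  m.divisors.filter (fun i => i ≠ 1 ∧ (candidates p (m / i)).Nonempty)

/-- If `n_p ≢ 1 [MOD p^2]` two Sylow subgroups meet in index `p` and normalise the intersection. -/
theorem exists_big_intersection {p k m : ℕ} [hp : Fact p.Prime]
    (hG : Nat.card G = p ^ k * m) (hm : ¬ p ∣ m) (hn : Nat.card (Sylow p G) % p ^ 2 ≠ 1) :
    ∃ P R : Sylow p G, P ≠ R ∧
      Nat.card ↥((P : Subgroup G) ⊓ R) * p = p ^ k ∧
      (P : Subgroup G) ≤ Subgroup.normalizer (((P : Subgroup G) ⊓ R : Subgroup G) : Set G) ∧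
      (R : Subgroup G) ≤ Subgroup.normalizer (((P : Subgroup G) ⊓ R : Subgroup G) : Set G) := by
  obtain ⟨P, R, hne, hle⟩ : ∃ P R : Sylow p G, P ≠ R ∧
      ((R : Subgroup G).subgroupOf (P : Subgroup G)).index ≤ p := by
    by_contra hcon
    simp only [not_exists, not_and, not_le] at hcon
    apply hn
    classical
    obtain ⟨P⟩ : Nonempty (Sylow p G) := inferInstance
    have key : Nat.card (Sylow p G) ≡ 1 [MOD p ^ 2] := by
      haveI : Fintype (MulAction.orbitRel.Quotient (P : Subgroup G) (Sylow p G)) := Fintype.ofFinite _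
      have key : ∀ R : Sylow p G, R ≠ P → p ^ 2 ∣ Nat.card (MulAction.orbit (P : Subgroup G) R) := by
        intro R hR
        have hidx : Nat.card (MulAction.orbit (P : Subgroup G) R) = ((R : Subgroup G).subgroupOf P).index := by
          rw [Nat.card_congr (MulAction.orbitEquivQuotientStabilizer _ R), ← Subgroup.index]
          congr 1
          ext ⟨x, hx⟩
          rw [MulAction.mem_stabilizer_iff, Subgroup.mem_subgroupOf]
          show x • R = R ↔ x ∈ (R : Subgroup G)
          rw [Sylow.smul_eq_iff_mem_normalizer]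
          refine ⟨fun h => ?_, fun h => Subgroup.le_normalizer h⟩
          have : x ∈ (P : Subgroup G) ⊓ Subgroup.normalizer ((R : Subgroup G) : Set G) := ⟨hx, h⟩
          rw [Sylow.coe_coe, P.isPGroup'.inf_normalizer_sylow R] at this
          exact this.2
        rw [hidx]
        obtain ⟨j, hj⟩ := P.isPGroup'.index ((R : Subgroup G).subgroupOf P)
        have := hcon P R hR.symm
        rw [hj] at this ⊢
        refine pow_dvd_pow p ?_
        have h1 : p ^ 1 < p ^ j := by rwa [pow_one]
        have := (Nat.pow_lt_pow_iff_right hp.out.one_lt).1 h1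
        omega
      haveI : Fintype (Sylow p G) := Fintype.ofFinite _
      rw [Nat.card_congr (MulAction.selfEquivSigmaOrbits (P : Subgroup G) (Sylow p G)), Nat.card_sigma]
      let ω₀ : MulAction.orbitRel.Quotient (P : Subgroup G) (Sylow p G) := Quotient.mk'' P
      rw [← Finset.sum_erase_add _ _ (Finset.mem_univ ω₀)]
      have h2 : Nat.card (MulAction.orbit (P : Subgroup G) ω₀.out) = 1 := by
        have : MulAction.orbit (P : Subgroup G) ω₀.out = MulAction.orbit (P : Subgroup G) P := by
          rw [MulAction.orbit_eq_iff]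
          exact MulAction.orbitRel_apply.1 (Quotient.exact (Quotient.out_eq ω₀))
        have h1 : MulAction.orbit (P : Subgroup G) P = {P} := by
          ext R
          constructor
          · rintro ⟨x, rfl⟩
            exact Sylow.smul_eq_iff_mem_normalizer.2 (Subgroup.le_normalizer x.2)
          · rintro rfl; exact MulAction.mem_orbit_self _
        rw [this, h1]
        simp
      rw [h2]
      have h3 : p ^ 2 ∣ ∑ ω ∈ Finset.univ.erase ω₀, Nat.card (MulAction.orbit (P : Subgroup G) ω.out) := by
        refine Finset.dvd_sum fun ω hω => key _ (fun h => ?_)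
        apply (Finset.mem_erase.1 hω).1
        rw [← Quotient.out_eq ω, h]
      exact (Nat.modEq_zero_iff_dvd.2 h3).add_right 1
    rw [key, Nat.mod_eq_of_lt (Nat.one_lt_pow (by omega) hp.out.one_lt)]
  have hP : Nat.card (P : Subgroup G) = p ^ k := sylow_card hG hm P
  have hR : Nat.card (R : Subgroup G) = p ^ k := sylow_card hG hm R
  set D := (P : Subgroup G) ⊓ R with hD
  have hidx : D.relIndex (P : Subgroup G) = p := by
    have e : D.relIndex (P : Subgroup G) = ((R : Subgroup G).subgroupOf (P : Subgroup G)).index :=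
      Subgroup.inf_relIndex_left _ _
    rw [e]
    obtain ⟨j, hj⟩ := P.isPGroup'.index ((R : Subgroup G).subgroupOf P)
    rw [hj] at hle ⊢
    rcases Nat.lt_or_ge j 2 with h | h
    · interval_cases j
      · exfalso
        apply hne
        rw [pow_zero, Subgroup.index_eq_one, Subgroup.subgroupOf_eq_top] at hj
        exact Sylow.ext (Subgroup.eq_of_le_of_card_ge hj (le_of_eq (hR.trans hP.symm)))
      · exact pow_one p
    · exfalso
      have h1 : p ^ 1 < p ^ j := Nat.pow_lt_pow_right hp.out.one_lt (by omega)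
      rw [pow_one] at h1
      omega
  have hDc : Nat.card D * p = p ^ k := by
    have h3 : Nat.card D * D.relIndex (P : Subgroup G) = p ^ k := by
      rw [← hP, ← Subgroup.relIndex_bot_left, ← Subgroup.relIndex_bot_left]
      exact Subgroup.relIndex_mul_relIndex _ _ _ bot_le inf_le_left
    rwa [hidx] at h3
  have hnorm : ∀ S : Sylow p G, D ≤ S → (S : Subgroup G) ≤ Subgroup.normalizer (D : Set G) := by
    intro S hS
    have hSc : Nat.card (S : Subgroup G) = p ^ k := sylow_card hG hm S
    have hk : k ≠ 0 := by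
      rintro rfl
      rw [pow_zero] at hDc
      exact hp.out.one_lt.ne' (Nat.eq_one_of_mul_eq_one_left hDc)
    have h2 : (D.subgroupOf (S : Subgroup G)).index = p := by
      have h3 : Nat.card D * D.relIndex (S : Subgroup G) = p ^ k := by
        rw [← hSc, ← Subgroup.relIndex_bot_left, ← Subgroup.relIndex_bot_left]
        exact Subgroup.relIndex_mul_relIndex _ _ _ bot_le hS
      exact Nat.eq_of_mul_eq_mul_left Nat.card_pos (h3.trans hDc.symm)
    have hn : (D.subgroupOf (S : Subgroup G)).Normal := by
      apply Subgroup.normal_of_index_eq_minFac_card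
      rw [h2, hSc, Nat.pow_minFac hk, hp.out.minFac_eq]
    exact (Subgroup.normal_subgroupOf_iff_le_normalizer hS).1 hn
  exact ⟨P, R, hne, hDc, hnorm P inf_le_left, hnorm R inf_le_right⟩

/-- Two distinct Sylow subgroups in a proper subgroup give it one of the indices `interIndices`. -/
theorem index_of_two_sylows [IsSimpleGroup G] {p k m : ℕ} [hp : Fact p.Prime]
    (hG : Nat.card G = p ^ k * m) (hm : ¬ p ∣ m) (H : Subgroup G) (hH : H ≠ ⊤) (P R : Sylow p G)
    (hne : P ≠ R) (hP : (P : Subgroup G) ≤ H) (hR : (R : Subgroup G) ≤ H) :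
    H.index ∈ interIndices p m := by
  have hidx : H.index ∣ m := by
    rw [← sylow_index hG hm P]
    exact Subgroup.index_dvd_of_le hP
  have hm0 : m ≠ 0 := by rintro rfl; exact hm (dvd_zero p)
  obtain ⟨d, hd⟩ := hidx
  have hi : 0 < H.index := Nat.pos_of_ne_zero H.index_ne_zero_of_finite
  have hHc : Nat.card H = p ^ k * d := by
    apply Nat.eq_of_mul_eq_mul_left hi
    rw [H.index_mul_card, hG, hd]
    ring
  rw [interIndices, Finset.mem_filter, Nat.mem_divisors]
  refine ⟨⟨⟨d, hd⟩, hm0⟩, fun h => hH (Subgroup.index_eq_one.1 h), Nat.card (Sylow p H), ?_⟩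
  have hdd : m / H.index = d := by rw [hd, Nat.mul_div_cancel_left _ hi]
  have hmd : ¬ p ∣ d := fun h => hm (hd ▸ h.mul_left _)
  have h1 := sylow_count_mem hHc hmd
  rw [Finset.mem_filter] at h1
  rw [hdd, candidates, Finset.mem_filter]
  refine ⟨h1.1, h1.2, fun h => ?_⟩
  haveI : Subsingleton (Sylow p H) := (Nat.card_eq_one_iff_unique.1 h).1
  exact hne (Sylow.subtype_injective (hP := hP) (hQ := hR) (Subsingleton.elim _ _))

/-- In a simple group, `n_p ≢ 1 [MOD p^2]` gives a proper subgroup of restricted index. -/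
theorem exists_index_of_intersection [IsSimpleGroup G] {p k m : ℕ} [hp : Fact p.Prime]
    (hG : Nat.card G = p ^ k * m) (hm : ¬ p ∣ m) (hk : 2 ≤ k)
    (hn : Nat.card (Sylow p G) % p ^ 2 ≠ 1) :
    ∃ H : Subgroup G, H ≠ ⊤ ∧ H.index ∈ interIndices p m := by
  obtain ⟨P, R, hne, hD, hPn, hRn⟩ := exists_big_intersection hG hm hn
  set D := (P : Subgroup G) ⊓ R with hDdef
  have hH : Subgroup.normalizer (D : Set G) ≠ ⊤ := by
    intro h
    rw [Subgroup.normalizer_eq_top_iff] at h
    rcases IsSimpleGroup.eq_bot_or_eq_top_of_normal D h with hb | ht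
    · rw [hb, Subgroup.card_bot, one_mul] at hD
      have : p ^ 1 < p ^ k := Nat.pow_lt_pow_right hp.out.one_lt (by omega)
      rw [pow_one] at this
      omega
    · apply hne
      have hPt : (P : Subgroup G) = ⊤ := top_le_iff.1 (ht ▸ inf_le_left)
      have hRt : (R : Subgroup G) = ⊤ := top_le_iff.1 (ht ▸ inf_le_right)
      exact Sylow.ext (hPt.trans hRt.symm)
  exact ⟨_, hH, index_of_two_sylows hG hm _ hH P R hne hPn hRn⟩

end Cfsg.Agent.Lib.SylowCounting
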