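import Mathlib.GroupTheory.Rank
import Mathlib.GroupTheory.Coset.Card
import Mathlib.GroupTheory.Index
import Mathlib.Tactic
import Mathlib.GroupTheory.GroupAction.Quotient

namespace Cfsg.Agent.Lib.SylowCounting

open MulAction

/-- Orbit-stabiliser for conjugation: `|x^G| * |C(x)| = |G|`. -/
theorem card_conjClass_mul_card_centralizer {G : Type*} [Group G] (x : G) :
    Nat.card {g : G // IsConj x g} * Nat.card (Subgroup.centralizer ({x} : Set G)) = Nat.card G := by
  rw [Subgroup.nat_card_centralizer_nat_card_stabilizer]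
  have e : {g : G // IsConj x g} ≃ orbit (ConjAct G) x :=
    Equiv.subtypeEquivRight fun g => by
      rw [ConjAct.mem_orbit_conjAct]; exact isConj_comm
  rw [Nat.card_congr (e.trans (orbitEquivQuotientStabilizer (ConjAct G) x))]
  exact (stabilizer (ConjAct G) x).index_mul_card

/-- Double counting of fixed cosets and conjugates. -/
theorem fixedBy_mul_class {G : Type*} [Group G] [Finite G] (H : Subgroup G) (x : G) :
    Nat.card (MulAction.fixedBy (G ⧸ H) x) * Nat.card {g : G // IsConj x g} =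
      H.index * Nat.card {g : G // IsConj x g ∧ g ∈ H} := by
  classical
  let C := Subgroup.centralizer ({x} : Set G)
  let A := {g : G // g⁻¹ * x * g ∈ H}
  -- count `A` fibred over cosets of `H`
  have e1 : A ≃ (MulAction.fixedBy (G ⧸ H) x) × H := by
    have hiff : ∀ g : G, (QuotientGroup.mk g : G ⧸ H) ∈ MulAction.fixedBy (G ⧸ H) x ↔ g⁻¹ * x * g ∈ H := by
      intro g
      rw [MulAction.mem_fixedBy, MulAction.Quotient.smul_mk, smul_eq_mul, eq_comm, QuotientGroup.eq, mul_assoc]
    let s : G → Prop := fun g => (QuotientGroup.mk g : G ⧸ H) ∈ MulAction.fixedBy (G ⧸ H) x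
    have e' : A ≃ {g : G // g ∈ QuotientGroup.mk ⁻¹' (MulAction.fixedBy (G ⧸ H) x)} :=
      Equiv.subtypeEquivRight fun g => (hiff g).symm
    exact (e'.trans (QuotientGroup.preimageMkEquivSubgroupProdSet H _)).trans (Equiv.prodComm _ _)
  -- count `A` fibred over conjugates of `x`
  let f : A → {g : G // IsConj x g ∧ g ∈ H} := fun g =>
    ⟨g.1⁻¹ * x * g.1, isConj_iff.2 ⟨g.1⁻¹, by group⟩, g.2⟩
  have e2 : Nat.card A = Nat.card {g : G // IsConj x g ∧ g ∈ H} * Nat.card C := by
    haveI : Fintype {g : G // IsConj x g ∧ g ∈ H} := Fintype.ofFinite _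
    rw [← Nat.card_congr (Equiv.sigmaFiberEquiv f), Nat.card_sigma, Finset.sum_const_nat (m := Nat.card C)]
    · rw [Finset.card_univ, ← Nat.card_eq_fintype_card]
    · intro y _
      obtain ⟨c, hc⟩ := isConj_iff.1 y.2.1
      refine Nat.card_congr
        { toFun := fun a => ⟨a.1.1 * c, Subgroup.mem_centralizer_singleton_iff.2 ?_⟩
          invFun := fun d => ⟨⟨d.1 * c⁻¹, ?_⟩, ?_⟩
          left_inv := fun a => by apply Subtype.ext; apply Subtype.ext; simp
          right_inv := fun d => by apply Subtype.ext; simp }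
      · have h1 : a.1.1⁻¹ * x * a.1.1 = c * x * c⁻¹ := by
          rw [hc]; exact congrArg Subtype.val a.2
        calc a.1.1 * c * x = a.1.1 * (c * x * c⁻¹) * c := by group
          _ = a.1.1 * (a.1.1⁻¹ * x * a.1.1) * c := by rw [h1]
          _ = x * (a.1.1 * c) := by group
      · have h1 := Subgroup.mem_centralizer_singleton_iff.1 d.2
        have : (d.1 * c⁻¹)⁻¹ * x * (d.1 * c⁻¹) = y.1 := by
          rw [← hc]
          calc (d.1 * c⁻¹)⁻¹ * x * (d.1 * c⁻¹) = c * d.1⁻¹ * (x * d.1) * c⁻¹ := by group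
            _ = c * d.1⁻¹ * (d.1 * x) * c⁻¹ := by rw [h1]
            _ = c * x * c⁻¹ := by group
        rw [this]; exact y.2.2
      · apply Subtype.ext
        have h1 := Subgroup.mem_centralizer_singleton_iff.1 d.2
        show (d.1 * c⁻¹)⁻¹ * x * (d.1 * c⁻¹) = y.1
        rw [← hc]
        calc (d.1 * c⁻¹)⁻¹ * x * (d.1 * c⁻¹) = c * d.1⁻¹ * (x * d.1) * c⁻¹ := by group
          _ = c * d.1⁻¹ * (d.1 * x) * c⁻¹ := by rw [h1]
          _ = c * x * c⁻¹ := by group
  have h3 : Nat.card {g : G // IsConj x g} * Nat.card C = Nat.card G :=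
    card_conjClass_mul_card_centralizer x
  have hpos : 0 < Nat.card C := Nat.card_pos
  apply Nat.eq_of_mul_eq_mul_right hpos
  have h4 := Nat.card_congr e1
  rw [Nat.card_prod, e2] at h4
  rw [mul_assoc, h3, mul_assoc, h4, ← H.index_mul_card]
  ring

end Cfsg.Agent.Lib.SylowCounting
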