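import Cfsg.Agent.Lib.SylowCounting.Embedding
import Mathlib.NumberTheory.Divisors

namespace Cfsg.Agent.Lib.SylowCounting

variable {G : Type*} [Group G] [Finite G]

/-- The order of a Sylow `p`-subgroup when `|G| = p^k * m`, `p ∤ m`. -/
theorem sylow_card {p k m : ℕ} [Fact p.Prime] (hG : Nat.card G = p ^ k * m) (hm : ¬ p ∣ m)
    (P : Sylow p G) : Nat.card (P : Subgroup G) = p ^ k := by
  have hp := Fact.out (p := p.Prime)
  rw [P.card_eq_multiplicity, hG,
    Nat.factorization_mul (pow_ne_zero _ hp.ne_zero) (by rintro rfl; exact hm (dvd_zero p))]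
  congr 1
  simp [hp.factorization_pow, Nat.factorization_eq_zero_of_not_dvd hm]

/-- `|G| = p^k * m` with `p ∤ m`: the index of a Sylow `p`-subgroup is `m`. -/
theorem sylow_index {p k m : ℕ} [Fact p.Prime] (hG : Nat.card G = p ^ k * m) (hm : ¬ p ∣ m)
    (P : Sylow p G) : (P : Subgroup G).index = m := by
  have h := (P : Subgroup G).index_mul_card
  rw [hG, sylow_card hG hm P, mul_comm (p ^ k)] at h
  exact Nat.eq_of_mul_eq_mul_right (pow_pos (Fact.out (p := p.Prime)).pos k) h

theorem sylow_count_dvd {p k m : ℕ} [Fact p.Prime] (hG : Nat.card G = p ^ k * m) (hm : ¬ p ∣ m) :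
    Nat.card (Sylow p G) ∣ m := by
  let P : Sylow p G := default
  rw [← sylow_index hG hm P]
  exact P.card_dvd_index

theorem sylow_count_mod (p : ℕ) [hp : Fact p.Prime] : Nat.card (Sylow p G) % p = 1 := by
  rw [card_sylow_modEq_one p G, Nat.mod_eq_of_lt hp.out.one_lt]

theorem sylow_count_mem {p k m : ℕ} [Fact p.Prime] (hG : Nat.card G = p ^ k * m) (hm : ¬ p ∣ m) :
    Nat.card (Sylow p G) ∈ m.divisors.filter (fun d => d % p = 1) := by
  rw [Finset.mem_filter, Nat.mem_divisors]
  exact ⟨⟨sylow_count_dvd hG hm, by rintro rfl; exact hm (dvd_zero p)⟩, sylow_count_mod p⟩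

/-- In a simple group a non-trivial proper Sylow subgroup is not unique. -/
theorem sylow_count_ne_one [IsSimpleGroup G] {p k m : ℕ} [Fact p.Prime]
    (hG : Nat.card G = p ^ k * m) (hm : ¬ p ∣ m) (hk : k ≠ 0) (hm1 : m ≠ 1) :
    Nat.card (Sylow p G) ≠ 1 := by
  intro h
  let P : Sylow p G := default
  haveI : Subsingleton (Sylow p G) := (Nat.card_eq_one_iff_unique.1 h).1
  haveI := P.normal_of_subsingleton
  rcases IsSimpleGroup.eq_bot_or_eq_top_of_normal (P : Subgroup G) inferInstance with hb | ht
  · have := sylow_card hG hm P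
    rw [hb, Subgroup.card_bot] at this
    exact (Nat.one_lt_pow hk (Fact.out (p := p.Prime)).one_lt).ne this
  · apply hm1
    rw [← sylow_index hG hm P, ht, Subgroup.index_top]

theorem normalizer_ne_top [IsSimpleGroup G] {p : ℕ} [Fact p.Prime] (P : Sylow p G)
    (h1 : Nat.card (Sylow p G) ≠ 1) : Subgroup.normalizer ((P : Subgroup G) : Set G) ≠ ⊤ := by
  intro h
  apply h1
  rw [P.card_eq_index_normalizer, ← P.coe_coe, h, Subgroup.index_top]

/-- `2 |G|` divides `n_p!` for a nonabelian simple group. -/
theorem two_card_dvd_sylow_factorial [IsSimpleGroup G] (hG : ¬ IsMulCommutative G) {p : ℕ}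
    [Fact p.Prime] (h1 : Nat.card (Sylow p G) ≠ 1) :
    2 * Nat.card G ∣ (Nat.card (Sylow p G)).factorial := by
  let P : Sylow p G := default
  rw [P.card_eq_index_normalizer, ← P.coe_coe]
  exact two_card_dvd_factorial hG _ (normalizer_ne_top P h1)

/-- Number of elements of order `p` when the Sylow `p`-subgroups have order `p`. -/
theorem card_orderOf_eq_prime {p : ℕ} [hp : Fact p.Prime]
    (hP : ∀ P : Sylow p G, Nat.card (P : Subgroup G) = p) :
    Nat.card {g : G // orderOf g = p} = Nat.card (Sylow p G) * (p - 1) := by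
  classical
  have hfac : ∀ g : G, orderOf g = p →
      Nat.card (Subgroup.zpowers g) = p ^ (Nat.card G).factorization p := by
    intro g hg
    rw [Nat.card_zpowers, hg, ← (default : Sylow p G).card_eq_multiplicity]
    exact (hP _).symm
  let f : {g : G // orderOf g = p} → Sylow p G := fun g =>
    Sylow.ofCard (Subgroup.zpowers g.1) (hfac g.1 g.2)
  haveI : Fintype (Sylow p G) := Fintype.ofFinite _
  rw [← Nat.card_congr (Equiv.sigmaFiberEquiv f), Nat.card_sigma,
    Finset.sum_const_nat (m := p - 1), Finset.card_univ, ← Nat.card_eq_fintype_card]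
  intro P _
  have key : ∀ g : G, g ∈ (P : Subgroup G) → g ≠ 1 →
      orderOf g = p ∧ Subgroup.zpowers g = (P : Subgroup G) := by
    intro g hg hne
    have h1 : orderOf g ∣ p := hP P ▸ (P : Subgroup G).orderOf_dvd_natCard hg
    have h2 : orderOf g = p :=
      ((Nat.dvd_prime hp.out).1 h1).resolve_left (fun h => hne (orderOf_eq_one_iff.1 h))
    refine ⟨h2, Subgroup.eq_of_le_of_card_ge ((Subgroup.zpowers_le).2 hg) ?_⟩
    rw [Nat.card_zpowers, h2, hP P]
  have e : {g : {g : G // orderOf g = p} // f g = P} ≃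
      {g : (P : Subgroup G) // g ≠ 1} :=
    { toFun := fun g => ⟨⟨g.1.1, by
          have := congrArg (fun Q : Sylow p G => (Q : Subgroup G)) g.2
          simp only [f, Sylow.coe_ofCard] at this
          rw [← this]
          exact Subgroup.mem_zpowers _⟩, fun h => by
          have h1 : g.1.1 = 1 := congrArg Subtype.val h
          have h2 := g.1.2
          rw [h1, orderOf_one] at h2
          exact hp.out.one_lt.ne h2⟩
      invFun := fun g => ⟨⟨g.1.1, (key g.1.1 g.1.2 (fun h => g.2 (Subtype.ext h))).1⟩, by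
          apply Sylow.ext
          simp only [f, Sylow.coe_ofCard]
          exact (key g.1.1 g.1.2 (fun h => g.2 (Subtype.ext h))).2⟩
      left_inv := fun g => rfl
      right_inv := fun g => rfl }
  haveI : Fintype (P : Subgroup G) := Fintype.ofFinite _
  rw [Nat.card_congr e, Nat.card_eq_fintype_card, Fintype.card_subtype_compl, Fintype.card_subtype_eq,
    ← Nat.card_eq_fintype_card, hP P]

/-- Disjoint families of elements cannot exceed the group order. -/
theorem card_add_le_of_disjoint {α : Type*} [Finite α] (P Q : α → Prop) (h : ∀ x, P x → ¬ Q x) :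
    Nat.card {x // P x} + Nat.card {x // Q x} ≤ Nat.card {x // P x ∨ Q x} := by
  classical
  rw [← Nat.card_sum]
  exact le_of_eq (Nat.card_congr (subtypeOrEquiv P Q (Pi.disjoint_iff.2 fun x =>
    Prop.disjoint_iff.2 fun ⟨a, b⟩ => h x a b)).symm)

/-- Elements of two distinct prime orders, and the identity. -/
theorem one_add_card_orderOf_le {p q : ℕ} (hpq : p ≠ q) (hp : p ≠ 1) (hq : q ≠ 1) :
    1 + Nat.card {g : G // orderOf g = p} + Nat.card {g : G // orderOf g = q} ≤ Nat.card G := by
  have h1 := card_add_le_of_disjoint (fun g : G => orderOf g = p) (fun g => orderOf g = q)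
    (fun x a b => hpq (a.symm.trans b))
  have h2 := card_add_le_of_disjoint (fun g : G => g = 1) (fun g => orderOf g = p ∨ orderOf g = q)
    (fun x a b => by subst a; rcases b with b | b <;> simp at b <;> simp_all)
  have h3 := Nat.card_le_card_of_injective
    (Subtype.val : {g : G // g = 1 ∨ orderOf g = p ∨ orderOf g = q} → G) Subtype.val_injective
  have h4 : Nat.card {g : G // g = 1} = 1 := by simp
  omega

end Cfsg.Agent.Lib.SylowCounting
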