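import Cfsg.Agent.Lib.SylowCounting.Intersection
import Cfsg.Agent.Lib.Classical.SLTwo
import Cfsg.Agent.Lib.Geometry.Dickson.MaxExist
import Cfsg.Agent.S0731

/-!
Simple groups of order `p (p ^ 2 - 1) / 2` with `p + 1` Sylow `p`-subgroups are `PSL(2, p)`.
-/

set_option autoImplicit false
set_option linter.style.haveILetI false

namespace Cfsg.Agent.Lib.SylowCounting

open MulAction

variable {G : Type*} [Group G] [Finite G] [IsSimpleGroup G]

theorem iso_psl_prime {p : ℕ} [hp : Fact p.Prime] (h5 : 5 ≤ p) (hcard : 2 * Nat.card G = p * (p ^ 2 - 1))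
    (hn : Nat.card (Sylow p G) = p + 1) {F : Type*} [Field F] [Fintype F] (hF : Fintype.card F = p) :
    Nonempty (G ≃* Matrix.ProjectiveSpecialLinearGroup (Fin 2) F) := by
  classical
  haveI : Fintype (Sylow p G) := Fintype.ofFinite _
  obtain ⟨P⟩ : Nonempty (Sylow p G) := inferInstance
  have hpos : 1 < p ^ 2 := Nat.one_lt_pow (by norm_num) (by omega)
  have hP : Nat.card (P : Subgroup G) = p := by
    have h1 : ¬ p ^ 2 ∣ Nat.card G := fun h => by
      have h2 : p * p ∣ p * (p ^ 2 - 1) := by rw [← hcard, ← sq]; exact h.mul_left 2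
      have h3 := (mul_dvd_mul_iff_left (by omega : p ≠ 0)).1 h2
      have h4 : p ∣ p ^ 2 := dvd_pow_self p (by norm_num)
      have h5' := Nat.dvd_sub h4 h3
      rw [show p ^ 2 - (p ^ 2 - 1) = 1 by omega] at h5'
      exact hp.out.one_lt.ne' (Nat.dvd_one.1 h5')
    have h2 : p ∣ Nat.card G := by
      have : p ∣ 2 * Nat.card G := hcard ▸ dvd_mul_right p _
      exact (hp.out.dvd_mul.1 this).resolve_left fun h => by
        have := Nat.le_of_dvd (by norm_num) h
        omega
    rw [Sylow.card_eq_multiplicity]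
    have hf : (Nat.card G).factorization p = 1 := by
      refine le_antisymm ?_ (hp.out.factorization_pos_of_dvd Nat.card_pos.ne' h2)
      by_contra h
      exact h1 ((hp.out.pow_dvd_iff_le_factorization Nat.card_pos.ne').2 (by omega))
    rw [hf, pow_one]
  -- faithful
  haveI : FaithfulSMul G (Sylow p G) := by
    constructor
    intro g h hgh
    rcases IsSimpleGroup.eq_bot_or_eq_top_of_normal (MulAction.toPermHom G (Sylow p G)).ker inferInstance with hk | hk
    · exact (MonoidHom.ker_eq_bot_iff _).1 hk (Equiv.ext hgh)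
    · exfalso
      have hsub : ∀ Q : Sylow p G, Q = P := fun Q => by
        obtain ⟨x, hx⟩ := MulAction.exists_smul_eq G P Q
        have : x ∈ (MulAction.toPermHom G (Sylow p G)).ker := hk ▸ Subgroup.mem_top x
        rw [← hx]
        exact Equiv.ext_iff.1 (MonoidHom.mem_ker.1 this) P
      haveI : Subsingleton (Sylow p G) := ⟨fun a b => (hsub a).trans (hsub b).symm⟩
      rw [Nat.card_of_subsingleton P] at hn
      omega
  -- a Sylow subgroup fixes only itself and is regular on the others
  have hfixed : ∀ Q : Sylow p G, ∀ R : Sylow p G, (∀ u ∈ (Q : Subgroup G), u • R = R) → R = Q := by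
    intro Q R h
    have hle : (Q : Subgroup G) ≤ Subgroup.normalizer ((R : Subgroup G) : Set G) := fun u hu =>
      Sylow.smul_eq_iff_mem_normalizer.1 (h u hu)
    have := IsPGroup.to_sup_of_normal_right' Q.isPGroup' R.isPGroup' hle
    have e1 := Q.is_maximal' this le_sup_left
    have e2 := R.is_maximal' this le_sup_right
    exact (Sylow.ext (e2.symm.trans e1)).symm ▸ rfl
  have hQcard : ∀ Q : Sylow p G, Nat.card (Q : Subgroup G) = p := fun Q => by
    rw [Sylow.card_eq_multiplicity, ← Sylow.card_eq_multiplicity P, hP]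
  have hfree : ∀ Q R : Sylow p G, R ≠ Q → ∀ u ∈ (Q : Subgroup G), u • R = R → u = 1 := by
    intro Q R hne u hu huR
    by_contra h1
    have hz : Subgroup.zpowers u = (Q : Subgroup G) :=
      Subgroup.eq_of_le_of_card_ge (Subgroup.zpowers_le.2 hu)
        (by rw [Nat.card_zpowers, orderOf_of_mem (hQcard Q) hu h1, hQcard])
    refine hne (hfixed Q R fun v hv => ?_)
    rw [← hz] at hv
    exact Subgroup.zpowers_le.2 (MulAction.mem_stabilizer_iff.2 huR) hv
  have hreg : ∀ Q R S : Sylow p G, R ≠ Q → S ≠ Q → ∃! u : (Q : Subgroup G), (u : G) • R = S := by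
    intro Q R S hR hS
    have hmem : ∀ u : (Q : Subgroup G), (u : G) • R ≠ Q := fun u h => by
      have hQ : (u : G)⁻¹ • Q = Q := Sylow.smul_eq_iff_mem_normalizer.2 (Subgroup.le_normalizer (Subgroup.inv_mem _ u.2))
      exact hR (by rw [← inv_smul_smul (u : G) R, h, hQ])
    let f : ↥(Q : Subgroup G) → {X : Sylow p G // X ≠ Q} := fun u => ⟨(u : G) • R, hmem u⟩
    have hinj : Function.Injective f := fun u v h => by
      have h' : (u : G) • R = (v : G) • R := congrArg Subtype.val h
      have := hfree Q R hR ((v : G)⁻¹ * u) (Subgroup.mul_mem _ (Subgroup.inv_mem _ v.2) u.2)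
        (by rw [mul_smul, h', inv_smul_smul])
      exact Subtype.ext (inv_mul_eq_one.1 this).symm
    have hc : Nat.card {X : Sylow p G // X ≠ Q} = p := by
      rw [Nat.card_eq_fintype_card, Fintype.card_subtype_compl, Fintype.card_subtype_eq, ← Nat.card_eq_fintype_card, hn]
      rfl
    have hbij : Function.Bijective f := (Nat.bijective_iff_injective_and_card f).2 ⟨hinj, (hQcard Q).trans hc.symm⟩
    obtain ⟨u, hu⟩ := hbij.2 ⟨S, hS⟩
    exact ⟨u, congrArg Subtype.val hu, fun v hv => hinj ((Subtype.ext hv : f v = ⟨S, hS⟩).trans hu.symm)⟩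
  have hexists : ∀ R : Sylow p G, ∃ S, S ≠ R := fun R => by
    obtain ⟨S, hS⟩ := Fintype.exists_ne_of_one_lt_card (by rw [← Nat.card_eq_fintype_card, hn]; omega) R
    exact ⟨S, hS⟩
  have h2t : ∀ a b c d : Sylow p G, a ≠ b → c ≠ d → ∃ g : G, g • a = c ∧ g • b = d := by
    intro a b c d hab hcd
    obtain ⟨x, hx⟩ := MulAction.exists_smul_eq G a c
    have hxb : x • b ≠ c := fun e => hab (smul_left_cancel x (e.trans hx.symm)).symm
    obtain ⟨u, hu, -⟩ := hreg c (x • b) d hxb (Ne.symm hcd)
    exact ⟨(u : G) * x, by rw [mul_smul, hx]; exact Sylow.smul_eq_iff_mem_normalizer.2 (Subgroup.le_normalizer u.2),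
      by rw [mul_smul, hu]⟩
  obtain ⟨Q, hQP⟩ := hexists P
  -- a two-point stabiliser
  have hD : 2 ≤ Nat.card ↥(stabilizer G P ⊓ stabilizer G Q : Subgroup G) := by
    have hN : Nat.card (stabilizer G P) * (p + 1) = Nat.card G := by
      rw [← hn, ← MulAction.index_stabilizer_of_transitive G P, Subgroup.card_mul_index]
    have horb : (stabilizer G P ⊓ stabilizer G Q).relIndex (stabilizer G P) ≤ p := by
      rw [Subgroup.inf_relIndex_left, Subgroup.relIndex, Subgroup.index_eq_card]
      have hc : Nat.card {X : Sylow p G // X ≠ P} = p := by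
        rw [Nat.card_eq_fintype_card, Fintype.card_subtype_compl, Fintype.card_subtype_eq, ← Nat.card_eq_fintype_card, hn]
        rfl
      refine le_trans (Nat.card_le_card_of_injective
        (fun q => (⟨(q.out : G) • Q, fun h => hQP ?_⟩ : {X : Sylow p G // X ≠ P})) ?_) hc.le
      · have := MulAction.mem_stabilizer_iff.1 q.out.2
        exact smul_left_cancel _ (h.trans this.symm)
      · intro q q' h
        have h' : ((q.out : stabilizer G P) : G) • Q = ((q'.out : stabilizer G P) : G) • Q := congrArg Subtype.val h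
        refine (QuotientGroup.out_eq' q).symm.trans ((QuotientGroup.eq.2 ?_).trans (QuotientGroup.out_eq' q'))
        rw [Subgroup.mem_subgroupOf, MulAction.mem_stabilizer_iff, Subgroup.coe_mul,
          Subgroup.coe_inv, mul_smul, ← h', inv_smul_smul]
    have hmul := Subgroup.relIndex_mul_relIndex ⊥ _ _ bot_le (inf_le_left : stabilizer G P ⊓ stabilizer G Q ≤ stabilizer G P)
    rw [Subgroup.relIndex_bot_left, Subgroup.relIndex_bot_left] at hmul
    by_contra hlt
    have : Nat.card ↥(stabilizer G P ⊓ stabilizer G Q : Subgroup G) = 1 := by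
      have := Nat.card_pos (α := ↥(stabilizer G P ⊓ stabilizer G Q : Subgroup G))
      omega
    rw [this, one_mul] at hmul
    have hle : Nat.card (stabilizer G P) ≤ p := hmul ▸ horb
    have e2 : p ^ 2 - 1 = (p + 1) * (p - 1) := by
      rw [show p ^ 2 - 1 = p ^ 2 - 1 ^ 2 by rw [one_pow], Nat.sq_sub_sq]
    rw [← hN, e2] at hcard
    have h3 : (p - 1) * p ≤ 2 * p := by
      refine le_trans (le_of_eq ?_) (Nat.mul_le_mul_left 2 hle)
      refine Nat.eq_of_mul_eq_mul_right (show 0 < p + 1 by omega) ?_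
      rw [mul_assoc 2, hcard]
      ring
    have := Nat.le_of_mul_le_mul_right h3 (by omega)
    omega
  have hZ : Cfsg.IsZassenhausGroup G (Sylow p G) := by
    refine ⟨inferInstance, ?_, ?_, ?_, ?_⟩
    · refine MulAction.isMultiplyPretransitive_iff.2 fun x y => ?_
      obtain ⟨g, g0, g1⟩ := h2t (x 0) (x 1) (y 0) (y 1) (fun e => by simpa using x.injective e) (fun e => by simpa using y.injective e)
      refine ⟨g, ?_⟩
      ext i
      fin_cases i <;> simp [g0, g1]
    · intro g a b c hab hbc hac ha hb hc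
      obtain ⟨u, hu, -⟩ := hreg a b c (Ne.symm hab) (Ne.symm hac)
      have hu1 : (u : G) ≠ 1 := fun h => hbc (by rw [← hu, h, one_smul])
      have hgn := Sylow.smul_eq_iff_mem_normalizer.1 ha
      have hconj : g * u * g⁻¹ ∈ (a : Subgroup G) := (Subgroup.mem_normalizer_iff.1 hgn u).1 u.2
      have heq : g * u * g⁻¹ = u := by
        obtain ⟨v, -, huniq⟩ := hreg a b c (Ne.symm hab) (Ne.symm hac)
        have e1 : (⟨g * u * g⁻¹, hconj⟩ : (a : Subgroup G)) = v := huniq _ (by
          show (g * u * g⁻¹) • b = c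
          rw [mul_smul, mul_smul, inv_smul_eq_iff.2 hb.symm, hu, hc])
        exact congrArg Subtype.val (e1.trans (huniq u hu).symm)
      have hz : Subgroup.zpowers (u : G) = (a : Subgroup G) :=
        Subgroup.eq_of_le_of_card_ge (Subgroup.zpowers_le.2 u.2)
          (by rw [Nat.card_zpowers, orderOf_of_mem (hQcard a) u.2 hu1, hQcard])
      have hcomm : ∀ v ∈ (a : Subgroup G), g * v = v * g := by
        intro v hv
        rw [← hz] at hv
        obtain ⟨k, rfl⟩ := hv
        exact (Commute.zpow_right (mul_inv_eq_iff_eq_mul.1 heq) k).eq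
      refine FaithfulSMul.eq_of_smul_eq_smul (α := Sylow p G) fun R => ?_
      rw [one_smul]
      by_cases hR : R = a
      · rw [hR, ha]
      · obtain ⟨v, hv, -⟩ := hreg a b R (Ne.symm hab) hR
        rw [← hv, ← mul_smul, hcomm v v.2, mul_smul, hb]
    · haveI : Nontrivial ↥(stabilizer G P ⊓ stabilizer G Q : Subgroup G) := Finite.one_lt_card_iff_nontrivial.1 (by omega)
      obtain ⟨g, hg⟩ := exists_ne (1 : ↥(stabilizer G P ⊓ stabilizer G Q : Subgroup G))
      exact ⟨g, fun h => hg (Subtype.ext h), P, Q, Ne.symm hQP, g.2.1, g.2.2⟩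
    · intro N hN htr
      rcases IsSimpleGroup.eq_bot_or_eq_top_of_normal N hN with h | h
      · subst h
        obtain ⟨x, hx⟩ := htr.exists_smul_eq P Q
        exact absurd (by rw [← hx, Subgroup.smul_def, Subgroup.mem_bot.1 x.2, one_smul]) hQP
      · subst h
        refine ⟨P, fun hb => ?_⟩
        haveI : Nontrivial (P : Subgroup G) := Finite.one_lt_card_iff_nontrivial.1 (by rw [hP]; omega)
        obtain ⟨u, hu⟩ := exists_ne (1 : (P : Subgroup G))
        have : (⟨(u : G), Subgroup.mem_top _⟩ : (⊤ : Subgroup G)) ∈ stabilizer (⊤ : Subgroup G) P :=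
          MulAction.mem_stabilizer_iff.2 (Sylow.smul_eq_iff_mem_normalizer.2 (Subgroup.le_normalizer u.2))
        rw [hb, Subgroup.mem_bot] at this
        exact hu (Subtype.ext (congrArg Subtype.val this :))
  have hFn : (((P : Subgroup G)).subgroupOf (stabilizer G P)).Normal := by
    constructor
    intro n hn' g
    rw [Subgroup.mem_subgroupOf] at hn' ⊢
    exact (Subgroup.mem_normalizer_iff.1 (Sylow.smul_eq_iff_mem_normalizer.1 g.2) _).1 hn'
  haveI : IsCyclic (P : Subgroup G) := isCyclic_of_prime_card hP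
  rcases Cfsg.Agent.S0731.result hZ P (P : Subgroup G)
      (fun u hu => Sylow.smul_eq_iff_mem_normalizer.2 (Subgroup.le_normalizer hu)) hFn IsCyclic.isMulCommutative
      (fun y z => hreg P y z) with ⟨h3, hsharp⟩ | ⟨K, _, _, hK, ⟨e⟩⟩
  · exfalso
    obtain ⟨x⟩ : Nonempty (Fin 3 ↪ Sylow p G) :=
      Function.Embedding.nonempty_of_card_le (by rw [Fintype.card_fin, ← Nat.card_eq_fintype_card, hn]; omega)
    have h1 := @MulAction.index_stabilizer_of_transitive G (Fin 3 ↪ Sylow p G) _ _ x h3
    rw [hsharp x, Subgroup.index_bot, Nat.card_eq_fintype_card (α := Fin 3 ↪ Sylow p G), Fintype.card_embedding_eq,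
      Fintype.card_fin, ← Nat.card_eq_fintype_card, hn] at h1
    have e2 : p ^ 2 - 1 = (p + 1) * (p - 1) := by
      rw [show p ^ 2 - 1 = p ^ 2 - 1 ^ 2 by rw [one_pow], Nat.sq_sub_sq]
    rw [e2, h1, show (p + 1).descFactorial 3 = (p + 1) * (p * (p - 1)) by
      simp [Nat.descFactorial]; ring] at hcard
    have hne : p * ((p + 1) * (p - 1)) ≠ 0 := Nat.mul_ne_zero (by omega) (Nat.mul_ne_zero (by omega) (by omega))
    have : p * ((p + 1) * (p - 1)) = (p + 1) * (p * (p - 1)) := by ring
    omega
  · have hodd : Fintype.card K % 2 = 1 := FiniteField.odd_card_of_char_ne_two hK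
    have hk := Cfsg.Agent.Lib.Geometry.Dickson.card_PSL2_odd (F := K) hodd
    rw [← Nat.card_congr e.toEquiv, hcard] at hk
    have hKp : Fintype.card K = p := by
      by_contra hne
      have mono : ∀ a b : ℕ, 0 < a → a < b → a * (a ^ 2 - 1) < b * (b ^ 2 - 1) := fun a b ha h => by
        have h2 : 2 ≤ b := by omega
        have hb : 0 < b ^ 2 - 1 := by
          have : 2 ^ 2 ≤ b ^ 2 := Nat.pow_le_pow_left h2 2
          omega
        have : a ^ 2 ≤ b ^ 2 := Nat.pow_le_pow_left h.le 2
        exact lt_of_le_of_lt (Nat.mul_le_mul_left a (by omega : a ^ 2 - 1 ≤ b ^ 2 - 1))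
          (Nat.mul_lt_mul_of_pos_right h hb)
      rcases Nat.lt_or_gt_of_ne hne with h | h
      · have := mono _ _ Fintype.card_pos h
        omega
      · have := mono _ _ (by omega) h
        omega
    exact ⟨e.trans (Cfsg.Agent.Lib.Classical.pslCongrOfCardEq (by rw [hKp, hF]))⟩

end Cfsg.Agent.Lib.SylowCounting
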