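import Cfsg.Agent.Lib.Characters.Basic
import Mathlib.LinearAlgebra.Trace
import Mathlib.LinearAlgebra.Determinant
import Mathlib.LinearAlgebra.Projection

/-!
# Traces and determinants of linear involutions and idempotents
-/

namespace Cfsg.Agent.Lib.SylowCounting

open LinearMap Module

universe v

variable {V : Type v} [AddCommGroup V] [Module ℂ V] [FiniteDimensional ℂ V]

/-- The trace of an idempotent is the dimension of its range. -/
theorem trace_idempotent {e : V →ₗ[ℂ] V} (he : IsIdempotentElem e) :
    LinearMap.trace ℂ V e = (finrank ℂ (LinearMap.range e) : ℂ) :=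
  ((LinearMap.isProj_range_iff_isIdempotentElem e).2 he).trace

/-- The determinant of `1 - 2 e` for an idempotent `e`. -/
theorem det_one_sub_two_smul {e : V →ₗ[ℂ] V} (he : IsIdempotentElem e) :
    LinearMap.det (1 - (2 : ℂ) • e) = (-1) ^ finrank ℂ (LinearMap.range e) := by
  have h := (LinearMap.isProj_range_iff_isIdempotentElem e).2 he
  set eq := Submodule.prodEquivOfIsCompl _ _ h.isCompl with heq
  have hconj : (1 - (2 : ℂ) • e) =
      eq.toLinearMap ∘ₗ LinearMap.prodMap ((-1 : ℂ) • LinearMap.id) LinearMap.id ∘ₗ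
        eq.symm.toLinearMap := by
    apply LinearMap.ext
    intro x
    obtain ⟨⟨a, b⟩, rfl⟩ := eq.surjective x
    have ha : e (a : V) = a := h.map_id _ a.2
    have hb : e (b : V) = 0 := b.2
    simp only [LinearMap.coe_comp, LinearEquiv.coe_coe, Function.comp_apply,
      LinearEquiv.symm_apply_apply, LinearMap.prodMap_apply, LinearMap.smul_apply,
      LinearMap.id_apply, LinearMap.sub_apply, Module.End.one_apply]
    simp only [heq, Submodule.coe_prodEquivOfIsCompl', map_add, ha, hb]
    simp only [add_zero, SetLike.val_smul, two_smul]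
    module
  rw [hconj, LinearMap.det_conj, LinearMap.det_prodMap, LinearMap.det_smul, LinearMap.det_id,
    LinearMap.det_id, mul_one, mul_one]

/-- An involution has trace `dim - 2 m` and determinant `(-1) ^ m`, `m` the dimension of its
`-1`-eigenspace; `m = 0` only for the identity. -/
theorem exists_minus_dim {A : V →ₗ[ℂ] V} (hA : A * A = 1) :
    ∃ m : ℕ, m ≤ finrank ℂ V ∧ LinearMap.trace ℂ V A = (finrank ℂ V : ℂ) - 2 * m ∧
      LinearMap.det A = (-1) ^ m ∧ (m = 0 → A = 1) ∧ (m = finrank ℂ V → A = -1) := by
  set e : V →ₗ[ℂ] V := (2⁻¹ : ℂ) • (1 - A) with hedef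
  have he : IsIdempotentElem e := by
    rw [IsIdempotentElem, hedef, smul_mul_assoc, mul_smul_comm, sub_mul, mul_sub, mul_sub, hA,
      one_mul, mul_one]
    module
  have hA' : A = 1 - (2 : ℂ) • e := by
    rw [hedef, smul_smul]; norm_num
  refine ⟨finrank ℂ (LinearMap.range e), Submodule.finrank_le _, ?_, ?_, ?_, ?_⟩
  · conv_lhs => rw [hA']
    rw [map_sub, map_smul, trace_idempotent he, LinearMap.trace_one, smul_eq_mul]
  · conv_lhs => rw [hA']
    exact det_one_sub_two_smul he
  · intro h0
    rw [Submodule.finrank_eq_zero, LinearMap.range_eq_bot] at h0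
    rw [hA', h0]; simp
  · intro h0
    have htop := Submodule.eq_top_of_finrank_eq h0
    have : e = 1 := by
      apply LinearMap.ext
      intro x
      obtain ⟨y, rfl⟩ := LinearMap.range_eq_top.1 htop x
      simpa using congrArg (fun f : V →ₗ[ℂ] V => f y) he
    rw [hA', this]; module

end Cfsg.Agent.Lib.SylowCounting
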