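import Cfsg.Agent.Lib.SylowCounting.Counting
import Cfsg.Agent.Lib.SylowCounting.ConjClass
import Mathlib.GroupTheory.Transfer
import Mathlib.GroupTheory.SpecificGroups.Cyclic
import Mathlib.GroupTheory.PGroup

namespace Cfsg.Agent.Lib.SylowCounting

variable {G : Type*} [Group G] [Finite G]

/-- Burnside transfer: in a nonabelian simple group no non-trivial Sylow subgroup is central in its normaliser. -/
theorem not_normalizer_le_centralizer [IsSimpleGroup G] (hG : ¬ IsMulCommutative G) {p : ℕ}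
    [hp : Fact p.Prime] (P : Sylow p G) (hdvd : p ∣ Nat.card G) :
    ¬ Subgroup.normalizer ((P : Subgroup G) : Set G) ≤ Subgroup.centralizer ((P : Subgroup G) : Set G) := by
  intro h
  have hc := MonoidHom.ker_transferSylow_isComplement' P h
  rcases IsSimpleGroup.eq_bot_or_eq_top_of_normal _ (MonoidHom.transferSylow P h).normal_ker with hb | ht
  · rw [hb] at hc
    have hPt : (P : Subgroup G) = ⊤ := Subgroup.isComplement'_bot_left.1 hc
    apply hG
    refine ⟨⟨fun a b => ?_⟩⟩
    have hb' : b ∈ Subgroup.centralizer ((P : Subgroup G) : Set G) :=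
      h (Subgroup.le_normalizer (hPt ▸ Subgroup.mem_top b))
    exact Subgroup.mem_centralizer_iff.1 hb' a (hPt ▸ Subgroup.mem_top a)
  · rw [ht] at hc
    exact P.ne_bot_of_dvd_card hdvd (Subgroup.isComplement'_top_left.1 hc)

/-- If `|P| = p` then `|N(P)| = e |C(P)|` with `1 < e`, `e ∣ p - 1`, and `p ∣ |C(P)|`. -/
theorem normalizer_card_eq [IsSimpleGroup G] (hG : ¬ IsMulCommutative G) {p : ℕ}
    [hp : Fact p.Prime] (P : Sylow p G) (hP : Nat.card (P : Subgroup G) = p) :
    ∃ e c : ℕ, Nat.card (Subgroup.normalizer ((P : Subgroup G) : Set G)) = e * c ∧ 1 < e ∧ e ∣ p - 1 ∧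
      p ∣ c ∧ c = Nat.card (Subgroup.centralizer ((P : Subgroup G) : Set G)) := by
  set N := Subgroup.normalizer ((P : Subgroup G) : Set G)
  set C := Subgroup.centralizer ((P : Subgroup G) : Set G)
  have hdvd : p ∣ Nat.card G := by
    have := (P : Subgroup G).card_subgroup_dvd_card
    rwa [hP] at this
  haveI : IsCyclic (P : Subgroup G) := isCyclic_of_prime_card hP
  have hle : C ≤ N := Subgroup.centralizer_le_normalizer _
  refine ⟨C.relIndex N, Nat.card C, ?_, ?_, ?_, ?_, rfl⟩
  · rw [← Subgroup.relIndex_bot_left, ← Subgroup.relIndex_bot_left, mul_comm,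
      Subgroup.relIndex_mul_relIndex _ _ _ bot_le hle]
  · have h0 : C.relIndex N ≠ 0 := (C.subgroupOf N).index_ne_zero_of_finite
    have h1 : C.relIndex N ≠ 1 := fun h =>
      not_normalizer_le_centralizer hG P hdvd (Subgroup.relIndex_eq_one.1 h)
    omega
  · have h := Subgroup.card_dvd_of_injective _
      (QuotientGroup.kerLift_injective (Subgroup.normalizerMonoidHom (P : Subgroup G)))
    rw [Subgroup.normalizerMonoidHom_ker, ← Subgroup.index,
      IsCyclic.card_mulAut (P : Subgroup G), hP, Nat.totient_prime hp.out] at h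
    exact h
  · have : (P : Subgroup G) ≤ C := by
      haveI : IsMulCommutative (P : Subgroup G) := IsCyclic.isMulCommutative
      exact Subgroup.le_centralizer _
    rw [← hP]
    exact Subgroup.card_dvd_of_le this

theorem orderOf_of_mem {p : ℕ} [hp : Fact p.Prime] {H : Subgroup G} (hH : Nat.card H = p) {z : G}
    (hz : z ∈ H) (hne : z ≠ 1) : orderOf z = p := by
  have h := H.orderOf_dvd_natCard hz
  rw [hH] at h
  exact ((Nat.dvd_prime hp.out).1 h).resolve_left fun h => hne (orderOf_eq_one_iff.1 h)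

/-- Elements of `N(P)` of order `p` lie in `P`. -/
theorem mem_sylow_of_orderOf {p : ℕ} [hp : Fact p.Prime] (P : Sylow p G) {y : G}
    (hy : y ∈ Subgroup.normalizer ((P : Subgroup G) : Set G)) {k : ℕ} (ho : orderOf y = p ^ k) :
    y ∈ (P : Subgroup G) := by
  have hT : IsPGroup p (Subgroup.zpowers y) := IsPGroup.of_card (by rw [Nat.card_zpowers, ho])
  have h := hT.to_sup_of_normal_right' P.isPGroup' (Subgroup.zpowers_le.2 hy)
  rw [← P.is_maximal' h le_sup_right]
  exact Subgroup.mem_sup_left (Subgroup.mem_zpowers y)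

/-- An element of order `p` fixes exactly one coset of `N(P)` when `|P| = p`. -/
theorem card_fixedBy_eq_one {p : ℕ} [hp : Fact p.Prime] (P : Sylow p G)
    (hP : Nat.card (P : Subgroup G) = p) (y : G) (hy : orderOf y = p) :
    Nat.card (MulAction.fixedBy (G ⧸ Subgroup.normalizer ((P : Subgroup G) : Set G)) y) = 1 := by
  set N := Subgroup.normalizer ((P : Subgroup G) : Set G) with hN
  have hiff : ∀ g : G, (QuotientGroup.mk g : G ⧸ N) ∈ MulAction.fixedBy (G ⧸ N) y ↔
      g⁻¹ * y * g ∈ (P : Subgroup G) := by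
    intro g
    rw [MulAction.mem_fixedBy, MulAction.Quotient.smul_mk, smul_eq_mul, eq_comm, QuotientGroup.eq, ← mul_assoc]
    refine ⟨fun h => mem_sylow_of_orderOf P h (k := 1) ?_, fun h => Subgroup.le_normalizer h⟩
    rw [pow_one, ← hy]
    simpa using ((MulAut.conj g⁻¹).orderOf_eq y)
  rw [Nat.card_eq_one_iff_unique]
  refine ⟨⟨fun a b => ?_⟩, ?_⟩
  · obtain ⟨a, ha⟩ := a
    obtain ⟨b, hb⟩ := b
    induction a using QuotientGroup.induction_on with
    | H g =>
      induction b using QuotientGroup.induction_on with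
      | H h =>
        have h1 := (hiff g).1 ha
        have h2 := (hiff h).1 hb
        refine Subtype.ext (QuotientGroup.eq.2 ?_)
        have gen : ∀ z : G, z ∈ (P : Subgroup G) → orderOf z = p → Subgroup.zpowers z = (P : Subgroup G) :=
          fun z hz hzo => Subgroup.eq_of_le_of_card_ge (Subgroup.zpowers_le.2 hz)
            (by rw [Nat.card_zpowers, hzo, hP])
        have e1 := gen _ h1 (by rw [← hy]; simpa using ((MulAut.conj g⁻¹).orderOf_eq y))
        have e2 := gen _ h2 (by rw [← hy]; simpa using ((MulAut.conj h⁻¹).orderOf_eq y))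
        rw [← Subgroup.inv_mem_iff, mul_inv_rev, inv_inv, hN, Subgroup.mem_normalizer_iff_map_conj_eq]
        conv_lhs => rw [← e1]
        rw [MonoidHom.map_zpowers]
        rw [← e2]
        congr 1
        simp only [MonoidHom.coe_coe, MulAut.conj_apply]
        group
  · obtain ⟨Q, hQ⟩ := (IsPGroup.of_card (G := Subgroup.zpowers y) (n := 1)
      (by rw [Nat.card_zpowers, hy, pow_one])).exists_le_sylow
    obtain ⟨g, rfl⟩ := MulAction.exists_smul_eq G P Q
    refine ⟨⟨QuotientGroup.mk g, (hiff g).2 ?_⟩⟩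
    have h := hQ (Subgroup.mem_zpowers y)
    rw [Sylow.coe_subgroup_smul, Subgroup.mem_pointwise_smul_iff_inv_smul_mem] at h
    simpa using h

/-- An element of `N(P) \ C(P)` fixes at most one point in each `P`-orbit. -/
theorem card_fixedBy_le_orbits {p : ℕ} [hp : Fact p.Prime] (P : Sylow p G)
    (hP : Nat.card (P : Subgroup G) = p) (x : G)
    (hx : x ∈ Subgroup.normalizer ((P : Subgroup G) : Set G))
    (hx' : x ∉ Subgroup.centralizer ((P : Subgroup G) : Set G)) :
    Nat.card (MulAction.fixedBy (G ⧸ Subgroup.normalizer ((P : Subgroup G) : Set G)) x) ≤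
      Nat.card (MulAction.orbitRel.Quotient (P : Subgroup G)
        (G ⧸ Subgroup.normalizer ((P : Subgroup G) : Set G))) := by
  set N := Subgroup.normalizer ((P : Subgroup G) : Set G) with hN
  refine Nat.card_le_card_of_injective
    (fun a => (Quotient.mk'' a.1 : MulAction.orbitRel.Quotient (P : Subgroup G) (G ⧸ N))) ?_
  intro a b hab
  obtain ⟨u, hu⟩ : a.1 ∈ MulAction.orbit (P : Subgroup G) b.1 :=
    MulAction.orbitRel_apply.1 (Quotient.eq''.1 hab)
  have hu' : (u : G) • b.1 = a.1 := hu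
  by_cases h1 : (u : G) = 1
  · rw [h1, one_smul] at hu'
    exact Subtype.ext hu'.symm
  have ho : ∀ z : G, z ∈ (P : Subgroup G) → z ≠ 1 → orderOf z = p := fun z hz hne =>
    orderOf_of_mem hP hz hne
  -- `x` moves `u`
  have hne : x * (u : G) * x⁻¹ ≠ u := by
    intro h
    apply hx'
    rw [Subgroup.mem_centralizer_iff]
    intro z hz
    have hgen : Subgroup.zpowers (u : G) = (P : Subgroup G) :=
      Subgroup.eq_of_le_of_card_ge (Subgroup.zpowers_le.2 u.2)
        (by rw [Nat.card_zpowers, ho _ u.2 h1, hP])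
    rw [← hgen] at hz
    obtain ⟨i, rfl⟩ := Subgroup.mem_zpowers_iff.1 hz
    have hcomm : Commute x (u : G) := mul_inv_eq_iff_eq_mul.1 h
    exact (hcomm.zpow_right i).eq.symm
  have hw : (u : G)⁻¹ * (x * (u : G) * x⁻¹) ∈ (P : Subgroup G) :=
    mul_mem (inv_mem u.2) ((Subgroup.mem_normalizer_iff.1 hx (u : G)).1 u.2)
  have hw1 : (u : G)⁻¹ * (x * (u : G) * x⁻¹) ≠ 1 := fun h => hne (inv_mul_eq_one.1 h).symm
  have hfa : x • a.1 = a.1 := a.2
  have hfb : x • b.1 = b.1 := b.2
  have hwb : ((u : G)⁻¹ * (x * (u : G) * x⁻¹)) • b.1 = b.1 := by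
    rw [mul_smul, mul_smul, mul_smul, inv_smul_eq_iff.2 hfb.symm, hu', hfa, ← hu', inv_smul_smul]
  have hub : (u : G) • b.1 = b.1 := by
    have hgen : Subgroup.zpowers ((u : G)⁻¹ * (x * (u : G) * x⁻¹)) = (P : Subgroup G) :=
      Subgroup.eq_of_le_of_card_ge (Subgroup.zpowers_le.2 hw)
        (by rw [Nat.card_zpowers, ho _ hw hw1, hP])
    have hmem : Subgroup.zpowers ((u : G)⁻¹ * (x * (u : G) * x⁻¹)) ≤ MulAction.stabilizer G b.1 :=
      Subgroup.zpowers_le.2 hwb
    exact hmem (hgen.symm ▸ u.2)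
  exact Subtype.ext (hu'.symm.trans hub)

/-- `p (#orbits of P) + 1 = n_p + p` for `|P| = p`. -/
theorem orbits_mul_eq {p : ℕ} [hp : Fact p.Prime] (P : Sylow p G)
    (hP : Nat.card (P : Subgroup G) = p) :
    Nat.card (MulAction.orbitRel.Quotient (P : Subgroup G)
      (G ⧸ Subgroup.normalizer ((P : Subgroup G) : Set G))) * p + 1 = Nat.card (Sylow p G) + p := by
  classical
  set N := Subgroup.normalizer ((P : Subgroup G) : Set G) with hN
  haveI : Fintype (P : Subgroup G) := Fintype.ofFinite _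
  haveI : Fintype (MulAction.orbitRel.Quotient (P : Subgroup G) (G ⧸ N)) := Fintype.ofFinite _
  haveI : ∀ a : (P : Subgroup G), Fintype (MulAction.fixedBy (G ⧸ N) a) := fun a => Fintype.ofFinite _
  have h := MulAction.sum_card_fixedBy_eq_card_orbits_mul_card_group (P : Subgroup G) (G ⧸ N)
  simp only [← Nat.card_eq_fintype_card] at h
  rw [hP] at h
  rw [← h, ← Finset.sum_erase_add _ _ (Finset.mem_univ (1 : (P : Subgroup G)))]
  have h1 : Nat.card (MulAction.fixedBy (G ⧸ N) (1 : (P : Subgroup G))) = Nat.card (Sylow p G) := by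
    rw [show MulAction.fixedBy (G ⧸ N) (1 : (P : Subgroup G)) = Set.univ from
      Set.eq_univ_of_forall fun a => one_smul _ a, Nat.card_univ, ← Subgroup.index_eq_card, hN, P.coe_coe,
      ← P.card_eq_index_normalizer]
  have h2 : ∀ a ∈ (Finset.univ : Finset (P : Subgroup G)).erase 1,
      Nat.card (MulAction.fixedBy (G ⧸ N) a) = 1 := by
    intro a ha
    have ha1 : (a : G) ≠ 1 := fun h => (Finset.mem_erase.1 ha).1 (Subtype.ext h)
    exact card_fixedBy_eq_one P hP (a : G)
      (orderOf_of_mem hP a.2 ha1)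
  rw [Finset.sum_congr rfl h2, h1, Finset.sum_const, smul_eq_mul, mul_one,
    Finset.card_erase_of_mem (Finset.mem_univ _), Finset.card_univ, ← Nat.card_eq_fintype_card, hP]
  have := hp.out.pos
  omega

/-- The class of `x ∈ N(P) \ C(P)` is large: `n_p p² ≤ (n_p + p - 1) |x^G|`. -/
theorem class_lower_bound {p : ℕ} [hp : Fact p.Prime] (P : Sylow p G)
    (hP : Nat.card (P : Subgroup G) = p) (x : G)
    (hx : x ∈ Subgroup.normalizer ((P : Subgroup G) : Set G))
    (hx' : x ∉ Subgroup.centralizer ((P : Subgroup G) : Set G)) :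
    Nat.card (Sylow p G) * p * p ≤
      (Nat.card (Sylow p G) + p - 1) * Nat.card {g : G // IsConj x g} := by
  set N := Subgroup.normalizer ((P : Subgroup G) : Set G) with hN
  have hidx : N.index = Nat.card (Sylow p G) := by rw [hN, P.card_eq_index_normalizer, P.coe_coe]
  have hcount : Nat.card (MulAction.fixedBy (G ⧸ N) x) * Nat.card {g : G // IsConj x g} =
      N.index * Nat.card {g : G // IsConj x g ∧ g ∈ N} := fixedBy_mul_class N x
  have hge : p ≤ Nat.card {g : G // IsConj x g ∧ g ∈ N} := by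
    rw [← hP]
    refine Nat.card_le_card_of_injective (fun u : (P : Subgroup G) =>
      (⟨(u : G) * x * (u : G)⁻¹, isConj_iff.2 ⟨u, rfl⟩,
        mul_mem (mul_mem (Subgroup.le_normalizer u.2) hx) (inv_mem (Subgroup.le_normalizer u.2))⟩ :
        {g : G // IsConj x g ∧ g ∈ N})) ?_
    intro u v huv
    have h := congrArg Subtype.val huv
    simp only at h
    by_contra hne
    apply hx'
    rw [Subgroup.mem_centralizer_iff]
    have hz : ((v : G)⁻¹ * u) ∈ (P : Subgroup G) := mul_mem (inv_mem v.2) u.2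
    have hz1 : (v : G)⁻¹ * u ≠ 1 := fun h1 => hne (Subtype.ext (inv_mul_eq_one.1 h1).symm)
    have hgen : Subgroup.zpowers ((v : G)⁻¹ * u) = (P : Subgroup G) :=
      Subgroup.eq_of_le_of_card_ge (Subgroup.zpowers_le.2 hz) (by
        rw [Nat.card_zpowers, orderOf_of_mem hP hz hz1, hP])
    have hcomm : Commute x ((v : G)⁻¹ * u) := by
      show x * ((v : G)⁻¹ * u) = (v : G)⁻¹ * u * x
      calc x * ((v : G)⁻¹ * u) = (v : G)⁻¹ * ((v : G) * x * (v : G)⁻¹) * u := by group
        _ = (v : G)⁻¹ * ((u : G) * x * (u : G)⁻¹) * u := by rw [h]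
        _ = (v : G)⁻¹ * u * x := by group
    intro z hzP
    rw [← hgen] at hzP
    obtain ⟨i, rfl⟩ := Subgroup.mem_zpowers_iff.1 hzP
    exact (hcomm.zpow_right i).eq.symm
  have hfix := card_fixedBy_le_orbits P hP x hx hx'
  have horb := orbits_mul_eq P hP
  rw [← hN] at hfix horb
  rw [hidx] at hcount
  calc Nat.card (Sylow p G) * p * p
      ≤ Nat.card (Sylow p G) * Nat.card {g : G // IsConj x g ∧ g ∈ N} * p :=
        Nat.mul_le_mul_right _ (Nat.mul_le_mul_left _ hge)
    _ = (Nat.card (MulAction.fixedBy (G ⧸ N) x) * p) * Nat.card {g : G // IsConj x g} := by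
        rw [← hcount]; ring
    _ ≤ _ := by
        refine Nat.mul_le_mul_right _ ?_
        have h3 := Nat.mul_le_mul_right p hfix
        omega

end Cfsg.Agent.Lib.SylowCounting
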