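import Cfsg.Agent.Lib.SylowCounting.DegreeFamily

/-!
# Pairs of conjugate involutions whose product is singular in `C(P)`
-/

namespace Cfsg.Agent.Lib.SylowCounting

set_option linter.unusedSectionVars false
set_option linter.style.haveILetI false

universe u

variable {G : Type u} [Group G] [Fintype G]

open scoped Classical in
/-- Summing over the conjugates of an element with multiplicity. -/
theorem sum_conj_eq (t : G) (F : G → ℂ) :
    ∑ g : G, F (g * t * g⁻¹) = (Nat.card (Subgroup.centralizer ({t} : Set G)) : ℂ) *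
      ∑ u ∈ Finset.univ.filter (fun u => IsConj t u), F u := by
  rw [← Finset.sum_fiberwise_of_maps_to (s := Finset.univ)
    (t := Finset.univ.filter (fun u => IsConj t u)) (g := fun g : G => g * t * g⁻¹)
    (fun g _ => Finset.mem_filter.2 ⟨Finset.mem_univ _, isConj_iff.2 ⟨g, rfl⟩⟩)
    (fun g => F (g * t * g⁻¹)), Finset.mul_sum]
  refine Finset.sum_congr rfl fun u hu => ?_
  obtain ⟨c, rfl⟩ := isConj_iff.1 (Finset.mem_filter.1 hu).2
  rw [Finset.sum_congr rfl fun g hg => by rw [(Finset.mem_filter.mp hg).2], Finset.sum_const,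
    nsmul_eq_mul]
  congr 1
  rw [Nat.cast_inj, ← Fintype.card_subtype, Nat.card_eq_fintype_card]
  refine Fintype.card_congr ((Equiv.mulLeft c⁻¹).subtypeEquiv fun g => ?_)
  simp only [Equiv.coe_mulLeft, Subgroup.mem_centralizer_singleton_iff]
  constructor
  · intro hg
    calc c⁻¹ * g * t = c⁻¹ * (g * t * g⁻¹) * g := by group
      _ = c⁻¹ * (c * t * c⁻¹) * g := by rw [hg]
      _ = t * (c⁻¹ * g) := by group
  · intro hg
    calc g * t * g⁻¹ = c * (c⁻¹ * g * t) * g⁻¹ := by group
      _ = c * (t * (c⁻¹ * g)) * g⁻¹ := by rw [hg]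
      _ = c * t * c⁻¹ := by group

open scoped Classical in
/-- Let `N(P)` induce inversion on `P` outside `C(P)`. The ordered pairs of conjugates of the
involution `t` with product in `C(P)` and of order divisible by `p` are counted by the conjugates
in `N(P) \ C(P)`. -/
theorem singular_pairs_card {p h : ℕ} (hp : p.Prime) (hp2 : p ≠ 2) (P : Subgroup G)
    (hP : Nat.card P = p) (C : Subgroup G) (hCdef : C = Subgroup.centralizer (P : Set G))
    (hC : Nat.card C = p * h) (hph : ¬ p ∣ h)
    (hidx : (C.subgroupOf (Subgroup.normalizer (P : Set G))).index = 2)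
    (hinv : ∀ x ∈ Subgroup.normalizer (P : Set G), x ∉ C → ∀ a ∈ P, x⁻¹ * a * x = a⁻¹)
    (t : G) (ht : t * t = 1) :
    p * (((Finset.univ.filter (fun u => IsConj t u)) ×ˢ
        (Finset.univ.filter (fun u => IsConj t u))).filter
          (fun uv : G × G => uv.1 * uv.2 ∈ C ∧ (uv.1 * uv.2) ^ h ≠ 1)).card =
      (Finset.univ.filter (fun u => IsConj t u ∧ u ∈ Subgroup.normalizer (P : Set G) ∧
        u ∉ C)).card ^ 2 * (p - 1) := by
  haveI := Fact.mk hp
  haveI : IsCyclic P := isCyclic_of_prime_card hP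
  subst hCdef
  set C := Subgroup.centralizer (P : Set G) with hCdef
  set N := Subgroup.normalizer (P : Set G) with hNdef
  set cls := Finset.univ.filter (fun u => IsConj t u) with hcls
  set I := Finset.univ.filter (fun u => IsConj t u ∧ u ∈ N ∧ u ∉ C) with hI
  have hmemI : ∀ u, u ∈ I ↔ IsConj t u ∧ u ∈ N ∧ u ∉ C := fun u => by simp [hI]
  have hsq : ∀ u, IsConj t u → u⁻¹ = u := by
    intro u hu
    obtain ⟨c, rfl⟩ := isConj_iff.1 hu
    refine inv_eq_of_mul_eq_one_right ?_
    calc c * t * c⁻¹ * (c * t * c⁻¹) = c * (t * t) * c⁻¹ := by group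
      _ = 1 := by rw [ht]; group
  have hPC : P ≤ C := fun a ha => Subgroup.mem_centralizer_iff.2 fun b hb =>
    congrArg Subtype.val ((IsCyclic.commGroup (α := P)).mul_comm ⟨b, hb⟩ ⟨a, ha⟩)
  have hCN : C ≤ N := Subgroup.centralizer_le_normalizer _
  have hpow : ∀ {y : G}, y ∈ C → y ^ h ∈ P := fun hy =>
    pow_mem_of_mem_centralizer hp P hP hC hy
  have hordP : ∀ a ∈ P, a ^ p = 1 := fun a ha => by
    have := congrArg Subtype.val (pow_card_eq_one' (x := (⟨a, ha⟩ : P)))
    rwa [hP, SubmonoidClass.coe_pow, OneMemClass.coe_one] at this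
  have hpow_inj : ∀ k, ¬ p ∣ k → ∀ a ∈ P, a ^ k = 1 → a = 1 := by
    intro k hk a ha h1
    have hd := Nat.dvd_gcd (orderOf_dvd_of_pow_eq_one (hordP a ha)) (orderOf_dvd_of_pow_eq_one h1)
    rw [(hp.coprime_iff_not_dvd.2 hk).gcd_eq_one, Nat.dvd_one, orderOf_eq_one_iff] at hd
    exact hd
  -- products inside `N \ C` fall into `C`
  have hprod : ∀ u v, u ∈ I → v ∈ I → u * v ∈ C := by
    intro u v hu hv
    obtain ⟨-, huN, huC⟩ := (hmemI u).1 hu
    obtain ⟨-, hvN, hvC⟩ := (hmemI v).1 hv
    have h1 := (Subgroup.mul_mem_iff_of_index_two hidx (a := (⟨u, huN⟩ : N))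
      (b := ⟨v, hvN⟩)).2 (iff_of_false (by simpa [Subgroup.mem_subgroupOf] using huC)
        (by simpa [Subgroup.mem_subgroupOf] using hvC))
    simpa [Subgroup.mem_subgroupOf] using h1
  have hset : (cls ×ˢ cls).filter
      (fun uv : G × G => uv.1 * uv.2 ∈ C ∧ (uv.1 * uv.2) ^ h ≠ 1) =
      (I ×ˢ I).filter (fun uv : G × G => (uv.1 * uv.2) ^ h ≠ 1) := by
    ext ⟨u, v⟩
    simp only [Finset.mem_filter, Finset.mem_product, hcls, Finset.mem_univ, true_and, hmemI]
    constructor
    · rintro ⟨⟨hu, hv⟩, hzC, hz⟩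
      have hwP := hpow hzC
      have hu' := hsq u hu
      have hv' := hsq v hv
      have hzinv : u * (u * v) * u⁻¹ = (u * v)⁻¹ := by
        rw [mul_inv_rev, hu', hv', ← mul_assoc, show u * u = 1 from by
          nth_rewrite 1 [← hu']; exact inv_mul_cancel u, one_mul]
      have hwinv : u * (u * v) ^ h * u⁻¹ = ((u * v) ^ h)⁻¹ := by
        rw [← conj_pow, hzinv, inv_pow]
      have huN : u ∈ N := by
        refine Subgroup.mem_normalizer_iff.2 fun a => ?_
        constructor
        · intro ha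
          obtain ⟨i, hi⟩ := Subgroup.mem_zpowers_iff.1
            (mem_zpowers_of_prime_card (g := (⟨_, hwP⟩ : P)) (g' := ⟨a, ha⟩) hP
              (fun h1 => hz (congrArg Subtype.val h1)))
          have hi' : ((u * v) ^ h) ^ i = a := by simpa using congrArg Subtype.val hi
          rw [← hi', ← conj_zpow, hwinv]
          exact P.zpow_mem (P.inv_mem hwP) i
        · intro ha
          obtain ⟨i, hi⟩ := Subgroup.mem_zpowers_iff.1
            (mem_zpowers_of_prime_card (g := (⟨_, hwP⟩ : P)) (g' := ⟨_, ha⟩) hP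
              (fun h1 => hz (congrArg Subtype.val h1)))
          have hi' : ((u * v) ^ h) ^ i = u * a * u⁻¹ := by simpa using congrArg Subtype.val hi
          have : a = (((u * v) ^ h)⁻¹) ^ i := by
            rw [← hwinv, conj_zpow, hi']
            calc a = (u * u) * a * (u * u)⁻¹ := by
                  rw [show u * u = 1 from by nth_rewrite 1 [← hu']; exact inv_mul_cancel u]; simp
              _ = u * (u * a * u⁻¹) * u⁻¹ := by group
          rw [this]; exact P.zpow_mem (P.inv_mem hwP) i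
      have huC : u ∉ C := by
        intro huC
        have h1 : u * (u * v) ^ h * u⁻¹ = (u * v) ^ h := by
          rw [← Subgroup.mem_centralizer_iff.1 huC _ hwP, mul_inv_cancel_right]
        rw [hwinv, inv_eq_iff_mul_eq_one, ← pow_two] at h1
        exact hz (hpow_inj 2 (fun hd => hp2 ((Nat.prime_dvd_prime_iff_eq hp Nat.prime_two).1 hd))
          _ hwP h1)
      have hvN : v ∈ N := by
        have h2 := N.mul_mem huN (hCN hzC)
        rwa [← mul_assoc, show u * u = 1 from by nth_rewrite 1 [← hu']; exact inv_mul_cancel u,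
          one_mul] at h2
      have hvC : v ∉ C := fun hvC => huC (by simpa using C.mul_mem hzC (C.inv_mem hvC))
      exact ⟨⟨⟨hu, huN, huC⟩, hv, hvN, hvC⟩, hz⟩
    · rintro ⟨⟨hu, hv⟩, hz⟩
      exact ⟨⟨hu.1, hv.1⟩, hprod u v ((hmemI u).2 hu) ((hmemI v).2 hv), hz⟩
  -- each `P`-block contains exactly one regular partner
  have hhp : ∀ a ∈ P, a ^ h = 1 → a = 1 := hpow_inj h hph
  have htrans : ∀ v ∈ I, ∀ a ∈ P, v * a ∈ I := by
    intro v hv a ha
    obtain ⟨hvt, hvN, hvC⟩ := (hmemI v).1 hv
    refine (hmemI _).2 ⟨?_, N.mul_mem hvN (hCN (hPC ha)), fun hC' =>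
      hvC (by simpa using C.mul_mem hC' (C.inv_mem (hPC ha)))⟩
    set b := a ^ ((p + 1) / 2) with hb
    have hbP : b ∈ P := P.pow_mem ha _
    have hb2 : b * b = a := by
      have hodd : (p + 1) / 2 + (p + 1) / 2 = p + 1 := by
        have := hp.odd_of_ne_two hp2
        obtain ⟨r, hr⟩ := this
        omega
      rw [hb, ← pow_add, hodd, pow_succ, hordP a ha, one_mul]
    refine hvt.trans (isConj_iff.2 ⟨b⁻¹, ?_⟩)
    have h1 := hinv v hvN hvC b⁻¹ (P.inv_mem hbP)
    rw [inv_inv] at h1
    calc b⁻¹ * v * (b⁻¹)⁻¹ = v * (v⁻¹ * b⁻¹ * v) * b := by group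
      _ = v * (b * b) := by rw [h1]; group
      _ = v * a := by rw [hb2]
  set bad := (I ×ˢ I).filter (fun uv : G × G => (uv.1 * uv.2) ^ h = 1) with hbad
  have hbij : (bad ×ˢ (Finset.univ : Finset P)).card = (I ×ˢ I).card := by
    refine Finset.card_bij (fun x _ => (x.1.1, x.1.2 * (x.2 : G))) ?_ ?_ ?_
    · rintro ⟨⟨u, v⟩, a⟩ hx
      simp only [Finset.mem_product, hbad, Finset.mem_filter, Finset.mem_univ, and_true] at hx
      exact Finset.mem_product.2 ⟨hx.1.1, htrans v hx.1.2 a a.2⟩
    · rintro ⟨⟨u, v⟩, a⟩ hx ⟨⟨u', v'⟩, a'⟩ hx' heq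
      simp only [Finset.mem_product, hbad, Finset.mem_filter, Finset.mem_univ, and_true] at hx hx'
      obtain ⟨h1, h2⟩ := Prod.mk.inj heq
      subst h1
      have e1 : (u * v * (a : G)) ^ h = (a : G) ^ h := by
        rw [mul_pow_of_mem_centralizer hp P hP hC (hprod u v hx.1.1 hx.1.2) (hPC a.2), hx.2,
          one_mul]
      have e2 : (u * v' * (a' : G)) ^ h = (a' : G) ^ h := by
        rw [mul_pow_of_mem_centralizer hp P hP hC (hprod u v' hx.1.1 hx'.1.2) (hPC a'.2), hx'.2,
          one_mul]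
      simp only at h2
      rw [mul_assoc, h2, ← mul_assoc, e2] at e1
      have e3 : ((a' : G) * (a : G)⁻¹) ^ h = 1 := by
        rw [mul_pow_of_mem_centralizer hp P hP hC (hPC a'.2) (C.inv_mem (hPC a.2)), e1, inv_pow,
          mul_inv_cancel]
      have e4 : a' = a := Subtype.ext (mul_inv_eq_one.1
        (hhp _ (P.mul_mem a'.2 (P.inv_mem a.2)) e3))
      subst e4
      rw [mul_left_inj] at h2
      rw [h2]
    · rintro ⟨u, v⟩ huv
      rw [Finset.mem_product] at huv
      have hinjP : Function.Injective (fun a : P => a ^ h) := fun a a' he => by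
        have h1 : ((a : G) * (a' : G)⁻¹) ^ h = 1 := by
          have he' : (a : G) ^ h = (a' : G) ^ h := by simpa using congrArg Subtype.val he
          rw [mul_pow_of_mem_centralizer hp P hP hC (hPC a.2) (C.inv_mem (hPC a'.2)), inv_pow,
            he', mul_inv_cancel]
        exact Subtype.ext (mul_inv_eq_one.1 (hhp _ (P.mul_mem a.2 (P.inv_mem a'.2)) h1))
      obtain ⟨a, ha⟩ := (Finite.injective_iff_surjective.1 hinjP)
        ⟨_, hpow (hprod u v huv.1 huv.2)⟩
      have ha' : (a : G) ^ h = (u * v) ^ h := by simpa using congrArg Subtype.val ha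
      refine ⟨((u, v * (a : G)⁻¹), a), ?_, by simp⟩
      simp only [Finset.mem_product, hbad, Finset.mem_filter, Finset.mem_univ, and_true]
      refine ⟨⟨huv.1, htrans v huv.2 _ (P.inv_mem a.2)⟩, ?_⟩
      rw [← mul_assoc, mul_pow_of_mem_centralizer hp P hP hC (hprod u v huv.1 huv.2)
        (C.inv_mem (hPC a.2)), inv_pow, ha', mul_inv_cancel]
  rw [hset]
  have hsum := Finset.card_filter_add_card_filter_not (s := I ×ˢ I)
    (fun uv : G × G => (uv.1 * uv.2) ^ h = 1)
  rw [← hbad, Finset.card_product] at hsum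
  rw [Finset.card_product, Finset.card_product, Finset.card_univ, ← Nat.card_eq_fintype_card,
    hP] at hbij
  rw [sq, Nat.mul_sub, mul_one]
  have key : p * ((I ×ˢ I).filter (fun uv : G × G => (uv.1 * uv.2) ^ h ≠ 1)).card +
      I.card * I.card = I.card * I.card * p := by
    calc _ = p * ((I ×ˢ I).filter (fun uv : G × G => (uv.1 * uv.2) ^ h ≠ 1)).card + bad.card * p
          := by rw [hbij]
      _ = p * (bad.card + ((I ×ˢ I).filter (fun uv : G × G => (uv.1 * uv.2) ^ h ≠ 1)).card) := by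
          ring
      _ = _ := by rw [show bad.card + ((I ×ˢ I).filter
            (fun uv : G × G => (uv.1 * uv.2) ^ h ≠ 1)).card = I.card * I.card from hsum]; ring
  omega

end Cfsg.Agent.Lib.SylowCounting
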