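import Cfsg.Agent.Lib.SylowCounting.DegreeTwist
import Cfsg.Agent.Lib.SylowCounting.InvolutionPairs
import Cfsg.Agent.Lib.SylowCounting.InvolutionTrace
import Cfsg.Agent.Lib.Characters.Convolution
import Mathlib.Algebra.Field.ZMod

/-!
# The degree equation for a Sylow subgroup of prime order with inertial index two

If `P` is a Sylow subgroup of prime order `p ≥ 5` and `|N(P) : C(P)| = 2`, then a non-abelian simple group has
irreducible degrees `d ≡ ±1 (mod p)` and `f = d ± 1`, the latter occurring `(p - 1) / 2` times.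
-/

namespace Cfsg.Agent.Lib.SylowCounting

open Cfsg.Agent.Lib.Characters
open scoped ComplexConjugate

set_option linter.unusedSectionVars false
set_option linter.style.haveILetI false

universe u

variable {ι : Type*} [Fintype ι]

/-- An integer vector of square sum two has exactly two entries, both `± 1`. -/
theorem two_support (c : ι → ℤ) (h : ∑ i, c i ^ 2 = 2) :
    ∃ a b, a ≠ b ∧ c a ^ 2 = 1 ∧ c b ^ 2 = 1 ∧ ∀ i, i ≠ a → i ≠ b → c i = 0 := by
  classical
  have hle : ∀ i, c i ^ 2 ≤ 1 := by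
    intro i
    have h1 : c i ^ 2 ≤ 2 := h ▸ Finset.single_le_sum (f := fun i => c i ^ 2)
      (fun j _ => sq_nonneg (c j)) (Finset.mem_univ i)
    have h2 : -1 ≤ c i ∧ c i ≤ 1 := by constructor <;> nlinarith
    obtain ⟨h3, h4⟩ := h2
    interval_cases c i <;> norm_num
  have hval : ∀ i, c i ^ 2 = if c i ≠ 0 then 1 else 0 := by
    intro i
    split_ifs with hi
    · have : 0 < c i ^ 2 := by positivity
      have := hle i
      omega
    · simp [not_ne_iff.1 hi]
  have hcard : (Finset.univ.filter fun i => c i ≠ 0).card = 2 := by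
    rw [Finset.sum_congr rfl fun i _ => hval i, Finset.sum_boole] at h
    exact_mod_cast h
  obtain ⟨a, b, hab, hs⟩ := Finset.card_eq_two.1 hcard
  have hmem : ∀ i, c i ≠ 0 ↔ i = a ∨ i = b := fun i => by
    simpa using Finset.ext_iff.1 hs i
  refine ⟨a, b, hab, ?_, ?_, fun i hia hib => ?_⟩
  · rw [hval, if_pos ((hmem a).2 (Or.inl rfl))]
  · rw [hval, if_pos ((hmem b).2 (Or.inr rfl))]
  · by_contra hi
    rcases (hmem i).1 hi with h' | h'
    · exact hia h'
    · exact hib h'

/-- A sum against a vector with two entries. -/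
theorem sum_two {R : Type*} [CommRing R] (c : ι → R) (w : ι → R) {a b : ι} (hab : a ≠ b)
    (h0 : ∀ i, i ≠ a → i ≠ b → c i = 0) : ∑ i, c i * w i = c a * w a + c b * w b :=
  Fintype.sum_eq_add a b hab fun i hi => by rw [h0 i hi.1 hi.2, zero_mul]

/-- A family of two-entry vectors meeting in one entry has a common entry. -/
theorem exists_common {κ : Type*} (v : κ → ι → ℤ) (D : ι → ℤ) (k₁ k₂ : κ)
    (hnorm : ∀ k, ∑ i, v k i ^ 2 = 2)
    (hdot : ∀ j k, (∑ i, v j i * v k i) = 1 ∨ (∑ i, v j i * v k i) = 2)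
    (h12 : (∑ i, v k₁ i * v k₂ i) = 1)
    (hdeg : ∀ k, ∑ i, v k i * D i = -1) :
    ∃ a, v k₁ a ^ 2 = 1 ∧ ∀ k, v k a = v k₁ a := by
  classical
  obtain ⟨a, b, hab, hva, hvb, hv0⟩ := two_support _ (hnorm k₁)
  -- the entry shared by the two distinguished vectors
  have hsmall : ∀ k i, -1 ≤ v k i ∧ v k i ≤ 1 := by
    intro k i
    obtain ⟨x, y, hxy, hx, hy, h0⟩ := two_support _ (hnorm k)
    rcases eq_or_ne i x with rfl | hix
    · constructor <;> nlinarith
    rcases eq_or_ne i y with rfl | hiy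
    · constructor <;> nlinarith
    rw [h0 i hix hiy]; omega
  suffices h : ∀ a b, a ≠ b → v k₁ a ^ 2 = 1 → v k₁ b ^ 2 = 1 →
      (∀ i, i ≠ a → i ≠ b → v k₁ i = 0) → v k₂ a = v k₁ a → v k₂ b = 0 →
      ∀ k, v k a = v k₁ a by
    have h1 := h12
    rw [sum_two _ _ hab hv0] at h1
    obtain ⟨ha1, ha2⟩ := hsmall k₂ a
    obtain ⟨hb1, hb2⟩ := hsmall k₂ b
    rcases sq_eq_one_iff.1 hva with e1 | e1 <;> rcases sq_eq_one_iff.1 hvb with e2 | e2 <;>
      rw [e1, e2] at h1
    all_goals
      rcases (by omega : (v k₂ a = v k₁ a ∧ v k₂ b = 0) ∨ (v k₂ b = v k₁ b ∧ v k₂ a = 0))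
        with ⟨p1, p2⟩ | ⟨p1, p2⟩
      · exact ⟨a, hva, h a b hab hva hvb hv0 p1 p2⟩
      · exact ⟨b, hvb, h b a hab.symm hvb hva (fun i hi hi' => hv0 i hi' hi) p1 p2⟩
  intro a b hab hva hvb hv0 h2a h2b k
  by_contra hk
  obtain ⟨ha1, ha2⟩ := hsmall k a
  obtain ⟨hb1, hb2⟩ := hsmall k b
  have hd1 := hdot k₁ k
  rw [sum_two _ _ hab hv0] at hd1
  have hk' : v k a = 0 ∧ v k b = v k₁ b := by
    rcases sq_eq_one_iff.1 hva with e1 | e1 <;> rcases sq_eq_one_iff.1 hvb with e2 | e2 <;>
      rw [e1, e2] at hd1 <;> omega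
  obtain ⟨x, y, hxy, hx, hy, h0⟩ := two_support _ (hnorm k₂)
  -- the second entry of `v k₂`
  obtain ⟨c, hac, hc, hc0⟩ : ∃ c, a ≠ c ∧ v k₂ c ^ 2 = 1 ∧ ∀ i, i ≠ a → i ≠ c → v k₂ i = 0 := by
    have hva0 : v k₂ a ≠ 0 := by rw [h2a]; intro h'; rw [h'] at hva; norm_num at hva
    rcases eq_or_ne a x with rfl | hax
    · exact ⟨y, hxy, hy, h0⟩
    rcases eq_or_ne a y with rfl | hay
    · exact ⟨x, hax, hx, fun i hi hi' => h0 i hi' hi⟩
    exact absurd (h0 a hax hay) hva0
  have hbc : b ≠ c := by rintro rfl; rw [h2b] at hc; norm_num at hc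
  have hd2 := hdot k₂ k
  rw [sum_two _ _ hac hc0, hk'.1, mul_zero, zero_add] at hd2
  obtain ⟨hc1, hc2⟩ := hsmall k c
  have hkc : v k c = v k₂ c := by
    rcases sq_eq_one_iff.1 hc with e1 | e1 <;> rw [e1] at hd2 ⊢ <;> omega
  obtain ⟨r, s, hrs, hr, hs, hk0⟩ := two_support _ (hnorm k)
  have hkb0 : v k b ≠ 0 := by rw [hk'.2]; intro h'; rw [h'] at hvb; norm_num at hvb
  have hkc0 : v k c ≠ 0 := by rw [hkc]; intro h'; rw [h'] at hc; norm_num at hc
  have hsupp : ∀ i, i ≠ b → i ≠ c → v k i = 0 := by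
    intro i hib hic
    by_contra hi
    have hin : ∀ t, v k t ≠ 0 → t = r ∨ t = s := fun t ht => by
      by_contra hh; push Not at hh; exact ht (hk0 t hh.1 hh.2)
    rcases hin i hi with rfl | rfl <;> rcases hin b hkb0 with rfl | rfl <;>
      rcases hin c hkc0 with rfl | rfl <;> simp_all
  have e1 := hdeg k₁
  have e2 := hdeg k₂
  have e3 := hdeg k
  rw [sum_two _ _ hab hv0] at e1
  rw [sum_two _ _ hac hc0, h2a] at e2
  rw [sum_two _ _ hbc hsupp, hk'.2, hkc] at e3
  omega

section Group

variable {G : Type u} [Group G]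

set_option maxHeartbeats 4000000 in
-- one long proof
/-- The degree equation for a Sylow subgroup `P` of prime order `p ≥ 5` with
`|N(P) : C(P)| = 2`, with the values of the common character at involutions. -/
theorem degree_equation_five [Finite G] [IsSimpleGroup G] (hG : ¬ IsMulCommutative G) {p h : ℕ}
    (hp : p.Prime) (hp7 : 5 ≤ p) (P : Subgroup G) (hP : Nat.card P = p) (hph : ¬ p ∣ h)
    (hC : Nat.card (Subgroup.centralizer (P : Set G)) = p * h)
    (hN : Nat.card (Subgroup.normalizer (P : Set G)) = 2 * (p * h)) :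
    ∃ d f : ℕ, 1 < d ∧ 1 < f ∧ d ∣ Nat.card G ∧ f ∣ Nat.card G ∧
      ((d + 1 = f ∧ (p : ℤ) ∣ (d : ℤ) - 1) ∨ (f + 1 = d ∧ (p : ℤ) ∣ (d : ℤ) + 1)) ∧
      1 + d ^ 2 + (p - 1) / 2 * f ^ 2 ≤ Nat.card G ∧
      (∀ t : G, t * t = 1 → t ≠ 1 → ∃ l m : ℕ, 0 < l ∧ l < d ∧ Nat.card G * p * h * (2 * l) ^ 2 =
        d * f * (Nat.card (Subgroup.centralizer ({t} : Set G)) * m) ^ 2) ∧ (2 ∣ h → 2 * p < d) := by
  classical
  haveI := Fintype.ofFinite G
  haveI := Fintype.ofFinite (IrrCharacter G)
  haveI := Fact.mk hp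
  haveI := Fintype.ofFinite (Subgroup.normalizer (P : Set G))
  set C := Subgroup.centralizer (P : Set G) with hCdef
  set N := Subgroup.normalizer (P : Set G) with hNdef
  obtain ⟨lam, hlam1, hlamp, hlamu⟩ :
      ∃ lam : C →* ℂ, (∀ y : C, lam y = 1 ↔ (y : G) ^ h = 1) ∧ (∀ y : C, lam y ^ p = 1) ∧
        ∀ y z : C, ∀ u : ℕ, (z : G) ^ h = ((y : G) ^ h) ^ u → lam z = lam y ^ u :=
    exists_lam hp P hP hC
  haveI : IsCyclic P := isCyclic_of_prime_card hP
  have hPC : P ≤ C := fun a ha => Subgroup.mem_centralizer_iff.2 fun b hb =>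
    congrArg Subtype.val ((IsCyclic.commGroup (α := P)).mul_comm ⟨b, hb⟩ ⟨a, ha⟩)
  have hpow : ∀ y : C, (y : G) ^ h ∈ P := fun y => pow_mem_of_mem_centralizer hp P hP hC y.2
  set P' := P.subgroupOf C with hP'def
  haveI : P'.Normal := ⟨fun a ha g => by
    rw [hP'def, Subgroup.mem_subgroupOf] at ha ⊢
    have h1 := Subgroup.mem_centralizer_iff.1 g.2 _ ha
    simp only [Subgroup.coe_mul, InvMemClass.coe_inv]
    rw [← h1]
    simpa using ha⟩
  have hP'card : Nat.card P' = p := by
    rw [hP'def, Nat.card_congr (Subgroup.subgroupOfEquivOfLe hPC).toEquiv, hP]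
  have hQcard : Nat.card (C ⧸ P') = h := by
    have h1 := Subgroup.card_eq_card_quotient_mul_card_subgroup P'
    rw [hC, hP'card, mul_comm p h] at h1
    exact (Nat.eq_of_mul_eq_mul_right hp.pos h1).symm
  -- a generator of `P`
  haveI : Nontrivial P := Finite.one_lt_card_iff_nontrivial.1 (hP ▸ hp.one_lt)
  obtain ⟨g0, hg0⟩ := exists_ne (1 : P)
  have hg0ord : orderOf (g0 : G) = p := by
    rw [Subgroup.orderOf_coe]
    exact orderOf_eq_prime (by rw [← hP]; exact pow_card_eq_one') hg0
  set g : C := ⟨(g0 : G), hPC g0.2⟩ with hgdef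
  have hgen : ∀ a ∈ P, ∃ i : ℕ, (g : G) ^ i = a := fun a ha => by
    obtain ⟨i, hi⟩ := mem_powers_iff_mem_zpowers.2
      (mem_zpowers_of_prime_card (g := g0) (g' := ⟨a, ha⟩) hP hg0)
    exact ⟨i, by simpa [hgdef] using congrArg Subtype.val hi⟩
  set ω := lam g with hω
  have hωprim : IsPrimitiveRoot ω p := by
    refine IsPrimitiveRoot.mk_of_lt ω hp.pos (hlamp g) fun l hl0 hlp h1 => ?_
    rw [hω, ← map_pow, hlam1] at h1
    have h2 : orderOf (g : G) ∣ l * h := by
      apply orderOf_dvd_of_pow_eq_one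
      rw [pow_mul]; simpa using h1
    rw [show orderOf (g : G) = p from hg0ord] at h2
    rcases hp.dvd_mul.1 h2 with h3 | h3
    · exact absurd (Nat.le_of_dvd hl0 h3) (not_le.2 hlp)
    · exact hph h3
  have hlamg : ∀ k : ℕ, ¬ p ∣ k → (lam ^ k) g ≠ 1 := fun k hk h1 =>
    hk (hωprim.dvd_of_pow_eq_one k (by simpa using h1))
  have hlameq : ∀ k l : ℕ, (lam ^ k) g = (lam ^ l) g → lam ^ k = lam ^ l ∧ k ≡ l [MOD p] := by
    intro k l hkl
    simp only [MonoidHom.pow_apply, ← hω] at hkl
    have h1 : k ≡ l [MOD p] := by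
      have h2 := hωprim.eq_orderOf
      have hu : IsUnit ω := hωprim.isUnit hp.ne_zero
      obtain ⟨w, hw⟩ := hu
      rw [← hw, ← Units.val_pow_eq_pow_val, ← Units.val_pow_eq_pow_val] at hkl
      have h3 := pow_eq_pow_iff_modEq.1 (Units.ext hkl)
      rwa [← orderOf_units, hw, ← h2] at h3
    refine ⟨MonoidHom.ext fun y => ?_, h1⟩
    simp only [MonoidHom.pow_apply]
    rw [pow_eq_pow_mod k (hlamp y), pow_eq_pow_mod l (hlamp y), h1]
  -- conjugation
  set cj : N → C ≃* C := fun x => conjC P C rfl x with hcj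
  have hconj : ∀ x : N, ∃ u : ℕ, ¬ p ∣ u ∧ (g : G) ^ u = (x : G)⁻¹ * g * x ∧
      ∀ y : C, lam (cj x y) = lam y ^ u := by
    intro x
    obtain ⟨u, hu⟩ := exists_conj_pow hp P hP x.2
    refine ⟨u, fun hd => ?_, (hu _ g0.2).symm, fun y => hlamu y _ u ?_⟩
    · have h1 := hu _ g0.2
      obtain ⟨t, rfl⟩ := hd
      rw [pow_mul, show (g0 : G) ^ p = 1 by rw [← hg0ord]; exact pow_orderOf_eq_one _, one_pow] at h1
      refine hg0 (Subtype.ext ?_)
      calc (g0 : G) = (x : G) * ((x : G)⁻¹ * g0 * x) * (x : G)⁻¹ := by group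
        _ = 1 := by rw [h1]; group
    · show ((x : G)⁻¹ * y * x) ^ h = ((y : G) ^ h) ^ u
      rw [← hu _ (hpow y)]
      simpa using conj_pow (a := (x : G)⁻¹) (b := (y : G)) (i := h)
  choose u hup hugen hulam using hconj
  -- characters of `C` trivial on `P`
  haveI := Fintype.ofFinite (C ⧸ P')
  haveI := Fintype.ofFinite (IrrCharacter (C ⧸ P'))
  set η : IrrCharacter (C ⧸ P') → C → ℂ :=
    fun E => (E : (C ⧸ P') → ℂ) ∘ QuotientGroup.mk' P' with hηdef
  have hηirr : ∀ E, IsIrrCharacter C (η E) := fun E =>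
    IsIrrCharacter.comp_surjective E.2 _ (QuotientGroup.mk'_surjective P')
  have hmk : ∀ a : C, (a : G) ∈ P → QuotientGroup.mk' P' a = 1 := fun a ha =>
    (QuotientGroup.eq_one_iff a).2 (Subgroup.mem_subgroupOf.2 ha)
  have hηg : ∀ E, η E g = η E 1 := fun E => by
    show (E : (C ⧸ P') → ℂ) _ = (E : (C ⧸ P') → ℂ) _
    rw [hmk g g0.2, map_one]
  have hηtriv : η (trivIrr _) = fun _ => 1 := by funext y; simp [hηdef]
  have hηinj : ∀ E, η E = (fun _ => 1) → E = trivIrr _ := fun E hE => by
    apply Subtype.ext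
    funext q
    obtain ⟨y, rfl⟩ := QuotientGroup.mk'_surjective P' q
    simpa [hηdef] using congrFun hE y
  have hηc : ∀ (E) (x : N), IsIrrCharacter C (fun y => η E (cj x y)) := fun E x =>
    IsIrrCharacter.comp_equiv (hηirr E) (cj x)
  have hηcg : ∀ (E) (x : N), η E (cj x g) = η E (cj x 1) := fun E x => by
    rw [map_one]
    show (E : (C ⧸ P') → ℂ) _ = (E : (C ⧸ P') → ℂ) _
    rw [hmk (cj x g) (by
      show (x : G)⁻¹ * g * x ∈ P
      rw [← hugen x]; exact P.pow_mem g0.2 _), map_one]
  -- the generalized characters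
  set θ : IrrCharacter (C ⧸ P') → ℕ → C → ℂ := fun E k y => (1 - lam y ^ k) * η E y with hθ
  have hθgen : ∀ E k, IsGeneralizedCharacter C (θ E k) := fun E k =>
    ⟨η E, (fun y => (lam ^ k) y * η E y), IsIrrCharacter.isCharacter (hηirr E),
      IsIrrCharacter.isCharacter (isIrr_hom_mul _ (hηirr E)), by funext y; simp [hθ]; ring⟩
  have hθzero : ∀ E k (y : C), (y : G) ^ h = 1 → θ E k y = 0 := fun E k y hy => by
    simp [hθ, (hlam1 y).2 hy]
  set R : IrrCharacter (C ⧸ P') → ℕ → G → ℂ := fun E k => Cfsg.indFun C (θ E k) with hR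
  have hRgen : ∀ E k, IsGeneralizedCharacter G (R E k) := fun E k =>
    IsGeneralizedCharacter.indFun C (hθgen E k)
  choose c hcR hc using fun E k => IsGeneralizedCharacter.exists_int_decomp (hRgen E k)
  choose D hDpos hD hDdvd using fun χ : IrrCharacter G =>
    IsIrrCharacter.exists_degree_dvd χ.2
  set K := {k : ℕ // ¬ p ∣ k}
  -- inner products
  have hterm : ∀ (E E') (j k : K) (x : N),
      classInner (θ E j) (fun y => θ E' k (cj x y)) =
        (if η E = (fun y => η E' (cj x y)) then (1 : ℂ) else 0) +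
        (if (fun y => (lam ^ (j : ℕ)) y * η E y) =
            (fun y => (lam ^ (u x * k)) y * η E' (cj x y)) then 1 else 0) := by
    intro E E' j k x
    have hnd : ¬ p ∣ u x * k := fun hd => (hp.dvd_mul.1 hd).elim (hup x) k.2
    rw [← classInner_twist g (lam ^ (j : ℕ)) (lam ^ (u x * k)) (hlamg _ j.2) (hlamg _ hnd)
      (hηirr E) (hηc E' x) (hηg E) (hηcg E' x)]
    congr 1
    funext y
    simp only [hθ, MonoidHom.pow_apply, hulam, ← pow_mul]
  have hinner : ∀ E E' (j k : K), classInner (R E j) (R E' k) =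
      (Nat.card C : ℂ)⁻¹ * ∑ x : N, ((if η E = (fun y => η E' (cj x y)) then (1 : ℂ) else 0) +
        (if (fun y => (lam ^ (j : ℕ)) y * η E y) =
            (fun y => (lam ^ (u x * k)) y * η E' (cj x y)) then 1 else 0)) := by
    intro E E' j k
    rw [show classInner (R E j) (R E' k) = _ from
      classInner_ind_ind hp P hP C rfl hC (θ E j) (θ E' k) (hθzero E' k)]
    congr 1
    exact Finset.sum_congr rfl fun x _ => hterm E E' j k x
  set E₁ := trivIrr (C ⧸ P')
  have hη1 : ∀ x : N, η E₁ = fun y => η E₁ (cj x y) := fun x => by rw [hηtriv]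
  have htriv : ∀ E (k : K), c E k (trivIrr G) = if E = E₁ then 1 else 0 := by
    intro E k
    have h1 : classInner (R E k) ((trivIrr G : IrrCharacter G) : G → ℂ) =
        if η E = ((1 : C →* ℂ) : C → ℂ) then 1 else 0 := by
      show classInner (Cfsg.indFun C (θ E k)) _ = _
      rw [classInner_indFun C _ (irr_isClassFunction _)]
      have e1 : (fun h : C => ((trivIrr G : IrrCharacter G) : G → ℂ) h) =
          ((1 : C →* ℂ) : C → ℂ) := by funext y; simp
      have e2 : θ E k = η E - (fun y => (lam ^ (k : ℕ)) y * η E y) := by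
        funext y; simp [hθ]; ring
      have h1irr := isIrrCharacter_monoidHom (1 : C →* ℂ)
      have hne : (fun y => (lam ^ (k : ℕ)) y * η E y) ≠ ((1 : C →* ℂ) : C → ℂ) := by
        intro he
        have a1 := congrFun he g
        have a2 := congrFun he 1
        simp only [hηg E, MonoidHom.one_apply] at a1
        simp only [map_one, one_mul] at a2
        rw [a2, mul_one] at a1
        exact hlamg _ k.2 a1
      rw [e1, e2, classInner_sub_left,
        IsIrrCharacter.classInner_ne (isIrr_hom_mul _ (hηirr E)) h1irr hne, sub_zero]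
      split_ifs with h2
      · rw [h2]; exact IsIrrCharacter.classInner_self h1irr
      · exact IsIrrCharacter.classInner_ne (hηirr E) h1irr h2
    rw [hc] at h1
    by_cases hE : E = E₁
    · rw [if_pos hE]
      rw [if_pos (by rw [hE, hηtriv]; funext y; simp)] at h1
      exact_mod_cast h1
    · rw [if_neg hE]
      rw [if_neg (fun he => hE (hηinj E (by rw [he]; funext y; simp)))] at h1
      exact_mod_cast h1
  have hRzero : ∀ E (k : ℕ), R E k 1 = 0 := fun E k => by
    show Cfsg.indFun C (θ E k) 1 = 0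
    rw [indFun_one]; simp [hθ]
  set v : K → IrrCharacter G → ℤ := fun k χ => if χ = trivIrr G then 0 else c E₁ k χ with hv
  have hsplit : ∀ (k : K) (f : IrrCharacter G → ℤ),
      ∑ χ, c E₁ k χ * f χ = f (trivIrr G) + ∑ χ, v k χ * f χ := by
    intro k f
    rw [← Finset.add_sum_erase Finset.univ _ (Finset.mem_univ (trivIrr G)), htriv, if_pos rfl,
      one_mul,
      ← Finset.add_sum_erase Finset.univ (fun χ => v k χ * f χ) (Finset.mem_univ (trivIrr G))]
    simp only [hv, if_pos rfl, zero_mul, zero_add]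
    congr 1
    refine Finset.sum_congr rfl fun χ hχ => ?_
    rw [if_neg (Finset.ne_of_mem_erase hχ)]
  have hdeg : ∀ k : K, ∑ χ, v k χ * (D χ : ℤ) = -1 := by
    intro k
    have h1 := congrFun (hcR E₁ k) 1
    rw [hRzero, Finset.sum_apply] at h1
    have h2 : ∑ χ, c E₁ k χ * (D χ : ℤ) = 0 := by
      have h3 : ((∑ χ, c E₁ k χ * (D χ : ℤ) : ℤ) : ℂ) = ((0 : ℤ) : ℂ) := by
        push_cast; rw [h1]
        exact Finset.sum_congr rfl fun χ _ => by rw [Pi.smul_apply, smul_eq_mul, hD]
      exact_mod_cast h3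
    rw [hsplit] at h2
    have ht : D (trivIrr G) = 1 := by
      have := hD (trivIrr G); rw [trivIrr_apply] at this; exact_mod_cast this.symm
    rw [ht] at h2; push_cast at h2; omega
  have hcdot : ∀ E E' (j k : K),
      classInner (R E j) (R E' k) = ((∑ χ, c E j χ * c E' k χ : ℤ) : ℂ) := by
    intro E E' j k
    rw [classInner_eq_sum_irr (isClassFunction_indFun C _) (isClassFunction_indFun C _)]
    push_cast
    exact Finset.sum_congr rfl fun χ _ => by rw [hc, hc, map_intCast]
  have hdotR : ∀ j k : K, classInner (R E₁ j) (R E₁ k) = ((1 + ∑ χ, v j χ * v k χ : ℤ) : ℂ) := by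
    intro j k
    rw [hcdot, hsplit, htriv, if_pos rfl]
    have : ∑ χ, v j χ * c E₁ k χ = ∑ χ, v j χ * v k χ := Finset.sum_congr rfl fun χ _ => by
      simp only [hv]; split_ifs <;> simp
    rw [this]
  have hθ1 : ∀ k : ℕ, θ E₁ k = fun y => 1 - lam y ^ k := fun k => by
    funext y; simp [hθ, hηtriv]
  have hrel : ∀ j k : K, ((∑ χ, v j χ * v k χ) = 1 ∧
      ¬ ∃ x ∈ Subgroup.normalizer (P : Set G), ∀ y z : C, (z : G) = x⁻¹ * y * x →
        lam y ^ (j : ℕ) = lam z ^ (k : ℕ)) ∨ ((∑ χ, v j χ * v k χ) = 2 ∧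
      ∃ x ∈ Subgroup.normalizer (P : Set G), ∀ y z : C, (z : G) = x⁻¹ * y * x →
        lam y ^ (j : ℕ) = lam z ^ (k : ℕ)) := by
    intro j k
    have hne : ∀ i : K, lam ^ (i : ℕ) ≠ 1 := fun i hi => hlamg _ i.2 (by rw [hi]; rfl)
    have hfam := classInner_family hp P hP C rfl hC lam hlam1 hN j k (hne j) (hne k)
    rw [← hθ1, ← hθ1] at hfam
    rcases hfam with ⟨h1, h2⟩ | ⟨h1, h2⟩
    · refine Or.inl ⟨?_, h2⟩
      have h3 : ((1 + ∑ χ, v j χ * v k χ : ℤ) : ℂ) = ((2 : ℤ) : ℂ) := by
        rw [← hdotR]; push_cast; exact_mod_cast h1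
      have := Int.cast_injective h3
      omega
    · refine Or.inr ⟨?_, h2⟩
      have h3 : ((1 + ∑ χ, v j χ * v k χ : ℤ) : ℂ) = ((3 : ℤ) : ℂ) := by
        rw [← hdotR]; push_cast; rw [show (3 : ℂ) = ((2 : ℕ) : ℂ) + 1 by norm_num]; exact h1
      have := Int.cast_injective h3
      omega
  have hnorm : ∀ k : K, ∑ χ, v k χ ^ 2 = 2 := by
    intro k
    rcases hrel k k with ⟨-, h2⟩ | ⟨h1, -⟩
    · exact absurd ⟨1, Subgroup.one_mem _, fun y z hz => by
        rw [show z = y from Subtype.ext (by simpa using hz)]⟩ h2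
    · rw [← h1]; exact Finset.sum_congr rfl fun χ _ => sq _
  -- conjugation acts by `± 1`
  have hNC2 : (C.subgroupOf N).index = 2 := by
    have h4 := (C.subgroupOf N).index_mul_card
    rw [hN, Nat.card_congr
      (Subgroup.subgroupOfEquivOfLe (Subgroup.centralizer_le_normalizer _)).toEquiv, hC] at h4
    exact Nat.eq_of_mul_eq_mul_right (by rw [← hC]; exact Nat.card_pos) h4
  have husq : ∀ x : N, (u x : ZMod p) ^ 2 = 1 := by
    intro x
    have hxC : (x : G) * x ∈ C := by
      simpa [Subgroup.mem_subgroupOf] using Subgroup.mul_self_mem_of_index_two hNC2 x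
    obtain ⟨w, hw⟩ := exists_conj_pow hp P hP x.2
    have hwu : w ≡ u x [MOD p] := by
      have h4 : (g : G) ^ w = (g : G) ^ u x := by rw [hugen x, ← hw _ g0.2]
      rw [← hg0ord]; exact pow_eq_pow_iff_modEq.1 h4
    have h5 : (g : G) ^ (w * w) = (g : G) ^ 1 := by
      rw [pow_mul, ← hw _ g0.2, ← hw _ (hw _ g0.2 ▸ P.pow_mem g0.2 w), pow_one]
      have := Subgroup.mem_centralizer_iff.1 hxC _ g0.2
      calc (x : G)⁻¹ * ((x : G)⁻¹ * (g : G) * x) * x
            = ((x : G) * x)⁻¹ * ((g : G) * ((x : G) * x)) := by group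
        _ = ((x : G) * x)⁻¹ * (((x : G) * x) * g) := by rw [this]
        _ = g := by group
    have h6 := pow_eq_pow_iff_modEq.1 h5
    rw [show orderOf (g : G) = p from hg0ord] at h6
    rw [sq, ← Nat.cast_mul, (ZMod.natCast_eq_natCast_iff _ _ _).2 ((hwu.mul hwu).symm.trans h6),
      Nat.cast_one]
  have hinvert : ∀ x ∈ N, x ∉ C → ∀ a ∈ P, x⁻¹ * a * x = a⁻¹ := by
    intro x hx hxC
    obtain ⟨w, hw⟩ := exists_conj_pow hp P hP hx
    have hwu : (w : ZMod p) = u ⟨x, hx⟩ := by
      have h4 : (g : G) ^ w = (g : G) ^ u ⟨x, hx⟩ := by rw [hugen ⟨x, hx⟩, ← hw _ g0.2]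
      rw [ZMod.natCast_eq_natCast_iff, ← hg0ord]; exact pow_eq_pow_iff_modEq.1 h4
    have hordP : ∀ a ∈ P, a ^ p = 1 := fun a ha => by
      obtain ⟨i, rfl⟩ := hgen a ha
      rw [← pow_mul, mul_comm, pow_mul,
        show (g : G) ^ p = 1 by rw [← hg0ord]; exact pow_orderOf_eq_one _, one_pow]
    rcases sq_eq_one_iff.1 (husq ⟨x, hx⟩) with h4 | h4
    · refine absurd (Subgroup.mem_centralizer_iff.2 fun b hb => ?_) hxC
      rw [← Nat.cast_one, ← hwu, ZMod.natCast_eq_natCast_iff', Nat.one_mod_eq_one.2 hp.ne_one] at h4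
      have hb2 : x⁻¹ * b * x = b := by
        rw [hw b hb, pow_eq_pow_mod w (hordP b hb), h4, pow_one]
      calc b * x = x * (x⁻¹ * b * x) := by group
        _ = x * b := by rw [hb2]
    · intro a ha
      rw [hw a ha]
      apply eq_inv_of_mul_eq_one_left
      rw [← pow_succ]
      obtain ⟨t, ht⟩ : p ∣ w + 1 := by
        rw [← ZMod.natCast_eq_zero_iff, Nat.cast_add, hwu, h4]; simp
      rw [ht, pow_mul, hordP a ha, one_pow]
  -- small exponents are unrelated
  have hpm : ∀ j k : ℕ, ¬ p ∣ j → ¬ p ∣ k → (∃ x ∈ Subgroup.normalizer (P : Set G),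
      ∀ y z : C, (z : G) = x⁻¹ * y * x → lam y ^ j = lam z ^ k) →
      (j : ZMod p) = k ∨ (j : ZMod p) = -k := by
    rintro j k hj hk ⟨x, hx, hxx⟩
    set x' : N := ⟨x, hx⟩
    have h1 : (lam ^ j) g = (lam ^ (u x' * k)) g := by
      simp only [MonoidHom.pow_apply, pow_mul]
      rw [← hulam x' g]
      exact hxx g _ rfl
    have h2 : (j : ZMod p) = (u x' : ZMod p) * k := by
      rw [← Nat.cast_mul]
      exact (ZMod.natCast_eq_natCast_iff _ _ _).2 (hlameq _ _ h1).2
    have h3 : (u x' : ZMod p) ^ 2 = 1 := husq x'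
    rcases sq_eq_one_iff.1 h3 with h4 | h4
    · left; rw [h2, h4, one_mul]
    · right; rw [h2, h4, neg_one_mul]
  have hnot : ∀ j k : ℕ, 1 ≤ j → j ≤ (p - 1) / 2 → 1 ≤ k → k ≤ (p - 1) / 2 →
      ((j : ZMod p) = k ∨ (j : ZMod p) = -k) → j = k := by
    intro j k hj1 hj2 hk1 hk2 hor
    rcases hor with h' | h'
    · rw [ZMod.natCast_eq_natCast_iff'] at h'
      rwa [Nat.mod_eq_of_lt (by omega), Nat.mod_eq_of_lt (by omega)] at h'
    · have : ((j + k : ℕ) : ZMod p) = 0 := by push_cast; rw [h']; ring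
      rw [ZMod.natCast_eq_zero_iff] at this
      have := Nat.le_of_dvd (by omega) this
      omega
  have hmp : ∀ k : ℕ, 1 ≤ k → k ≤ (p - 1) / 2 → ¬ p ∣ k := fun k h1 h2 h3 => by
    have := Nat.le_of_dvd (by omega) h3; omega
  have hdot12 : ∀ j k : K, 1 ≤ (j : ℕ) → (j : ℕ) ≤ (p - 1) / 2 → 1 ≤ (k : ℕ) →
      (k : ℕ) ≤ (p - 1) / 2 → j ≠ k → (∑ χ, v j χ * v k χ) = 1 := by
    intro j k hj1 hj2 hk1 hk2 hjk
    rcases hrel j k with ⟨h1, -⟩ | ⟨-, h2⟩
    · exact h1
    · exact absurd (Subtype.ext (hnot _ _ hj1 hj2 hk1 hk2 (hpm _ _ j.2 k.2 h2))) hjk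
  have hp2 : 2 ≤ (p - 1) / 2 := by omega
  set k₁ : K := ⟨1, hmp 1 le_rfl (by omega)⟩
  set k₂ : K := ⟨2, hmp 2 (by omega) hp2⟩
  obtain ⟨a, ha, hall⟩ := exists_common v (fun χ => (D χ : ℤ)) k₁ k₂ hnorm
    (fun j k => (hrel j k).imp And.left And.left)
    (hdot12 k₁ k₂ le_rfl (show 1 ≤ (p - 1) / 2 by omega) (show 1 ≤ 2 by omega) hp2
      (fun h' => absurd (congrArg Subtype.val h') (by simp [k₁, k₂]))) hdeg
  have hat : a ≠ trivIrr G := by
    intro h'; rw [h'] at ha; simp [hv] at ha
  have hva : ∀ k, v k a ≠ 0 := fun k => by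
    rw [hall k]; intro h'; rw [h'] at ha; norm_num at ha
  -- degrees exceed one
  have hD2 : ∀ χ, χ ≠ trivIrr G → 1 < D χ := by
    intro χ hχ
    rcases Nat.lt_or_ge 1 (D χ) with h' | h'
    · exact h'
    exfalso
    have h1 : D χ = 1 := le_antisymm h' (hDpos χ)
    obtain ⟨l, hl⟩ := IsCharacter.exists_hom_of_apply_one (irr_isCharacter χ)
      (by rw [hD, h1, Nat.cast_one])
    rcases eq_or_ne l.ker ⊤ with h2 | h2
    · apply hχ
      apply Subtype.ext
      funext y
      have : l y = 1 := by rw [← MonoidHom.mem_ker, h2]; exact Subgroup.mem_top y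
      rw [hl]; simp [this]
    · apply hG
      have hbot : l.ker = ⊥ := (IsSimpleGroup.eq_bot_or_eq_top_of_normal l.ker
        (MonoidHom.normal_ker l)).resolve_right h2
      exact ⟨⟨fun y z => (MonoidHom.ker_eq_bot_iff l).1 hbot (by simp [mul_comm])⟩⟩
  -- the other entries
  have hother : ∀ k : K, ∃ b, b ≠ a ∧ v k b ^ 2 = 1 ∧ ∀ i, i ≠ a → i ≠ b → v k i = 0 := by
    intro k
    obtain ⟨x, y, hxy, hx, hy, h0⟩ := two_support _ (hnorm k)
    rcases eq_or_ne a x with rfl | hax
    · exact ⟨y, hxy.symm, hy, h0⟩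
    rcases eq_or_ne a y with rfl | hay
    · exact ⟨x, hxy, hx, fun i hi hi' => h0 i hi' hi⟩
    exact absurd (h0 a hax hay) (hva k)
  choose b hba hb hb0 using hother
  have hbt : ∀ k, b k ≠ trivIrr G := fun k h' => by
    have := hb k; rw [h'] at this; simp [hv] at this
  have heq : ∀ k, v k₁ a * (D a : ℤ) + v k (b k) * (D (b k) : ℤ) = -1 := by
    intro k
    have h1 := hdeg k
    rw [sum_two _ _ (hba k).symm (hb0 k), hall k] at h1
    exact h1
  have hbval : ∀ k, v k (b k) = - v k₁ a ∧ (D (b k) : ℤ) = D a + v k₁ a := by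
    intro k
    have hD2a := hD2 a hat
    have hD2b := hD2 _ (hbt k)
    have hk := heq k
    rcases sq_eq_one_iff.1 ha with e1 | e1 <;> rcases sq_eq_one_iff.1 (hb k) with e2 | e2 <;>
      rw [e1, e2] at hk ⊢ <;> constructor <;> omega
  have hinj : ∀ j k : K, 1 ≤ (j : ℕ) → (j : ℕ) ≤ (p - 1) / 2 → 1 ≤ (k : ℕ) →
      (k : ℕ) ≤ (p - 1) / 2 → b j = b k → j = k := by
    intro j k hj1 hj2 hk1 hk2 hjk
    by_contra hne
    have h1 := hdot12 j k hj1 hj2 hk1 hk2 hne
    rw [sum_two _ _ (hba j).symm (hb0 j)] at h1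
    have e1 := hall j
    have e2 := hall k
    have e3 := (hbval j).1
    have e4 := (hbval k).1
    rw [e1, e2, e3, hjk, e4] at h1
    nlinarith [ha]
  set T : Finset K := (Finset.Icc 1 ((p - 1) / 2)).attach.image fun k =>
    (⟨k.1, hmp k.1 (Finset.mem_Icc.1 k.2).1 (Finset.mem_Icc.1 k.2).2⟩ : K) with hT
  have hTmem : ∀ k ∈ T, 1 ≤ (k : ℕ) ∧ (k : ℕ) ≤ (p - 1) / 2 := by
    intro k hk
    obtain ⟨j, -, rfl⟩ := Finset.mem_image.1 hk
    exact Finset.mem_Icc.1 j.2
  have hTcard : T.card = (p - 1) / 2 := by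
    rw [hT, Finset.card_image_of_injective, Finset.card_attach, Nat.card_Icc]
    · omega
    · intro x y h'
      exact Subtype.ext (congrArg (fun z : K => (z : ℕ)) h')
  -- the twisted functions do not involve the common character
  have hw0 : ∀ E, E ≠ E₁ → ∀ k : K, c E k a = 0 := by
    intro E hE k
    have hηne : ∀ x : N, η E ≠ fun y => η E₁ (cj x y) := fun x he => by
      rw [hηtriv] at he
      exact hE (hηinj E he)
    -- orthogonality to the basic family
    have horth : ∀ j : K, ∑ χ, c E k χ * v j χ = 0 := by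
      intro j
      have h1 : classInner (R E k) (R E₁ j) = 0 := by
        rw [hinner]
        have : ∀ x : N, ((if η E = (fun y => η E₁ (cj x y)) then (1 : ℂ) else 0) +
            (if (fun y => (lam ^ (k : ℕ)) y * η E y) =
              (fun y => (lam ^ (u x * j)) y * η E₁ (cj x y)) then 1 else 0)) = 0 := by
          intro x
          rw [if_neg (hηne x), if_neg, add_zero]
          intro he
          have a1 := congrFun he g
          have a2 := congrFun he 1
          simp only [hηtriv, hηg E, mul_one] at a1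
          simp only [hηtriv, map_one, one_mul, mul_one] at a2
          rw [a2, mul_one] at a1
          apply hηne x
          rw [hηtriv]
          funext y
          have a3 := congrFun he y
          simp only [hηtriv, mul_one, (hlameq _ _ a1).1] at a3
          have a4 : (lam ^ (u x * j)) y ≠ 0 := by
            simp only [MonoidHom.pow_apply]
            apply pow_ne_zero
            intro a5
            have a6 := hlamp y
            rw [a5, zero_pow hp.ne_zero] at a6
            exact zero_ne_one a6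
          exact mul_left_cancel₀ a4 (by rw [a3, mul_one])
        rw [Finset.sum_congr rfl fun x _ => this x, Finset.sum_const_zero, mul_zero]
      rw [hcdot] at h1
      have h2 : ∑ χ, c E k χ * c E₁ j χ = 0 := by exact_mod_cast h1
      rw [← h2]
      refine Finset.sum_congr rfl fun χ _ => ?_
      simp only [hv]
      split_ifs with h3
      · subst h3; rw [htriv, if_neg hE]; ring
      · rfl
    have hnormE : ∑ χ, c E k χ ^ 2 ≤ 3 := by
      have h1 : (classInner (R E k) (R E k)).re ≤ (classInner (R E₁ k) (R E₁ k)).re := by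
        rw [hinner, hinner, ← Complex.ofReal_natCast, ← Complex.ofReal_inv,
          Complex.re_ofReal_mul, Complex.re_ofReal_mul]
        refine mul_le_mul_of_nonneg_left ?_ (by positivity)
        rw [Complex.re_sum, Complex.re_sum]
        refine Finset.sum_le_sum fun x _ => ?_
        rw [if_pos (hη1 x)]
        by_cases h2 : (fun y => (lam ^ (k : ℕ)) y * η E y) =
            (fun y => (lam ^ (u x * k)) y * η E (cj x y))
        · have h5 : (fun y => (lam ^ (k : ℕ)) y * η E₁ y) =
              (fun y => (lam ^ (u x * k)) y * η E₁ (cj x y)) := by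
            have a1 := congrFun h2 g
            simp only [hηg E, hηcg E x, map_one] at a1
            have a3 : (lam ^ (k : ℕ)) g = (lam ^ (u x * k)) g :=
              mul_right_cancel₀ (IsIrrCharacter.apply_one_ne_zero (hηirr E)) a1
            rw [(hlameq _ _ a3).1]
            funext y
            rw [← congrFun (hη1 x) y]
          rw [if_pos h2, if_pos h5]
          split_ifs <;> simp
        · rw [if_neg h2]
          split_ifs <;> simp
      rw [hcdot, hdotR] at h1
      simp only [Complex.intCast_re, Int.cast_le] at h1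
      have h3 := hnorm k
      simp only [sq] at h3
      rw [h3] at h1
      simp only [sq]
      omega
    -- all entries on the basic characters are equal
    have hwb : ∀ j, c E k (b j) = c E k a := by
      intro j
      have h1 := horth j
      rw [show ∑ χ, c E k χ * v j χ = ∑ χ, v j χ * c E k χ from
        Finset.sum_congr rfl fun χ _ => mul_comm _ _, sum_two _ _ (hba j).symm (hb0 j),
        hall j, (hbval j).1] at h1
      rcases sq_eq_one_iff.1 ha with e1 | e1 <;> rw [e1] at h1 <;> omega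
    have h1 : ∑ χ ∈ insert a (T.image b), c E k χ ^ 2 ≤ 3 :=
      le_trans (Finset.sum_le_univ_sum_of_nonneg fun χ => sq_nonneg _) hnormE
    rw [Finset.sum_insert (by
        simp only [Finset.mem_image, not_exists, not_and]; exact fun k _ => hba k),
      Finset.sum_image (fun j hj k hk h' => hinj j k (hTmem j hj).1 (hTmem j hj).2
        (hTmem k hk).1 (hTmem k hk).2 h'),
      Finset.sum_congr rfl (fun j _ => by rw [hwb j]), Finset.sum_const, hTcard, nsmul_eq_mul]
      at h1
    by_contra hne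
    have h2 : 1 ≤ c E k a ^ 2 := by
      have : 0 < c E k a ^ 2 := by positivity
      omega
    have hT2 : (2 : ℤ) ≤ (((p - 1) / 2 : ℕ) : ℤ) := by exact_mod_cast (by omega : 2 ≤ (p - 1) / 2)
    -- only the case of three equal entries remains
    have hT : (((p - 1) / 2 : ℕ) : ℤ) = 2 := by nlinarith
    have hc1 : c E k a ^ 2 = 1 := by rw [hT] at h1; omega
    set Sx : Finset (IrrCharacter G) := insert a (T.image b) with hSx
    have hsum0 : ∀ χ, χ ∉ Sx → c E k χ = 0 := by
      intro χ hχ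
      have h5 : ∑ ψ ∈ insert χ Sx, c E k ψ ^ 2 ≤ 3 :=
        le_trans (Finset.sum_le_univ_sum_of_nonneg fun ψ => sq_nonneg _) hnormE
      rw [Finset.sum_insert hχ, hSx, Finset.sum_insert (by
          simp only [Finset.mem_image, not_exists, not_and]; exact fun k _ => hba k),
        Finset.sum_image (fun j hj k hk h' => hinj j k (hTmem j hj).1 (hTmem j hj).2
          (hTmem k hk).1 (hTmem k hk).2 h'),
        Finset.sum_congr rfl (fun j _ => by rw [hwb j]), Finset.sum_const, hTcard, nsmul_eq_mul,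
        hT, hc1] at h5
      have h6 : c E k χ ^ 2 = 0 := le_antisymm (by omega) (sq_nonneg _)
      simpa using h6
    have hz : ((∑ χ, c E k χ * (D χ : ℤ) : ℤ) : ℂ) = 0 := by
      have h7 := congrFun (hcR E k) 1
      rw [hRzero, Finset.sum_apply] at h7
      push_cast
      rw [h7]
      exact Finset.sum_congr rfl fun χ _ => by rw [Pi.smul_apply, smul_eq_mul, hD]
    have hz' : ∑ χ ∈ Sx, c E k χ * (D χ : ℤ) = 0 := by
      rw [Finset.sum_subset (Finset.subset_univ _) fun χ _ hχ => by rw [hsum0 χ hχ, zero_mul]]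
      exact_mod_cast hz
    rw [Finset.sum_congr rfl (fun χ hχ => by
      rcases Finset.mem_insert.1 hχ with rfl | hχ
      · rfl
      · obtain ⟨j, -, rfl⟩ := Finset.mem_image.1 hχ
        rw [hwb j] : ∀ χ ∈ Sx, c E k χ * (D χ : ℤ) = c E k a * (D χ : ℤ)),
      ← Finset.mul_sum, mul_eq_zero] at hz'
    have hpos : 0 < ∑ χ ∈ Sx, (D χ : ℤ) :=
      Finset.sum_pos (fun χ _ => by exact_mod_cast hDpos χ) (Finset.insert_nonempty _ _)
    rcases hz' with h8 | h8
    · exact hne h8
    · omega
  -- the congruence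
  choose De hDepos hDe hDedvd using fun E : IrrCharacter (C ⧸ P') =>
    IsIrrCharacter.exists_degree_dvd E.2
  have hsum : ∃ m : ℤ, ∑ k ∈ Finset.range p, ∑ E, (De E : ℤ) * c E k a = (p : ℤ) * m - D a := by
    obtain ⟨m, hm⟩ := IsCharacter.exists_classInner_nat
      (IsIrrCharacter.isCharacter (isIrrCharacter_monoidHom (1 : P →* ℂ)))
      (IsCharacter.restrict (irr_isCharacter a) P)
    refine ⟨m, ?_⟩
    set F : C → ℂ := fun y => ∑ k ∈ Finset.range p, ∑ E, (De E : ℂ) * θ E k y with hF
    have h1 : ((∑ k ∈ Finset.range p, ∑ E, (De E : ℤ) * c E k a : ℤ) : ℂ) =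
        classInner F (fun y : C => (a : G → ℂ) y) := by
      rw [show F = ∑ k ∈ Finset.range p, ∑ E, (De E : ℂ) • θ E k from by
        funext y; simp [hF, Finset.sum_apply]]
      rw [classInner_sum_left]
      push_cast
      refine Finset.sum_congr rfl fun k _ => ?_
      rw [classInner_sum_left]
      refine Finset.sum_congr rfl fun E _ => ?_
      rw [classInner_smul_left, ← hc, ← classInner_indFun C (θ E k) (irr_isClassFunction a)]
    have h2 : ∀ y : C, F y =
        if (y : G) ∈ P then (h : ℂ) * ((p : ℂ) - if y = 1 then (p : ℂ) else 0) else 0 := by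
      intro y
      have hreg := sum_degree_mul (G := C ⧸ P') (QuotientGroup.mk' P' y)
      simp only [hDe, hQcard] at hreg
      simp only [hF, hθ, hηdef, Function.comp_apply]
      rw [Finset.sum_congr rfl fun k _ => (show ∑ E : IrrCharacter (C ⧸ P'), (De E : ℂ) *
        ((1 - lam y ^ k) * (E : (C ⧸ P') → ℂ) (QuotientGroup.mk' P' y)) =
        (1 - lam y ^ k) * if QuotientGroup.mk' P' y = 1 then (h : ℂ) else 0 from by
          rw [← hreg, Finset.mul_sum]; exact Finset.sum_congr rfl fun E _ => by ring)]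
      rw [← Finset.sum_mul]
      by_cases hy : (y : G) ∈ P
      · rw [if_pos (hmk y hy), if_pos hy, mul_comm]
        congr 1
        rw [Finset.sum_sub_distrib, Finset.sum_const, Finset.card_range, nsmul_eq_mul, mul_one]
        congr 1
        split_ifs with hy1
        · subst hy1; simp
        · rw [geom_sum_eq, hlamp y]
          · simp
          · intro h'
            apply hy1
            rw [hlam1] at h'
            obtain ⟨i, hi⟩ := hgen _ hy
            have h3 : p ∣ i * h := by
              rw [← hg0ord]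
              apply orderOf_dvd_of_pow_eq_one
              rw [pow_mul, show (g0 : G) ^ i = (y : G) from hi]
              exact h'
            rcases hp.dvd_mul.1 h3 with ⟨t, rfl⟩ | h4
            · apply Subtype.ext
              rw [← hi, pow_mul, show (g : G) ^ p = 1 by
                rw [← hg0ord]; exact pow_orderOf_eq_one _, one_pow]
              rfl
            · exact absurd h4 hph
      · have hy' : ¬ QuotientGroup.mk' P' y = 1 := fun he =>
          hy (Subgroup.mem_subgroupOf.1 ((QuotientGroup.eq_one_iff y).1 he))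
        rw [if_neg hy, if_neg hy', mul_zero]
    have h3 : ((∑ k ∈ Finset.range p, ∑ E, (De E : ℤ) * c E k a : ℤ) : ℂ) =
        (((p : ℤ) * m - D a : ℤ) : ℂ) := by
      rw [h1]
      push_cast
      rw [← hm]
      have hterm2 : ∀ y : C, F y * conj ((a : G → ℂ) y) =
          if (y : G) ∈ P then ((h : ℂ) * p) *
            (conj ((a : G → ℂ) y) - if y = 1 then conj ((a : G → ℂ) y) else 0) else 0 := by
        intro y; rw [h2]; split_ifs <;> ring
      simp only [classInner, hterm2, MonoidHom.one_apply, one_mul]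
      rw [← Finset.sum_filter, ← Finset.mul_sum, Finset.sum_sub_distrib]
      have h4 : ∑ y ∈ Finset.univ.filter (fun y : C => (y : G) ∈ P), conj ((a : G → ℂ) y) =
          ∑ z : P, conj ((a : G → ℂ) z) :=
        Finset.sum_bij' (fun y hy => (⟨(y : G), (Finset.mem_filter.1 hy).2⟩ : P))
          (fun z _ => (⟨(z : G), hPC z.2⟩ : C)) (fun y _ => Finset.mem_univ _)
          (fun z _ => Finset.mem_filter.2 ⟨Finset.mem_univ _, z.2⟩) (fun y _ => rfl)
          (fun z _ => rfl) (fun y _ => rfl)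
      rw [h4, Finset.sum_ite_eq', if_pos (Finset.mem_filter.2
          ⟨Finset.mem_univ _, by simp⟩), OneMemClass.coe_one, hD, map_natCast, hC, hP]
      push_cast
      have hp0 : (p : ℂ) ≠ 0 := by exact_mod_cast hp.ne_zero
      have hh0 : (h : ℂ) ≠ 0 := by
        have : h ≠ 0 := fun h0 => hph (h0 ▸ dvd_zero p)
        exact_mod_cast this
      field_simp
    exact_mod_cast h3
  obtain ⟨m, hm⟩ := hsum
  have hc0 : ∀ E, c E 0 a = 0 := by
    intro E
    have h1 : classInner (R E 0) (a : G → ℂ) = 0 := by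
      show classInner (Cfsg.indFun C (θ E 0)) _ = 0
      rw [classInner_indFun C _ (irr_isClassFunction _)]
      simp [classInner, hθ]
    rw [hc] at h1
    exact_mod_cast h1
  have hcong : (p : ℤ) ∣ (D a : ℤ) - v k₁ a := by
    have hDe1 : De E₁ = 1 := by
      have := hDe E₁; rw [trivIrr_apply] at this; exact_mod_cast this.symm
    have h1 : ∑ k ∈ Finset.range p, ∑ E, (De E : ℤ) * c E k a = ((p : ℤ) - 1) * v k₁ a := by
      rw [← Finset.add_sum_erase _ _ (Finset.mem_range.2 hp.pos)]
      simp only [hc0, mul_zero, Finset.sum_const_zero, zero_add]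
      rw [Finset.sum_congr rfl (fun k hk => ?_ : ∀ k ∈ (Finset.range p).erase 0,
        (∑ E, (De E : ℤ) * c E k a) = v k₁ a)]
      · rw [Finset.sum_const, Finset.card_erase_of_mem (Finset.mem_range.2 hp.pos),
          Finset.card_range, nsmul_eq_mul, Nat.cast_sub (by omega : 1 ≤ p), Nat.cast_one]
      · rw [Finset.mem_erase, Finset.mem_range] at hk
        have hnd : ¬ p ∣ k := fun h' => by
          have := Nat.le_of_dvd (Nat.pos_of_ne_zero hk.1) h'; omega
        rw [Finset.sum_eq_single E₁ (fun E _ hE => by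
          have := hw0 E hE ⟨k, hnd⟩
          rw [show c E k a = 0 from this, mul_zero]) (by simp), hDe1, Nat.cast_one, one_mul]
        have := hall ⟨k, hnd⟩
        simpa [hv, hat] using this
    refine ⟨m - v k₁ a, ?_⟩
    rw [mul_sub]; linarith [hm, h1]
  -- involutions
  obtain ⟨ρ, hρirr, hρ⟩ : ∃ ρ : Representation ℂ G (Fin (D a) → ℂ),
      ρ.IsIrreducible ∧ ρ.character = (a : G → ℂ) := by
    obtain ⟨n₀, ρ, hirr, hchar⟩ := a.2
    have h1 := hD a
    rw [← hchar, ρ.char_one, Module.finrank_fin_fun] at h1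
    have hn : n₀ = D a := by exact_mod_cast h1
    subst hn
    exact ⟨ρ, hirr, hchar⟩
  have hχ : ∀ y, (a : G → ℂ) y = LinearMap.trace ℂ (Fin (D a) → ℂ) (ρ y) := fun y => by
    rw [← hρ]; rfl
  have hfaith : ∀ y : G, ρ y = 1 → y = 1 := by
    intro y hy
    by_contra hy1
    have hker : (ρ.asGroupHom).ker = ⊤ := by
      refine (IsSimpleGroup.eq_bot_or_eq_top_of_normal _ (MonoidHom.normal_ker _)).resolve_left
        fun hb => hy1 ?_
      have : y ∈ (ρ.asGroupHom).ker :=
        MonoidHom.mem_ker.2 (Units.ext (by rw [Representation.asGroupHom_apply, hy]; rfl))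
      rwa [hb, Subgroup.mem_bot] at this
    have hall1 : ∀ z, (a : G → ℂ) z = D a := fun z => by
      have hz : z ∈ (ρ.asGroupHom).ker := hker ▸ Subgroup.mem_top z
      have hz' := congrArg Units.val (MonoidHom.mem_ker.1 hz)
      rw [Representation.asGroupHom_apply, Units.val_one] at hz'
      rw [hχ, hz', LinearMap.trace_one, Module.finrank_fin_fun]
    have h1 := IsIrrCharacter.classInner_self a.2
    simp only [classInner, hall1, map_natCast, Finset.sum_const, Finset.card_univ,
      ← Nat.card_eq_fintype_card, nsmul_eq_mul] at h1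
    rw [← mul_assoc, inv_mul_cancel₀ natCard_ne_zero_complex, one_mul] at h1
    have h2 : D a * D a = 1 := by exact_mod_cast h1
    have := hD2 a hat
    nlinarith
  have hdet : ∀ y : G, LinearMap.det (ρ y) = 1 := by
    have hl : ((LinearMap.det : Module.End ℂ (Fin (D a) → ℂ) →* ℂ).comp ρ).toHomUnits.ker = ⊤ := by
      rcases IsSimpleGroup.eq_bot_or_eq_top_of_normal _ (MonoidHom.normal_ker
        ((LinearMap.det : Module.End ℂ (Fin (D a) → ℂ) →* ℂ).comp ρ).toHomUnits) with h1 | h1
      · exfalso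
        exact hG ⟨⟨fun y z => (MonoidHom.ker_eq_bot_iff _).1 h1 (by simp [mul_comm])⟩⟩
      · exact h1
    intro y
    have := congrArg Units.val (MonoidHom.mem_ker.1 (hl ▸ Subgroup.mem_top y))
    simpa using this
  have hinvol : ∀ y : G, y * y = 1 → y ≠ 1 → ∃ l : ℕ, Even l ∧ 0 < l ∧
      l ≤ D a ∧ (a : G → ℂ) y = (D a : ℂ) - 2 * l ∧ (l = D a → ρ y = -1) := by
    intro y hy hy1
    obtain ⟨l, hle, htr, hd, h0, hfull⟩ := exists_minus_dim
      (A := ρ y) (by rw [← map_mul, hy, map_one])
    rw [Module.finrank_fin_fun] at hle htr hfull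
    rw [hdet] at hd
    refine ⟨l, ?_, Nat.pos_of_ne_zero fun hl => hy1 (hfaith y (h0 hl)), hle,
      by rw [hχ, htr], hfull⟩
    rcases Nat.even_or_odd l with he | he
    · exact he
    · rw [he.neg_one_pow] at hd; norm_num at hd
  have hcenter : ∀ y : G, y ≠ 1 → ρ y ≠ -1 := by
    intro y hy1 hy
    have hyc : y ∈ Subgroup.center G := Subgroup.mem_center_iff.2 fun z => by
      have h1 : ρ (z * y * z⁻¹ * y⁻¹) = 1 := by
        have hy' : ρ y⁻¹ = -1 := by
          have h2 : ρ y * ρ y⁻¹ = 1 := by rw [← map_mul, mul_inv_cancel, map_one]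
          rw [hy] at h2
          apply LinearMap.ext
          intro v
          have h3 := DFunLike.congr_fun h2 v
          simp only [Module.End.mul_apply, LinearMap.neg_apply, Module.End.one_apply] at h3 ⊢
          exact neg_eq_iff_eq_neg.1 h3
        rw [map_mul, map_mul, map_mul, hy, hy']
        apply LinearMap.ext
        intro v
        simp only [Module.End.mul_apply, LinearMap.neg_apply, Module.End.one_apply, map_neg,
          neg_neg]
        rw [← Module.End.mul_apply, ← map_mul, mul_inv_cancel, map_one, Module.End.one_apply]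
      have h3 := hfaith _ h1
      rw [mul_inv_eq_one, mul_inv_eq_iff_eq_mul] at h3
      exact h3
    rcases IsSimpleGroup.eq_bot_or_eq_top_of_normal (Subgroup.center G) inferInstance with h1 | h1
    · exact hy1 (by rwa [h1, Subgroup.mem_bot] at hyc)
    · exact hG ⟨⟨fun z w => (Subgroup.mem_center_iff.1 (h1 ▸ Subgroup.mem_top w) z)⟩⟩
  have hformula : ∀ t : G, t * t = 1 → t ≠ 1 → ∃ l m : ℕ, 0 < l ∧ l < D a ∧
      Nat.card G * p * h * (2 * l) ^ 2 =
        D a * D (b k₁) * (Nat.card (Subgroup.centralizer ({t} : Set G)) * m) ^ 2 := by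
    intro t ht2 ht1
    obtain ⟨l, -, hlpos, hled, hlval, hlfull⟩ := hinvol t ht2 ht1
    have hl2 : l < D a := lt_of_le_of_ne hled fun h1 => hcenter _ ht1 (hlfull h1)
    have hRt : ∀ k : ℕ, R E₁ k t = 0 := fun k => by
      show Cfsg.indFun C (θ E₁ k) t = 0
      rw [indFun_apply, Finset.sum_eq_zero, mul_zero]
      intro x _
      by_cases hmem : x⁻¹ * t * x ∈ C
      · rw [extendByZero_of_mem _ _ hmem]
        apply hθzero
        show (x⁻¹ * t * x) ^ h = 1
        have hy2 : (x⁻¹ * t * x) ^ 2 = 1 := by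
          rw [pow_two]
          calc x⁻¹ * t * x * (x⁻¹ * t * x) = x⁻¹ * (t * t) * x := by group
            _ = 1 := by rw [ht2]; group
        have hwP := hpow ⟨_, hmem⟩
        have h1 : orderOf ((x⁻¹ * t * x) ^ h) ∣ Nat.gcd 2 p := by
          refine Nat.dvd_gcd (orderOf_dvd_of_pow_eq_one ?_) ?_
          · rw [← pow_mul, mul_comm, pow_mul, hy2, one_pow]
          · have := orderOf_dvd_natCard (⟨_, hwP⟩ : P)
            rwa [hP, Subgroup.orderOf_mk] at this
        rw [(Nat.coprime_primes Nat.prime_two hp).2 (by omega) |>.gcd_eq_one, Nat.dvd_one,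
          orderOf_eq_one_iff] at h1
        exact h1
      · exact extendByZero_of_not_mem _ _ hmem
    -- the left-hand side
    set S : G → ℂ := fun z => if z ∈ C ∧ z ^ h ≠ 1 then (1 : ℂ) else 0 with hS
    have hk : ∀ k : K, ∑ z : G, R E₁ k (t * (z * t * z⁻¹)) = (Nat.card G : ℂ) *
        ((2 * l : ℂ) ^ 2 / ((D a : ℂ) * D (b k₁))) := by
      intro k
      have h1 : ∀ z, R E₁ k z = ∑ χ, (c E₁ k χ : ℂ) * (χ : G → ℂ) z := fun z => by
        have := congrFun (hcR E₁ k) z
        rw [Finset.sum_apply] at this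
        simpa using this
      have h2 : (0 : ℂ) = 1 + (v k₁ a : ℂ) * (a : G → ℂ) t - (v k₁ a : ℂ) * (b k : G → ℂ) t := by
        have h3 := h1 t
        rw [hRt, ← Finset.add_sum_erase Finset.univ _ (Finset.mem_univ (trivIrr G)), htriv,
          if_pos rfl, Int.cast_one, one_mul, trivIrr_apply] at h3
        rw [h3, add_sub_assoc]
        congr 1
        rw [Finset.sum_congr rfl (fun χ hχ => by
          rw [show c E₁ k χ = v k χ by simp [hv, Finset.ne_of_mem_erase hχ]] :
            ∀ χ ∈ Finset.univ.erase (trivIrr G), (c E₁ k χ : ℂ) * (χ : G → ℂ) t =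
              (v k χ : ℂ) * (χ : G → ℂ) t),
          Finset.sum_erase _ (by simp [hv]),
          sum_two (fun χ => (v k χ : ℂ)) _ (hba k).symm (fun i hi hi' => by simp [hb0 k i hi hi']),
          hall k, (hbval k).1]
        push_cast; ring
      have h4 : ∑ z : G, R E₁ k (t * (z * t * z⁻¹)) = (Nat.card G : ℂ) *
          (1 + (v k₁ a : ℂ) * (a : G → ℂ) t ^ 2 / D a
            - (v k₁ a : ℂ) * (b k : G → ℂ) t ^ 2 / D (b k)) := by
        simp only [h1]
        rw [Finset.sum_comm]
        rw [Finset.sum_congr rfl (fun χ _ => by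
          rw [← Finset.mul_sum, IsIrrCharacter.sum_conj_translate χ.2, hD, ← pow_two] :
            ∀ χ ∈ (Finset.univ : Finset (IrrCharacter G)),
              ∑ z : G, (c E₁ k χ : ℂ) * (χ : G → ℂ) (t * (z * t * z⁻¹)) =
              (c E₁ k χ : ℂ) * ((Nat.card G : ℂ) / D χ * (χ : G → ℂ) t ^ 2))]
        rw [← Finset.add_sum_erase Finset.univ _ (Finset.mem_univ (trivIrr G)), htriv, if_pos rfl,
          Int.cast_one, one_mul, trivIrr_apply, one_pow,
          show D (trivIrr G) = 1 from by
            have := hD (trivIrr G); rw [trivIrr_apply] at this; exact_mod_cast this.symm,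
          Nat.cast_one, div_one, mul_one, add_sub_assoc, mul_add, mul_one]
        congr 1
        rw [Finset.sum_congr rfl (fun χ hχ => by
          rw [show c E₁ k χ = v k χ by simp [hv, Finset.ne_of_mem_erase hχ]] :
            ∀ χ ∈ Finset.univ.erase (trivIrr G),
              (c E₁ k χ : ℂ) * ((Nat.card G : ℂ) / D χ * (χ : G → ℂ) t ^ 2) =
              (v k χ : ℂ) * ((Nat.card G : ℂ) / D χ * (χ : G → ℂ) t ^ 2)),
          Finset.sum_erase _ (by simp [hv]),
          sum_two (fun χ => (v k χ : ℂ)) _ (hba k).symm (fun i hi hi' => by simp [hb0 k i hi hi']),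
          hall k, (hbval k).1]
        push_cast; ring
      have hDbk : (D (b k) : ℂ) = D a + (v k₁ a : ℂ) := by
        exact_mod_cast (hbval k).2
      have hDb1 : (D (b k₁) : ℂ) = D a + (v k₁ a : ℂ) := by
        exact_mod_cast (hbval k₁).2
      have hε : (v k₁ a : ℂ) * (v k₁ a : ℂ) = 1 := by
        rw [← pow_two]; exact_mod_cast ha
      have hβ : (b k : G → ℂ) t = (a : G → ℂ) t + (v k₁ a : ℂ) := by
        linear_combination (v k₁ a : ℂ) * h2 + ((a : G → ℂ) t - (b k : G → ℂ) t) * hε
      have hda : (D a : ℂ) ≠ 0 := by exact_mod_cast (hDpos a).ne'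
      have hdb : (D a : ℂ) + (v k₁ a : ℂ) ≠ 0 := by
        rw [← hDbk]; exact_mod_cast (hDpos _).ne'
      rw [h4, hβ, hDbk, hDb1, hlval]
      congr 1
      rcases sq_eq_one_iff.1 ha with e1 | e1 <;> simp only [e1, Int.cast_one, Int.cast_neg] at hdb ⊢
      all_goals field_simp; ring
    have hsum1 : ∑ k ∈ Finset.range p, ∑ z : G, R E₁ k (t * (z * t * z⁻¹)) =
        ((p : ℂ) - 1) * ((Nat.card G : ℂ) * ((2 * l : ℂ) ^ 2 / ((D a : ℂ) * D (b k₁)))) := by
      rw [← Finset.add_sum_erase _ _ (Finset.mem_range.2 hp.pos),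
        show (∑ z : G, R E₁ 0 (t * (z * t * z⁻¹))) = 0 from Finset.sum_eq_zero fun z _ => by
          show Cfsg.indFun C (θ E₁ 0) _ = 0
          rw [indFun_apply, Finset.sum_eq_zero, mul_zero]
          intro x _
          by_cases hmem : x⁻¹ * (t * (z * t * z⁻¹)) * x ∈ C
          · rw [extendByZero_of_mem _ _ hmem]; simp [hθ]
          · exact extendByZero_of_not_mem _ _ hmem,
        zero_add, Finset.sum_congr rfl (fun k hk' => hk ⟨k, fun hd => by
          rw [Finset.mem_erase, Finset.mem_range] at hk'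
          have := Nat.le_of_dvd (Nat.pos_of_ne_zero hk'.1) hd; omega⟩),
        Finset.sum_const, Finset.card_erase_of_mem (Finset.mem_range.2 hp.pos), Finset.card_range,
        nsmul_eq_mul, Nat.cast_sub (by omega : 1 ≤ p), Nat.cast_one]
    -- the right-hand side
    have hRsum : ∀ z : G, ∑ k ∈ Finset.range p, R E₁ k z =
        (Nat.card C : ℂ)⁻¹ * ((p : ℂ) * ∑ x : G, S (x⁻¹ * z * x)) := by
      intro z
      simp only [hR, indFun_apply, ← Finset.mul_sum]
      congr 1
      rw [Finset.sum_comm, Finset.mul_sum]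
      refine Finset.sum_congr rfl fun x _ => ?_
      by_cases hmem : x⁻¹ * z * x ∈ C
      · rw [Finset.sum_congr rfl fun k _ => extendByZero_of_mem _ _ hmem]
        simp only [hθ1, Finset.sum_sub_distrib, Finset.sum_const, Finset.card_range, nsmul_eq_mul,
          mul_one]
        by_cases h1 : (x⁻¹ * z * x) ^ h = 1
        · simp [hS, h1, (hlam1 ⟨_, hmem⟩).2 h1]
        · rw [geom_sum_eq (fun h2 => h1 ((hlam1 ⟨_, hmem⟩).1 h2)), hlamp]
          simp [hS, h1, hmem]
      · rw [Finset.sum_congr rfl fun k _ => extendByZero_of_not_mem _ _ hmem]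
        simp [hS, hmem]
    set cls := Finset.univ.filter (fun u : G => IsConj t u) with hcls
    set I := Finset.univ.filter (fun u : G => IsConj t u ∧ u ∈ N ∧ u ∉ C) with hI
    set κ := Nat.card (Subgroup.centralizer ({t} : Set G)) with hκ
    have hsum2 : ∑ k ∈ Finset.range p, ∑ z : G, R E₁ k (t * (z * t * z⁻¹)) =
        (Nat.card C : ℂ)⁻¹ * ((κ : ℂ) ^ 2 * ((p : ℂ) *
          ((cls ×ˢ cls).filter (fun uv : G × G => uv.1 * uv.2 ∈ C ∧ (uv.1 * uv.2) ^ h ≠ 1)).card))
        := by
      rw [Finset.sum_comm]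
      simp only [hRsum, ← Finset.mul_sum]
      congr 1
      rw [Finset.sum_comm]
      have h1 : ∀ x : G, ∑ z : G, S (x⁻¹ * (t * (z * t * z⁻¹)) * x) =
          (κ : ℂ) * ∑ w ∈ cls, S ((x⁻¹ * t * x) * w) := by
        intro x
        rw [hκ, hcls, ← sum_conj_eq t (fun w => S ((x⁻¹ * t * x) * w))]
        refine Fintype.sum_equiv (Equiv.mulLeft x⁻¹) _ _ fun z => ?_
        rw [Equiv.coe_mulLeft]
        congr 1
        group
      rw [Finset.sum_congr rfl fun x _ => h1 x, ← Finset.mul_sum]
      have h2 : ∑ x : G, ∑ w ∈ cls, S ((x⁻¹ * t * x) * w) =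
          (κ : ℂ) * ∑ u ∈ cls, ∑ w ∈ cls, S (u * w) := by
        rw [hκ, hcls, ← sum_conj_eq t (fun u => ∑ w ∈ cls, S (u * w))]
        refine Fintype.sum_equiv (Equiv.inv G) _ _ fun x => ?_
        simp [hcls]
      rw [h2, ← Finset.sum_product' (f := fun u w => S (u * w))]
      simp only [hS, Finset.sum_boole]
      ring
    have hpairs := singular_pairs_card hp (by omega) P hP C rfl hC hph hNC2 hinvert t ht2
    have hkey : ((p : ℂ) - 1) * ((Nat.card G : ℂ) * (2 * l : ℂ) ^ 2) * ((p : ℂ) * h) =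
        ((D a : ℂ) * D (b k₁)) * ((κ : ℂ) * I.card) ^ 2 * ((p : ℂ) - 1) := by
      have h1 := hsum1.symm.trans hsum2
      have h2 : (p : ℂ) * (((cls ×ˢ cls).filter
          (fun uv : G × G => uv.1 * uv.2 ∈ C ∧ (uv.1 * uv.2) ^ h ≠ 1)).card : ℂ) =
          (I.card : ℂ) ^ 2 * ((p : ℂ) - 1) := by
        rw [← Nat.cast_one, ← Nat.cast_sub (by omega : 1 ≤ p)]
        exact_mod_cast hpairs
      rw [h2, hC] at h1
      push_cast at h1
      have hp0 : (p : ℂ) ≠ 0 := by exact_mod_cast hp.ne_zero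
      have hh0 : (h : ℂ) ≠ 0 := by
        have : h ≠ 0 := fun h0 => hph (h0 ▸ dvd_zero p)
        exact_mod_cast this
      have hda : (D a : ℂ) ≠ 0 := by exact_mod_cast (hDpos a).ne'
      have hdb : (D (b k₁) : ℂ) ≠ 0 := by exact_mod_cast (hDpos _).ne'
      field_simp at h1 ⊢
      linear_combination h1
    have hkey2 : Nat.card G * p * h * (2 * l) ^ 2 = D a * D (b k₁) * (κ * I.card) ^ 2 := by
      have hp1 : (p : ℂ) - 1 ≠ 0 := by
        rw [← Nat.cast_one, ← Nat.cast_sub (by omega : 1 ≤ p)]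
        exact_mod_cast (by omega : p - 1 ≠ 0)
      have h1 : ((p : ℂ) - 1) * ((Nat.card G : ℂ) * p * h * (2 * l) ^ 2) =
          ((p : ℂ) - 1) * ((D a : ℂ) * D (b k₁) * (κ * I.card) ^ 2) := by
        linear_combination hkey
      exact_mod_cast mul_left_cancel₀ hp1 h1
    exact ⟨l, I.card, hlpos, hl2, hkey2⟩
  have heven : 2 ∣ h → 2 * p < D a := by
    intro hh
    obtain ⟨s, hs⟩ : ∃ s : C, orderOf s = 2 := by
      haveI := Fact.mk Nat.prime_two
      refine exists_prime_orderOf_dvd_card' 2 ?_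
      rw [hC]; exact dvd_mul_of_dvd_right hh p
    have hs2 : s ^ 2 = 1 := hs ▸ pow_orderOf_eq_one s
    have hsG2 : (s : G) * s = 1 := by
      rw [← Subgroup.coe_mul, ← pow_two, hs2]; rfl
    have hs1 : (s : G) ≠ 1 := fun h1 => by
      rw [show s = 1 from Subtype.ext h1, orderOf_one] at hs; norm_num at hs
    obtain ⟨l, hle, hlpos, hled, hlval, hlfull⟩ := hinvol s hsG2 hs1
    have hl2 : l < D a := lt_of_le_of_ne hled fun h1 => hcenter _ hs1 (hlfull h1)
    have hsh : ((s : G)) ^ h = 1 := by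
      obtain ⟨r, rfl⟩ := hh
      rw [pow_mul, pow_two, hsG2, one_pow]
    -- the sum over the nontrivial elements of the coset `s P`
    set F : C → ℂ := fun y => ∑ k ∈ Finset.range p,
      ∑ E : IrrCharacter (C ⧸ P'), conj ((E : (C ⧸ P') → ℂ) (QuotientGroup.mk' P' s)) * θ E k y with hF
    set q₀ := QuotientGroup.mk' P' s with hq₀
    have hF1 : classInner F (fun y : C => (a : G → ℂ) y) = ((p : ℂ) - 1) * v k₁ a := by
      rw [show F = ∑ k ∈ Finset.range p,
        ∑ E : IrrCharacter (C ⧸ P'), conj ((E : (C ⧸ P') → ℂ) q₀) • θ E k from by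
          funext y; simp [hF, Finset.sum_apply]]
      rw [classInner_sum_left, ← Finset.add_sum_erase _ _ (Finset.mem_range.2 hp.pos)]
      have hval : ∀ k : ℕ, classInner (∑ E : IrrCharacter (C ⧸ P'), conj ((E : (C ⧸ P') → ℂ) q₀) • θ E k)
          (fun y : C => (a : G → ℂ) y) =
          ∑ E : IrrCharacter (C ⧸ P'), conj ((E : (C ⧸ P') → ℂ) q₀) * (c E k a : ℂ) := by
        intro k
        rw [classInner_sum_left]
        refine Finset.sum_congr rfl fun E _ => ?_
        rw [classInner_smul_left, ← hc, ← classInner_indFun C (θ E k) (irr_isClassFunction a)]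
      rw [hval]
      simp only [hc0, Int.cast_zero, mul_zero, Finset.sum_const_zero, zero_add]
      rw [Finset.sum_congr rfl (fun k hk => ?_ : ∀ k ∈ (Finset.range p).erase 0,
        classInner (∑ E : IrrCharacter (C ⧸ P'), conj ((E : (C ⧸ P') → ℂ) q₀) • θ E k) (fun y : C => (a : G → ℂ) y) =
          (v k₁ a : ℂ))]
      · rw [Finset.sum_const, Finset.card_erase_of_mem (Finset.mem_range.2 hp.pos),
          Finset.card_range, nsmul_eq_mul, Nat.cast_sub (by omega : 1 ≤ p), Nat.cast_one]
      · rw [Finset.mem_erase, Finset.mem_range] at hk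
        have hnd : ¬ p ∣ k := fun h' => by
          have := Nat.le_of_dvd (Nat.pos_of_ne_zero hk.1) h'; omega
        rw [hval, Finset.sum_eq_single E₁ (fun E _ hE => by
          have := hw0 E hE ⟨k, hnd⟩
          rw [show c E k a = 0 from this, Int.cast_zero, mul_zero]) (by simp)]
        rw [trivIrr_apply, map_one, one_mul]
        have := hall ⟨k, hnd⟩
        simp only [hv, hat, if_false] at this ⊢
        rw [this]
    set Φ : (C ⧸ P') → ℂ := fun q => ∑ y ∈ Finset.univ.filter
      (fun y : C => QuotientGroup.mk' P' y = q ∧ (y : G) ^ h ≠ 1), conj ((a : G → ℂ) y) with hΦ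
    have hΦcl : IsClassFunction (C ⧸ P') Φ := by
      intro q r
      obtain ⟨z, rfl⟩ := QuotientGroup.mk'_surjective P' r
      symm
      refine Finset.sum_equiv (MulAut.conj z).toEquiv (fun y => ?_) (fun y _ => ?_)
      · simp only [Finset.mem_filter, Finset.mem_univ, true_and, MulEquiv.toEquiv_eq_coe,
          EquivLike.coe_coe, MulAut.conj_apply, map_mul, map_inv]
        constructor
        · rintro ⟨h1, h2⟩
          refine ⟨by rw [h1], fun h3 => h2 ?_⟩
          rw [Subgroup.coe_mul, Subgroup.coe_mul, InvMemClass.coe_inv, conj_pow] at h3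
          exact conj_eq_one_iff.1 h3
        · rintro ⟨h1, h2⟩
          refine ⟨mul_left_cancel (mul_right_cancel h1), fun h3 => h2 ?_⟩
          rw [Subgroup.coe_mul, Subgroup.coe_mul, InvMemClass.coe_inv, conj_pow, h3]
          group
      · show _ = conj ((a : G → ℂ) ((z * y * z⁻¹ : C) : G))
        rw [Subgroup.coe_mul, Subgroup.coe_mul, InvMemClass.coe_inv,
          IsCharacter.conj_apply (irr_isCharacter a)]
    have hFy : ∀ y : C, F y * conj ((a : G → ℂ) y) = (p : ℂ) *
        (Nat.card (Subgroup.centralizer ({QuotientGroup.mk' P' y} : Set (C ⧸ P'))) : ℂ) *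
        ((if IsConj q₀ (QuotientGroup.mk' P' y) then (1 : ℂ) else 0) *
          (if (y : G) ^ h ≠ 1 then conj ((a : G → ℂ) y) else 0)) := by
      intro y
      have horth := sum_irr_mul_conj (QuotientGroup.mk' P' y) q₀
      have e1 : F y = (∑ k ∈ Finset.range p, (1 - lam y ^ k)) *
          if IsConj (QuotientGroup.mk' P' y) q₀ then
            (Nat.card (Subgroup.centralizer ({QuotientGroup.mk' P' y} : Set (C ⧸ P'))) : ℂ)
          else 0 := by
        rw [← horth, Finset.sum_mul]
        refine Finset.sum_congr rfl fun k _ => ?_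
        rw [Finset.mul_sum]
        exact Finset.sum_congr rfl fun E _ => by simp only [hθ, hηdef, Function.comp_apply]; ring
      have e2 : (∑ k ∈ Finset.range p, (1 - lam y ^ k)) =
          if (y : G) ^ h ≠ 1 then (p : ℂ) else 0 := by
        rw [Finset.sum_sub_distrib, Finset.sum_const, Finset.card_range, nsmul_eq_mul, mul_one]
        by_cases h1 : (y : G) ^ h = 1
        · simp [h1, (hlam1 y).2 h1]
        · rw [geom_sum_eq (fun h2 => h1 ((hlam1 y).1 h2)), hlamp, if_pos h1]
          simp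
      rw [e1, e2]
      simp only [isConj_comm (g := q₀)]
      split_ifs <;> ring
    have hsum3 : ∑ y : C, F y * conj ((a : G → ℂ) y) = (p : ℂ) * h * Φ q₀ := by
      simp only [hFy]
      rw [← Finset.sum_fiberwise_of_maps_to (s := Finset.univ) (t := Finset.univ)
        (g := fun y : C => QuotientGroup.mk' P' y) (fun y _ => Finset.mem_univ _)]
      have hfib : ∀ q : C ⧸ P', ∑ y ∈ Finset.univ.filter (fun y : C => QuotientGroup.mk' P' y = q),
          (p : ℂ) * (Nat.card (Subgroup.centralizer ({QuotientGroup.mk' P' y} : Set (C ⧸ P'))) : ℂ)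
            * ((if IsConj q₀ (QuotientGroup.mk' P' y) then (1 : ℂ) else 0) *
              (if (y : G) ^ h ≠ 1 then conj ((a : G → ℂ) y) else 0)) =
          (p : ℂ) * (Nat.card (Subgroup.centralizer ({q₀} : Set (C ⧸ P'))) : ℂ) *
            (classIndicator q₀ q * Φ q) := by
        intro q
        by_cases hq : IsConj q₀ q
        · have hcq : Nat.card (Subgroup.centralizer ({q} : Set (C ⧸ P'))) =
              Nat.card (Subgroup.centralizer ({q₀} : Set (C ⧸ P'))) := by
            have h1 := card_conj_mul_card_centralizer q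
            have h2 := card_conj_mul_card_centralizer q₀
            have h3 : Nat.card {x // IsConj q x} = Nat.card {x // IsConj q₀ x} :=
              Nat.card_congr (Equiv.subtypeEquivRight fun x =>
                ⟨fun hx => hq.trans hx, fun hx => hq.symm.trans hx⟩)
            rw [h3] at h1
            haveI : Nonempty {x // IsConj q₀ x} := ⟨⟨q₀, IsConj.refl q₀⟩⟩
            exact Nat.eq_of_mul_eq_mul_left Nat.card_pos (h1.trans h2.symm)
          rw [show classIndicator q₀ q = 1 from if_pos hq, one_mul, hΦ, Finset.mul_sum,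
            ← Finset.filter_filter, Finset.sum_filter (p := fun y : C => (y : G) ^ h ≠ 1)]
          refine Finset.sum_congr rfl fun y hy => ?_
          rw [(Finset.mem_filter.1 hy).2, if_pos hq, one_mul, hcq]
          split_ifs <;> ring
        · rw [show classIndicator q₀ q = 0 from if_neg hq, zero_mul, mul_zero]
          refine Finset.sum_eq_zero fun y hy => ?_
          rw [(Finset.mem_filter.1 hy).2, if_neg hq]; ring
      rw [Finset.sum_congr rfl fun q _ => hfib q, ← Finset.mul_sum,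
        sum_classIndicator_mul q₀ hΦcl, mul_assoc, ← mul_assoc
          (Nat.card (Subgroup.centralizer ({q₀} : Set (C ⧸ P'))) : ℂ),
        ← Nat.cast_mul, mul_comm (Nat.card (Subgroup.centralizer ({q₀} : Set (C ⧸ P')))),
        card_conj_mul_card_centralizer, hQcard, ← mul_assoc]
    have hcoset : Φ q₀ = (∑ z : P, conj ((a : G → ℂ) ((s : G) * z))) -
        conj ((a : G → ℂ) s) := by
      rw [show conj ((a : G → ℂ) s) = conj ((a : G → ℂ) ((s : G) * ((1 : P) : G))) by
          rw [OneMemClass.coe_one, mul_one],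
        ← Finset.sum_erase_eq_sub (f := fun z : P => conj ((a : G → ℂ) ((s : G) * z)))
          (Finset.mem_univ (1 : P))]
      have hsz : ∀ z : G, z ∈ P → ((s : G) * z) ^ h = z ^ h := fun z hz => by
        rw [mul_pow_of_mem_centralizer hp P hP hC s.2 (hPC hz), hsh, one_mul]
      refine Finset.sum_bij' (fun y hy => (⟨(s : G)⁻¹ * (y : G), ?_⟩ : P))
        (fun z _ => s * (⟨(z : G), hPC z.2⟩ : C)) ?_ ?_ ?_ ?_ ?_
      · have h1 := (Finset.mem_filter.1 hy).2.1
        simpa [Subgroup.mem_subgroupOf] using Subgroup.mem_subgroupOf.1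
          ((QuotientGroup.eq (s := P')).1 h1.symm)
      · intro y hy
        rw [Finset.mem_erase]
        refine ⟨fun h1 => (Finset.mem_filter.1 hy).2.2 ?_, Finset.mem_univ _⟩
        have h2 := congrArg Subtype.val h1
        simp only [OneMemClass.coe_one, inv_mul_eq_one] at h2
        rw [← h2, hsh]
      · intro z hz
        rw [Finset.mem_filter]
        refine ⟨Finset.mem_univ _, ?_, ?_⟩
        · rw [map_mul, hmk (⟨(z : G), hPC z.2⟩ : C) z.2, mul_one]
        · rw [Subgroup.coe_mul, hsz z z.2]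
          intro h1
          obtain ⟨i, hi⟩ := hgen _ z.2
          have h3 : p ∣ i * h := by
            rw [← hg0ord]
            apply orderOf_dvd_of_pow_eq_one
            rw [pow_mul, show (g0 : G) ^ i = (z : G) from hi]
            exact h1
          rcases hp.dvd_mul.1 h3 with ⟨r, rfl⟩ | h4
          · apply (Finset.mem_erase.1 hz).1
            apply Subtype.ext
            rw [← hi, pow_mul, show (g : G) ^ p = 1 by
              rw [← hg0ord]; exact pow_orderOf_eq_one _, one_pow]
            rfl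
          · exact hph h4
      · intro y _
        apply Subtype.ext
        simp
      · intro z _
        apply Subtype.ext
        simp
      · intro y _
        simp
    obtain ⟨τ, hτ⟩ : ∃ τ : ℤ, ∑ z : P, (a : G → ℂ) ((s : G) * z) = (p : ℂ) * τ := by
      set π : Module.End ℂ (Fin (D a) → ℂ) := (p : ℂ)⁻¹ • ∑ z : P, ρ z with hπ
      have hp0 : (p : ℂ) ≠ 0 := by exact_mod_cast hp.ne_zero
      have hzsum : ∀ z : P, ρ z * ∑ w : P, ρ w = ∑ w : P, ρ w := fun z => by
        rw [Finset.mul_sum]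
        refine Fintype.sum_equiv (Equiv.mulLeft z) _ _ fun w => ?_
        simp [← map_mul]
      have hππ : π * π = π := by
        rw [hπ, smul_mul_smul_comm, Finset.sum_mul, Finset.sum_congr rfl fun z _ => hzsum z,
          Finset.sum_const, Finset.card_univ, ← Nat.card_eq_fintype_card, hP,
          ← Nat.cast_smul_eq_nsmul ℂ, smul_smul]
        congr 1
        field_simp
      have hsπ : ρ s * π = π * ρ s := by
        rw [hπ, mul_smul_comm, smul_mul_assoc, Finset.mul_sum, Finset.sum_mul]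
        congr 1
        refine Finset.sum_congr rfl fun z _ => ?_
        rw [← map_mul, ← map_mul, Subgroup.mem_centralizer_iff.1 s.2 _ z.2]
      have hs' : ρ s * ρ s = 1 := by rw [← map_mul, hsG2, map_one]
      set q : Module.End ℂ (Fin (D a) → ℂ) := (2⁻¹ : ℂ) • (π - ρ s * π) with hq
      have hqq : IsIdempotentElem q := by
        have e1 : π * (ρ s * π) = ρ s * π := by rw [← mul_assoc, ← hsπ, mul_assoc, hππ]
        have e2 : ρ s * π * π = ρ s * π := by rw [mul_assoc, hππ]
        have e3 : ρ s * π * (ρ s * π) = π := by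
          rw [mul_assoc, e1, ← mul_assoc, hs', one_mul]
        rw [IsIdempotentElem, hq, smul_mul_smul_comm, sub_mul, mul_sub, mul_sub, hππ, e1, e2, e3]
        module
      have htr : LinearMap.trace ℂ _ (ρ s * π) =
          LinearMap.trace ℂ _ π - 2 * LinearMap.trace ℂ _ q := by
        have hq2 : (2 : ℂ) • q = π - ρ s * π := by rw [hq, smul_smul]; norm_num
        have h3 := congrArg (LinearMap.trace ℂ (Fin (D a) → ℂ)) hq2
        rw [LinearMap.map_smul, LinearMap.map_sub, smul_eq_mul] at h3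
        linear_combination h3
      rw [trace_idempotent (e := π) hππ, trace_idempotent hqq] at htr
      refine ⟨(Module.finrank ℂ (LinearMap.range π) : ℤ) -
        2 * Module.finrank ℂ (LinearMap.range q), ?_⟩
      have h1 : LinearMap.trace ℂ _ (ρ s * π) =
          (p : ℂ)⁻¹ * ∑ z : P, (a : G → ℂ) ((s : G) * z) := by
        rw [hπ, mul_smul_comm, map_smul, Finset.mul_sum, map_sum, smul_eq_mul]
        exact congrArg _ (Finset.sum_congr rfl fun z _ => by rw [hχ, map_mul ρ])
      rw [h1] at htr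
      push_cast
      rw [← htr]
      field_simp
    have hpp : (p : ℂ) * h ≠ 0 := by
      have : h ≠ 0 := fun h0 => hph (h0 ▸ dvd_zero p)
      exact mul_ne_zero (by exact_mod_cast hp.ne_zero) (by exact_mod_cast this)
    have hΦval : Φ q₀ = ((p : ℂ) - 1) * v k₁ a := by
      rw [← hF1]
      simp only [classInner]
      rw [hsum3, hC, Nat.cast_mul, ← mul_assoc, inv_mul_cancel₀ hpp, one_mul]
    rw [hcoset, ← map_sum, hτ, hlval] at hΦval
    simp only [map_mul, map_sub, map_natCast, map_intCast, map_ofNat] at hΦval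
    have hz' : (p : ℤ) * τ - ((D a : ℤ) - 2 * l) = ((p : ℤ) - 1) * v k₁ a := by
      exact_mod_cast hΦval
    have h2l : (p : ℤ) ∣ 2 * (l : ℤ) := by
      obtain ⟨w, hw⟩ := hcong
      exact ⟨w + v k₁ a - τ, by linear_combination hz' + hw⟩
    have h2l' : p ∣ 2 * l := by exact_mod_cast h2l
    have hpl : p ∣ l := (hp.dvd_mul.1 h2l').resolve_left fun h1 => by
      have := Nat.le_of_dvd two_pos h1; omega
    have h2pl : 2 * p ∣ l := Nat.Coprime.mul_dvd_of_dvd_of_dvd
      ((Nat.coprime_primes Nat.prime_two hp).2 (by omega)) hle.two_dvd hpl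
    have := Nat.le_of_dvd hlpos h2pl
    omega
  refine ⟨D a, D (b k₁), hD2 a hat, hD2 _ (hbt k₁), hDdvd a, hDdvd _, ?_, ?_, hformula, heven⟩
  · have h1 := (hbval k₁).2
    rcases sq_eq_one_iff.1 ha with e1 | e1 <;> rw [e1] at h1 hcong
    · left; exact ⟨by omega, hcong⟩
    · right; exact ⟨by omega, by simpa using hcong⟩
  · have hDb : ∀ k, D (b k) = D (b k₁) := fun k => by
      have := (hbval k).2; have := (hbval k₁).2; omega
    have hsub : ∑ χ ∈ insert (trivIrr G) (insert a (T.image b)), D χ ^ 2 ≤ Nat.card G := by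
      have h1 : ∑ χ, D χ ^ 2 = Nat.card G := by
        have := sum_degree_sq (G := G)
        rw [Finset.sum_congr rfl (fun χ _ => by rw [hD χ] :
          ∀ χ ∈ Finset.univ, (χ : IrrCharacter G).1 1 ^ 2 = ((D χ : ℕ) : ℂ) ^ 2)] at this
        exact_mod_cast this
      rw [← h1]
      exact Finset.sum_le_sum_of_subset (Finset.subset_univ _)
    have hD1 : D (trivIrr G) = 1 := by
      have := hD (trivIrr G); rw [trivIrr_apply] at this; exact_mod_cast this.symm
    rw [Finset.sum_insert (by
        simp only [Finset.mem_insert, Finset.mem_image, not_or, not_exists, not_and]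
        exact ⟨hat.symm, fun k _ => hbt k⟩),
      Finset.sum_insert (by
        simp only [Finset.mem_image, not_exists, not_and]; exact fun k _ => hba k),
      Finset.sum_image (fun j hj k hk h' => hinj j k (hTmem j hj).1 (hTmem j hj).2
        (hTmem k hk).1 (hTmem k hk).2 h'), hD1,
      Finset.sum_congr rfl (fun k _ => by rw [hDb k]), Finset.sum_const, hTcard,
      smul_eq_mul] at hsub
    omega


/-- The degree equation for a Sylow subgroup `P` of prime order `p ≥ 7` with
`|N(P) : C(P)| = 2`. -/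
theorem degree_equation [Finite G] [IsSimpleGroup G] (hG : ¬ IsMulCommutative G) {p h : ℕ}
    (hp : p.Prime) (hp7 : 7 ≤ p) (P : Subgroup G) (hP : Nat.card P = p) (hph : ¬ p ∣ h)
    (hC : Nat.card (Subgroup.centralizer (P : Set G)) = p * h)
    (hN : Nat.card (Subgroup.normalizer (P : Set G)) = 2 * (p * h)) :
    ∃ d f : ℕ, 1 < d ∧ 1 < f ∧ d ∣ Nat.card G ∧ f ∣ Nat.card G ∧
      ((d + 1 = f ∧ (p : ℤ) ∣ (d : ℤ) - 1) ∨ (f + 1 = d ∧ (p : ℤ) ∣ (d : ℤ) + 1)) ∧
      1 + d ^ 2 + (p - 1) / 2 * f ^ 2 ≤ Nat.card G ∧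
      IsSquare (Nat.card G * p * h * d * f) ∧ (2 ∣ h → 2 * p < d) := by
  obtain ⟨d, f, h1, h2, h3, h4, h5, h6, hform, h7⟩ :=
    degree_equation_five hG hp (by omega) P hP hph hC hN
  refine ⟨d, f, h1, h2, h3, h4, h5, h6, ?_, h7⟩
  haveI := Fact.mk Nat.prime_two
  obtain ⟨t, ht⟩ : ∃ t : G, orderOf t = 2 := exists_prime_orderOf_dvd_card' 2
    ((hN ▸ dvd_mul_right 2 (p * h)).trans (Subgroup.card_subgroup_dvd_card _))
  obtain ⟨l, m, hl, -, heq⟩ := hform t (by rw [← pow_two, ← ht]; exact pow_orderOf_eq_one t)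
    fun h' => by rw [h', orderOf_one] at ht; norm_num at ht
  set κ := Nat.card (Subgroup.centralizer ({t} : Set G))
  have hdvd : (2 * l) ^ 2 ∣ (d * f * (κ * m)) ^ 2 := by
    refine ⟨Nat.card G * p * h * (d * f), ?_⟩
    calc (d * f * (κ * m)) ^ 2 = d * f * (d * f * (κ * m) ^ 2) := by ring
      _ = _ := by rw [← heq]; ring
  obtain ⟨q, hq⟩ := (Nat.pow_dvd_pow_iff two_ne_zero).1 hdvd
  refine ⟨q, Nat.eq_of_mul_eq_mul_left (show 0 < (2 * l) ^ 2 by positivity) ?_⟩
  calc (2 * l) ^ 2 * (Nat.card G * p * h * d * f)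
        = d * f * (Nat.card G * p * h * (2 * l) ^ 2) := by ring
    _ = (d * f * (κ * m)) ^ 2 := by rw [heq]; ring
    _ = _ := by rw [hq]; ring

end Group

end Cfsg.Agent.Lib.SylowCounting
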