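import Cfsg.Agent.Lib.SylowCounting.Intersection
import Mathlib.GroupTheory.PGroup

namespace Cfsg.Agent.Lib.SylowCounting

/-- A prime order automorphism of a group of order `p^2`. -/
theorem prime_dvd_of_aut_sq {P : Type*} [Group P] {p q : ℕ} (hp : p.Prime) (hq : q.Prime)
    (hqp : q ≠ p) (hP : Nat.card P = p ^ 2) (a : MulAut P) (ha : orderOf a = q) :
    q ∣ p - 1 ∨ q ∣ p + 1 := by
  haveI : Finite P := Nat.finite_of_card_ne_zero (by rw [hP]; exact pow_ne_zero _ hp.ne_zero)
  haveI := Fact.mk hq
  have hA : IsPGroup q (Subgroup.zpowers a) := IsPGroup.of_card (n := 1) (by rw [Nat.card_zpowers, ha, pow_one])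
  have hmod := hA.card_modEq_card_fixedPoints P
  let F : Subgroup P := MonoidHom.eqLocus a.toMonoidHom (MonoidHom.id P)
  have hF : Nat.card (MulAction.fixedPoints (Subgroup.zpowers a) P) = Nat.card F := by
    refine Nat.card_congr (Equiv.subtypeEquivRight fun x => ?_)
    rw [MulAction.mem_fixedPoints]
    constructor
    · intro h; exact h ⟨a, Subgroup.mem_zpowers a⟩
    · intro h g
      have : Subgroup.zpowers a ≤ MulAction.stabilizer (MulAut P) x := Subgroup.zpowers_le.2 h
      exact this g.2
  rw [hF, hP] at hmod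
  obtain ⟨j, hj, hFc⟩ := (Nat.dvd_prime_pow hp).1 (hP ▸ F.card_subgroup_dvd_card)
  rw [hFc] at hmod
  have hj2 : j ≠ 2 := by
    rintro rfl
    have : F = ⊤ := F.eq_top_of_card_eq (hFc.trans hP.symm)
    have ha1 : a = 1 := MulEquiv.ext fun x => (this ▸ Subgroup.mem_top x : x ∈ F)
    rw [ha1, orderOf_one] at ha
    exact hq.one_lt.ne ha
  interval_cases j
  · rw [pow_zero] at hmod
    have h := (Nat.modEq_iff_dvd' (Nat.one_le_pow _ _ hp.pos)).1 hmod.symm
    rw [show p ^ 2 - 1 = (p + 1) * (p - 1) by rw [← Nat.sq_sub_sq, one_pow]] at h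
    exact ((Nat.Prime.dvd_mul hq).1 h).symm
  · rw [pow_one] at hmod
    have h := (Nat.modEq_iff_dvd' (Nat.le_self_pow two_ne_zero p)).1 hmod.symm
    rw [pow_two, ← Nat.mul_sub_one] at h
    exact Or.inl (((Nat.Prime.dvd_mul hq).1 h).resolve_left fun hd => hqp ((Nat.prime_dvd_prime_iff_eq hq hp).1 hd))
  · exact absurd rfl hj2

variable {G : Type*} [Group G] [Finite G] [IsSimpleGroup G]

theorem not_simple_prime_pow {p k : ℕ} [hp : Fact p.Prime] (hG : Nat.card G = p ^ k) (hk : 2 ≤ k) : False := by
  have hpg : IsPGroup p G := IsPGroup.of_card hG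
  haveI : Nontrivial G := IsSimpleGroup.toNontrivial
  haveI := hpg.center_nontrivial
  rcases IsSimpleGroup.eq_bot_or_eq_top_of_normal (Subgroup.center G) inferInstance with h | h
  · exact (Subgroup.nontrivial_iff_ne_bot _).1 inferInstance h
  · have hn : ¬ IsMulCommutative G := not_comm_of_not_prime (by
      rw [hG]; exact Nat.Prime.not_prime_pow hk)
    exact hn ⟨⟨fun a b => Subgroup.mem_center_iff.1 (h ▸ Subgroup.mem_top b) a⟩⟩

theorem sylow_count_gt {p k m : ℕ} [hp : Fact p.Prime]
    (hG : Nat.card G = p ^ k * m) (hm : ¬ p ∣ m) (hk : k ≠ 0) (hm1 : m ≠ 1) :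
    p < Nat.card (Sylow p G) := by
  have h1 := sylow_count_ne_one hG hm hk hm1
  have h2 := sylow_count_mod (G := G) p
  have h3 : 0 < Nat.card (Sylow p G) := Nat.card_pos
  by_contra h
  rcases Nat.lt_or_eq_of_le (Nat.le_of_not_lt h) with h | h
  · rw [Nat.mod_eq_of_lt h] at h2; exact h1 h2
  · rw [h, Nat.mod_self] at h2; exact Nat.zero_ne_one h2

theorem prime_coprime_of_ne {p q : ℕ} (hp : p.Prime) (hq : q.Prime) (h : p ≠ q) : ¬ p ∣ q :=
  fun hd => h ((Nat.prime_dvd_prime_iff_eq hp hq).1 hd)

theorem not_simple_cube_mul {p q : ℕ} (hp : p.Prime) (hq : q.Prime) (hpq : p ≠ q)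
    (hG : Nat.card G = p ^ 3 * q) : False := by
  haveI := Fact.mk hp
  haveI := Fact.mk hq
  have hn : ¬ IsMulCommutative G := not_comm_of_not_prime (by
    rw [hG]; exact Nat.not_prime_mul (fun h => by simp [hp.ne_one] at h) hq.ne_one)
  have hm : ¬ p ∣ q := prime_coprime_of_ne hp hq hpq
  have hG' : Nat.card G = q ^ 1 * p ^ 3 := by rw [hG]; ring
  have hm' : ¬ q ∣ p ^ 3 := fun h => prime_coprime_of_ne hq hp hpq.symm (hq.dvd_of_dvd_pow h)
  have hnp : Nat.card (Sylow p G) = q :=
    ((Nat.dvd_prime hq).1 (sylow_count_dvd hG hm)).resolve_left (sylow_count_ne_one hG hm (by norm_num) hq.ne_one)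
  have hlt : p < q := hnp ▸ sylow_count_gt hG hm (by norm_num) hq.ne_one
  have hne := sylow_count_ne_one hG' hm' one_ne_zero (Nat.one_lt_pow (by norm_num) hp.one_lt).ne'
  have hgt := sylow_count_gt hG' hm' one_ne_zero (Nat.one_lt_pow (by norm_num) hp.one_lt).ne'
  obtain ⟨j, hj, hc⟩ := (Nat.dvd_prime_pow hp).1 (sylow_count_dvd hG' hm')
  interval_cases j
  · exact hne (by simpa using hc)
  · rw [hc, pow_one] at hgt; omega
  · have hmod := sylow_count_mod (G := G) q
    rw [hc] at hmod
    have h1 : q ∣ p ^ 2 - 1 := ⟨p ^ 2 / q, by have := Nat.div_add_mod (p ^ 2) q; omega⟩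
    rw [show p ^ 2 - 1 = (p + 1) * (p - 1) by rw [← Nat.sq_sub_sq, one_pow]] at h1
    have h2 : q ∣ p + 1 := ((Nat.Prime.dvd_mul hq).1 h1).resolve_right fun h =>
      absurd (Nat.le_of_dvd (by have := hp.two_le; omega) h) (by omega)
    have h3 : q = p + 1 := le_antisymm (Nat.le_of_dvd (by omega) h2) hlt
    have hp2 : p = 2 := by
      rcases hp.eq_two_or_odd with h | h
      · exact h
      · have := hq.eq_two_or_odd; have := hp.two_le; omega
    subst hp2
    have := two_card_dvd_sylow_factorial hn (p := 2) (sylow_count_ne_one hG hm (by norm_num) hq.ne_one)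
    rw [hnp, hG, h3] at this
    revert this; decide
  · -- the elements of order prime to `q` fill a single Sylow `p`-subgroup
    classical
    have hcount := card_orderOf_eq_prime (G := G) (p := q) (fun Q => by rw [sylow_card hG' hm' Q, pow_one])
    rw [hc] at hcount
    haveI : Fintype G := Fintype.ofFinite _
    let T : Finset G := Finset.univ.filter fun g => orderOf g ≠ q
    have hT : T.card = p ^ 3 := by
      have h1 := Finset.card_filter_add_card_filter_not (s := (Finset.univ : Finset G)) (fun g => orderOf g = q)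
      rw [Finset.card_univ, ← Fintype.card_subtype, ← Nat.card_eq_fintype_card, ← Nat.card_eq_fintype_card, hcount, hG] at h1
      show T.card = _
      have h2 : p ^ 3 * (q - 1) + p ^ 3 = p ^ 3 * q := by
        rw [← Nat.mul_succ, Nat.succ_eq_add_one, Nat.sub_add_cancel hq.one_le]
      simp only [T, ne_eq]
      omega
    have hsub : ∀ P : Sylow p G, (Finset.univ.filter fun g => g ∈ (P : Subgroup G)) = T := by
      intro P
      refine Finset.eq_of_subset_of_card_le (fun g hg => ?_) ?_
      · rw [Finset.mem_filter] at hg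
        simp only [T, Finset.mem_filter, Finset.mem_univ, true_and]
        intro ho
        have h := (P : Subgroup G).orderOf_dvd_natCard hg.2
        rw [ho, sylow_card hG hm P] at h
        exact hm' h
      · rw [hT, ← Fintype.card_subtype, ← Nat.card_eq_fintype_card]
        exact le_of_eq (sylow_card hG hm P).symm
    have h1 : Nat.card (Sylow p G) = 1 := by
      rw [Nat.card_eq_one_iff_unique]
      refine ⟨⟨fun P R => Sylow.ext ?_⟩, inferInstance⟩
      ext g
      have := congrArg (fun S : Finset G => g ∈ S) ((hsub P).trans (hsub R).symm)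
      simpa using this
    exact sylow_count_ne_one hG hm (by norm_num) hq.ne_one h1

theorem not_simple_sq_mul_sq {p q : ℕ} (hp : p.Prime) (hq : q.Prime) (hpq : p < q)
    (hG : Nat.card G = p ^ 2 * q ^ 2) : False := by
  haveI := Fact.mk hp
  haveI := Fact.mk hq
  have hn : ¬ IsMulCommutative G := not_comm_of_not_prime (by
    rw [hG]; exact Nat.not_prime_mul (fun h => by simp [hp.ne_one] at h) (fun h => by simp [hq.ne_one] at h))
  have hG' : Nat.card G = q ^ 2 * p ^ 2 := by rw [hG]; ring
  have hm' : ¬ q ∣ p ^ 2 := fun h => prime_coprime_of_ne hq hp hpq.ne' (hq.dvd_of_dvd_pow h)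
  have hne := sylow_count_ne_one hG' hm' two_ne_zero (Nat.one_lt_pow (by norm_num) hp.one_lt).ne'
  have hgt := sylow_count_gt hG' hm' two_ne_zero (Nat.one_lt_pow (by norm_num) hp.one_lt).ne'
  obtain ⟨j, hj, hc⟩ := (Nat.dvd_prime_pow hp).1 (sylow_count_dvd hG' hm')
  interval_cases j
  · exact hne (by simpa using hc)
  · rw [hc, pow_one] at hgt; omega
  · have hmod := sylow_count_mod (G := G) q
    rw [hc] at hmod
    have h1 : q ∣ p ^ 2 - 1 := ⟨p ^ 2 / q, by have := Nat.div_add_mod (p ^ 2) q; omega⟩
    rw [show p ^ 2 - 1 = (p + 1) * (p - 1) by rw [← Nat.sq_sub_sq, one_pow]] at h1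
    have h2 : q ∣ p + 1 := ((Nat.Prime.dvd_mul hq).1 h1).resolve_right fun h =>
      absurd (Nat.le_of_dvd (by have := hp.two_le; omega) h) (by omega)
    have h3 : q = p + 1 := le_antisymm (Nat.le_of_dvd (by omega) h2) hpq
    have hp2 : p = 2 := by
      rcases hp.eq_two_or_odd with h | h
      · exact h
      · have := hq.eq_two_or_odd; have := hp.two_le; omega
    subst hp2
    have := two_card_dvd_sylow_factorial hn (p := q) hne
    rw [hc, hG, h3] at this
    revert this; decide

/-- The order of a Sylow subgroup of order `p^2` for the smallest prime is divisible by 12. -/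
theorem twelve_of_sq_smallest {p m : ℕ} (hp : p.Prime) (hn : ¬ IsMulCommutative G)
    (hG : Nat.card G = p ^ 2 * m) (hm : ∀ q : ℕ, q.Prime → q ∣ m → p < q) : p = 2 ∧ 3 ∣ m := by
  haveI := Fact.mk hp
  have hmp : ¬ p ∣ m := fun h => (hm p hp h).ne rfl
  let P : Sylow p G := default
  have hdvd : p ∣ Nat.card G := hG ▸ Dvd.dvd.mul_right (dvd_pow_self p two_ne_zero) m
  set N := Subgroup.normalizer ((P : Subgroup G) : Set G)
  set C := Subgroup.centralizer ((P : Subgroup G) : Set G)
  let φ := Subgroup.normalizerMonoidHom (P : Subgroup G)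
  have hker : φ.ker = C.subgroupOf N := Subgroup.normalizerMonoidHom_ker _
  have hr : Nat.card φ.range = C.relIndex N := by
    rw [← Subgroup.index_ker φ, hker]; rfl
  have hne : C.relIndex N ≠ 1 := fun h => not_normalizer_le_centralizer hn P hdvd (Subgroup.relIndex_eq_one.1 h)
  haveI : IsMulCommutative (P : Subgroup G) := IsPGroup.isMulCommutative_of_card_eq_prime_sq (p := p) (sylow_card hG hmp P)
  have hdm : C.relIndex N ∣ m := by
    have h1 := (Subgroup.relIndex_dvd_of_le_left N (Subgroup.le_centralizer (P : Subgroup G))).trans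
      (Subgroup.relIndex_dvd_index_of_le Subgroup.le_normalizer)
    rwa [sylow_index hG hmp P] at h1
  obtain ⟨q, hq, hqd⟩ := Nat.exists_prime_and_dvd hne
  haveI := Fact.mk hq
  haveI : Finite φ.range := Nat.finite_of_card_ne_zero (hr ▸ (C.subgroupOf N).index_ne_zero_of_finite)
  obtain ⟨a, ha⟩ := exists_prime_orderOf_dvd_card' (G := φ.range) q (hr ▸ hqd)
  have hpq := hm q hq (hqd.trans hdm)
  have h := prime_dvd_of_aut_sq hp hq hpq.ne' (sylow_card hG hmp P) (a : MulAut (P : Subgroup G))
    (by rw [Subgroup.orderOf_coe, ha])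
  rcases h with h | h
  · have := Nat.le_of_dvd (by have := hp.two_le; omega) h; omega
  · have h3 : q = p + 1 := le_antisymm (Nat.le_of_dvd (by omega) h) hpq
    rcases hp.eq_two_or_odd with h4 | h4
    · subst h4; subst h3; exact ⟨rfl, hqd.trans hdm⟩
    · exfalso; have := hq.eq_two_or_odd; have := hp.two_le; omega

theorem not_simple_smallest_prime_exp_one {p m : ℕ} (hp : p.Prime) (hn : ¬ IsMulCommutative G)
    (hG : Nat.card G = p ^ 1 * m) (hm : ∀ q : ℕ, q.Prime → q ∣ m → p < q) : False := by
  haveI := Fact.mk hp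
  have hmp : ¬ p ∣ m := fun h => (hm p hp h).ne rfl
  let P : Sylow p G := default
  have hdvd : p ∣ Nat.card G := hG ▸ Dvd.dvd.mul_right (dvd_pow_self p one_ne_zero) m
  have hmin : (Nat.card G).minFac = p := by
    refine le_antisymm (Nat.minFac_le_of_dvd hp.two_le hdvd) ?_
    have hne : Nat.card G ≠ 1 := fun h => hp.not_dvd_one (h ▸ hdvd)
    have hq := Nat.minFac_prime hne
    have hd := Nat.minFac_dvd (Nat.card G)
    rw [hG, pow_one] at hd hq ⊢
    rcases (Nat.Prime.dvd_mul hq).1 hd with h | h
    · exact ((Nat.prime_dvd_prime_iff_eq hq hp).1 h).ge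
    · exact (hm _ hq h).le
  refine not_normalizer_le_centralizer hn P hdvd ?_
  rw [P.coe_coe]
  exact IsCyclic.normalizer_le_centralizer hmin (isCyclic_of_prime_card (by rw [sylow_card hG hmp P, pow_one]))

/-- A simple group of order `p^2 q r` has order `60`. -/
theorem card_eq_sixty {p q r : ℕ} (hp : p.Prime) (hq : q.Prime) (hr : r.Prime)
    (hG : Nat.card G = p ^ 2 * q * r) : Nat.card G = 60 := by
  by_cases hqr : q = r
  · subst hqr
    exfalso
    rcases lt_trichotomy p q with h | h | h
    · exact not_simple_sq_mul_sq (G := G) hp hq h (by rw [hG]; ring)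
    · subst h
      haveI := Fact.mk hp
      exact not_simple_prime_pow (G := G) (p := p) (k := 4) (by rw [hG]; ring) (by norm_num)
    · exact not_simple_sq_mul_sq (G := G) hq hp h (by rw [hG]; ring)
  by_cases hpq : p = q
  · subst hpq
    exact (not_simple_cube_mul (G := G) hp hr hqr (by rw [hG]; ring)).elim
  by_cases hpr : p = r
  · subst hpr
    exact (not_simple_cube_mul (G := G) hp hq hpq (by rw [hG]; ring)).elim
  have hn : ¬ IsMulCommutative G := not_comm_of_not_prime (by
    rw [hG]; exact Nat.not_prime_mul (fun h => by simp [hp.ne_one] at h) hr.ne_one)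
  have prime_mem : ∀ s : ℕ, s.Prime → s ∣ q * r → s = q ∨ s = r := fun s hs h => by
    rcases (Nat.Prime.dvd_mul hs).1 h with h | h
    · exact Or.inl ((Nat.prime_dvd_prime_iff_eq hs hq).1 h)
    · exact Or.inr ((Nat.prime_dvd_prime_iff_eq hs hr).1 h)
  have hsmall : p < q ∧ p < r := by
    by_contra hc
    rcases Nat.lt_or_ge q r with h | h
    · refine not_simple_smallest_prime_exp_one (G := G) hq hn (m := p ^ 2 * r) (by rw [hG]; ring) ?_
      intro s hs hd
      rcases (Nat.Prime.dvd_mul hs).1 hd with h' | h'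
      · have := (Nat.prime_dvd_prime_iff_eq hs hp).1 (hs.dvd_of_dvd_pow h'); omega
      · have := (Nat.prime_dvd_prime_iff_eq hs hr).1 h'; omega
    · refine not_simple_smallest_prime_exp_one (G := G) hr hn (m := p ^ 2 * q) (by rw [hG]; ring) ?_
      intro s hs hd
      rcases (Nat.Prime.dvd_mul hs).1 hd with h' | h'
      · have := (Nat.prime_dvd_prime_iff_eq hs hp).1 (hs.dvd_of_dvd_pow h'); omega
      · have := (Nat.prime_dvd_prime_iff_eq hs hq).1 h'; omega
  obtain ⟨rfl, h3⟩ := twelve_of_sq_smallest (G := G) hp hn (m := q * r) (by rw [hG]; ring)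
    (fun s hs hd => by rcases prime_mem s hs hd with rfl | rfl; exacts [hsmall.1, hsmall.2])
  have key : ∀ s : ℕ, s.Prime → 3 < s → Nat.card G = 12 * s → Nat.card G = 60 := by
    intro s hs hs3 hc
    haveI := Fact.mk hs
    have hG' : Nat.card G = s ^ 1 * 12 := by rw [hc]; ring
    have hm' : ¬ s ∣ 12 := fun h => by
      have hle := Nat.le_of_dvd (by norm_num) h
      interval_cases s <;> first | omega | (exact absurd hs (by norm_num))
    have hcand := sylow_count_mem hG' hm'
    rw [Finset.mem_filter] at hcand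
    have hgt := sylow_count_gt hG' hm' one_ne_zero (by norm_num)
    have hle := Nat.le_of_dvd (by norm_num) (sylow_count_dvd hG' hm')
    have hcases : s = 5 ∨ s = 11 := by
      have h2 := hcand.2
      have h1 := sylow_count_dvd hG' hm'
      have hmem : Nat.card (Sylow s G) = 6 ∨ Nat.card (Sylow s G) = 12 := by
        interval_cases (Nat.card (Sylow s G)) <;> omega
      rcases hmem with e | e <;> rw [e] at h2 hgt <;> interval_cases s <;> first | omega | (exact absurd hs (by norm_num))
    rcases hcases with rfl | rfl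
    · exact hc
    · exfalso
      haveI := Fact.mk Nat.prime_three
      have hG3 : Nat.card G = 3 ^ 1 * 44 := by rw [hc]; norm_num
      have c3 := sylow_count_candidates hG3 (by norm_num) one_ne_zero (by norm_num)
      rw [show candidates 3 44 = {4, 22} by decide, Finset.mem_insert, Finset.mem_singleton] at c3
      rcases c3 with c3 | c3
      · have := two_card_dvd_sylow_factorial hn (p := 3) (by omega)
        rw [c3, hc] at this
        revert this; decide
      · have e3 := card_orderOf_eq_prime (G := G) (p := 3) (fun Q => by rw [sylow_card hG3 (by norm_num) Q, pow_one])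
        have e11 := card_orderOf_eq_prime (G := G) (p := 11) (fun Q => by rw [sylow_card hG' hm' Q, pow_one])
        have hsum := one_add_card_orderOf_le (G := G) (show 3 ≠ 11 by norm_num) (by norm_num) (by norm_num)
        have c11 : Nat.card (Sylow 11 G) = 12 := by omega
        rw [e3, e11, c3, c11, hc] at hsum
        omega
  rcases prime_mem 3 Nat.prime_three h3 with h | h
  · exact key r hr (by omega) (by rw [hG, ← h]; ring)
  · exact key q hq (by omega) (by rw [hG, ← h]; ring)

end Cfsg.Agent.Lib.SylowCounting
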