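import Cfsg.Agent.Lib.SylowCounting.Order168

namespace Cfsg.Agent.Lib.SylowCounting.Order168

variable {G : Type*} [Group G] [Finite G] [IsSimpleGroup G]

theorem no_six (h : Nat.card G = 168) (g : G) : orderOf g ≠ 6 := by
  rcases orders h g with e | e | e | e | e <;> rw [e] <;> norm_num

/-- The groups of order 24 are symmetric groups of degree 4. -/
theorem subgroup24 (h : Nat.card G = 168) (M : Subgroup G) (hM : Nat.card M = 24) :
    Nonempty (M ≃* Equiv.Perm (Fin 4)) :=
  nonempty_mulEquiv_S4 hM fun g => by rw [← Subgroup.orderOf_coe]; exact no_six h _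

omit [IsSimpleGroup G] in
theorem klein_le_centralizer {U : Subgroup G} (hU : IsKleinFour U) : U ≤ Subgroup.centralizer (U : Set G) := by
  intro u hu
  rw [Subgroup.mem_centralizer_iff]
  intro v hv
  haveI := hU
  exact congrArg Subtype.val ((IsKleinFour.isMulCommutative (G := U)).is_comm.comm ⟨v, hv⟩ ⟨u, hu⟩)

omit [IsSimpleGroup G] in
theorem klein_sq {U : Subgroup G} (hU : IsKleinFour U) {u : G} (hu : u ∈ U) : u * u = 1 := by
  haveI := hU
  exact congrArg Subtype.val (IsKleinFour.mul_self (⟨u, hu⟩ : U))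

omit [Finite G] [IsSimpleGroup G] in
theorem klein_iff {U : Subgroup G} : IsKleinFour U ↔ Nat.card U = 4 ∧ ∀ u ∈ U, u * u = 1 := by
  constructor
  · intro hU
    exact ⟨hU.card_four, fun u hu => by
      haveI := hU
      exact congrArg Subtype.val (IsKleinFour.mul_self (⟨u, hu⟩ : U))⟩
  · rintro ⟨h4, h2⟩
    refine ⟨h4, ?_⟩
    haveI : Finite U := Nat.finite_of_card_ne_zero (by rw [h4]; norm_num)
    haveI : Nontrivial U := Finite.one_lt_card_iff_nontrivial.1 (by rw [h4]; norm_num)
    refine ((Nat.dvd_prime Nat.prime_two).1 ?_).resolve_left ?_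
    · refine Monoid.exponent_dvd_of_forall_pow_eq_one fun u => ?_
      rw [pow_two]
      exact Subtype.ext (h2 u.1 u.2)
    · intro e
      exact not_subsingleton U (Monoid.exp_eq_one_iff.1 e)

/-- A Klein four-group contains the central involution of every Sylow 2-subgroup over it. -/
theorem central_mem_klein (h : Nat.card G = 168) [Fact (Nat.Prime 2)] (T : Sylow 2 G) {U : Subgroup G}
    (hU : IsKleinFour U) (hle : U ≤ T) {z : G} (hz : z ∈ (T : Subgroup G)) (h1 : z ≠ 1)
    (hc : ∀ t ∈ (T : Subgroup G), t * z = z * t) : z ∈ U := by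
  by_contra hzU
  apply sylow2_not_comm h T
  set K := Subgroup.centralizer (U : Set G) ⊓ (T : Subgroup G)
  have hUK : U ≤ K := le_inf (klein_le_centralizer hU) hle
  have hzK : z ∈ K := ⟨Subgroup.mem_centralizer_iff.2 fun u hu => hc u (hle hu), hz⟩
  obtain ⟨d, hd⟩ := Subgroup.card_dvd_of_le hUK
  have hd2 := Subgroup.card_dvd_of_le (inf_le_right : K ≤ (T : Subgroup G))
  rw [hU.card_four] at hd
  rw [(n2_and_normalizer h T).1, hd] at hd2
  have hne : Nat.card K ≠ 4 := fun e => hzU ((Subgroup.eq_of_le_of_card_ge hUK (by rw [e, hU.card_four])) ▸ hzK)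
  have hK : K = (T : Subgroup G) := Subgroup.eq_of_le_of_card_ge inf_le_right (by
    rw [(n2_and_normalizer h T).1]
    have : 0 < Nat.card K := Nat.card_pos
    rw [hd] at hne this ⊢
    omega)
  -- `U` is central in `T`
  refine ⟨⟨fun a b => ?_⟩⟩
  have hUc : ∀ u ∈ U, u = 1 ∨ u = z := by
    intro u hu
    by_contra hne
    push_neg at hne
    have hcen : ∀ t ∈ (T : Subgroup G), t * u = u * t := fun t ht =>
      (Subgroup.mem_centralizer_iff.1 (hK.symm ▸ ht : t ∈ K).1 u hu).symm
    apply sylow2_not_comm h T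
    refine ⟨⟨fun a b => ?_⟩⟩
    let C := Subgroup.center (T : Subgroup G)
    have hu' : (⟨u, hle hu⟩ : (T : Subgroup G)) ∈ C := Subgroup.mem_center_iff.2 fun t => Subtype.ext (hcen t t.2)
    have hz' : (⟨z, hz⟩ : (T : Subgroup G)) ∈ C := Subgroup.mem_center_iff.2 fun t => Subtype.ext (hc t t.2)
    have h3 : 3 ≤ Nat.card C := by
      have hinj : Function.Injective (![1, ⟨_, hu'⟩, ⟨_, hz'⟩] : Fin 3 → C) := by
        intro i j hij
        have hv := congrArg (fun x : C => ((x : (T : Subgroup G)) : G)) hij
        fin_cases i <;> fin_cases j <;> first | rfl | (exfalso; simp at hv) | skip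
        all_goals first
          | (exact absurd hv.symm h1) | (exact absurd hv h1)
          | (exact absurd hv.symm hne.1) | (exact absurd hv hne.1)
          | (exact absurd hv.symm hne.2) | (exact absurd hv hne.2)
      simpa using Nat.card_le_card_of_injective _ hinj
    have hi := C.index_mul_card
    rw [(n2_and_normalizer h T).1] at hi
    have hdd := C.card_subgroup_dvd_card
    rw [(n2_and_normalizer h T).1] at hdd
    have hcyc : IsCyclic ((T : Subgroup G) ⧸ C) := by
      have h4 : Nat.card C = 4 ∨ Nat.card C = 8 := by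
        have := Nat.le_of_dvd (by norm_num) hdd
        interval_cases (Nat.card C) <;> omega
      have : C.index = 1 ∨ C.index = 2 := by rcases h4 with e | e <;> rw [e] at hi <;> omega
      rcases this with e | e
      · haveI : Subsingleton ((T : Subgroup G) ⧸ C) := (Nat.card_eq_one_iff_unique.1 e).1
        exact isCyclic_of_subsingleton
      · exact isCyclic_of_prime_card (p := 2) e
    exact commutative_of_cyclic_center_quotient (QuotientGroup.mk' C) (by rw [QuotientGroup.ker_mk']) a b
  have : U = ⊥ := by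
    rw [Subgroup.eq_bot_iff_forall]
    intro u hu
    rcases hUc u hu with e | e
    · exact e
    · exact absurd (e ▸ hu) hzU
  exfalso
  have h4 := hU.card_four
  rw [this, Subgroup.card_bot] at h4
  exact absurd h4 (by norm_num)

theorem two_fours (h : Nat.card G = 168) [Fact (Nat.Prime 2)] (T : Sylow 2 G) :
    Nat.card {U : Subgroup G // U ≤ (T : Subgroup G) ∧ IsKleinFour ↥U} = 2 := by
  classical
  obtain ⟨e⟩ := sylow2_dihedral h T
  -- transport to the dihedral group
  let f : {U : Subgroup G // U ≤ (T : Subgroup G) ∧ IsKleinFour ↥U} ≃ {V : Subgroup (DihedralGroup 4) // Nat.card V = 4 ∧ ∀ v ∈ V, v * v = 1} :=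
    { toFun := fun U => ⟨(U.1.subgroupOf (T : Subgroup G)).map e.toMonoidHom, by
        obtain ⟨h4, h2⟩ := klein_iff.1 U.2.2
        refine ⟨?_, ?_⟩
        · rw [Subgroup.card_map_of_injective (f := e.toMonoidHom) e.injective,
            Nat.card_congr (Subgroup.subgroupOfEquivOfLe U.2.1).toEquiv, h4]
        · rintro _ ⟨x, hx, rfl⟩
          rw [← map_mul, show x * x = 1 from Subtype.ext (h2 x.1 hx), map_one]⟩
      invFun := fun V => ⟨(V.1.comap e.toMonoidHom).map (T : Subgroup G).subtype, by
        refine ⟨Subgroup.map_subtype_le _, klein_iff.2 ⟨?_, ?_⟩⟩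
        · rw [Subgroup.card_map_of_injective (Subgroup.subtype_injective _)]
          exact (Nat.card_congr (e.toEquiv.subtypeEquiv fun _ => Iff.rfl)).trans V.2.1
        · rintro _ ⟨x, hx, rfl⟩
          rw [← map_mul, show x * x = 1 from e.injective (by rw [map_mul, map_one]; exact V.2.2 _ hx), map_one]⟩
      left_inv := fun U => by
        apply Subtype.ext
        show (((U.1.subgroupOf (T : Subgroup G)).map e.toMonoidHom).comap e.toMonoidHom).map (T : Subgroup G).subtype = U.1
        rw [Subgroup.comap_map_eq_self_of_injective (f := e.toMonoidHom) e.injective, Subgroup.subgroupOf_map_subtype,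
          inf_eq_left.2 U.2.1]
      right_inv := fun V => by
        apply Subtype.ext
        show ((((V.1.comap e.toMonoidHom).map (T : Subgroup G).subtype)).subgroupOf (T : Subgroup G)).map e.toMonoidHom = V.1
        rw [Subgroup.subgroupOf, Subgroup.comap_map_eq_self_of_injective (Subgroup.subtype_injective _),
          Subgroup.map_comap_eq_self_of_surjective e.surjective] }
  rw [Nat.card_congr f]
  -- the four-groups of the dihedral group as finite sets
  let g : {V : Subgroup (DihedralGroup 4) // Nat.card V = 4 ∧ ∀ v ∈ V, v * v = 1} ≃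
      {S : Finset (DihedralGroup 4) // S.card = 4 ∧ (1 ∈ S ∧ ∀ v ∈ S, ∀ w ∈ S, v * w ∈ S) ∧ ∀ v ∈ S, v * v = 1} :=
    { toFun := fun V => ⟨Finset.univ.filter (· ∈ V.1), by
        refine ⟨?_, ⟨by simp, fun v hv w hw => ?_⟩, fun v hv => ?_⟩
        · rw [← Fintype.card_subtype, ← Nat.card_eq_fintype_card]; exact V.2.1
        · simp only [Finset.mem_filter, Finset.mem_univ, true_and] at hv hw ⊢
          exact mul_mem hv hw
        · exact V.2.2 v (Finset.mem_filter.1 hv).2⟩
      invFun := fun S => ⟨{
          carrier := {v | v ∈ S.1}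
          one_mem' := S.2.2.1.1
          mul_mem' := fun hv hw => S.2.2.1.2 _ hv _ hw
          inv_mem' := fun {v} hv => by
            show v⁻¹ ∈ S.1
            rw [inv_eq_of_mul_eq_one_right (S.2.2.2 v hv)]; exact hv }, by
        refine ⟨?_, fun v hv => S.2.2.2 v hv⟩
        show Nat.card {v // v ∈ S.1} = 4
        rw [Nat.card_eq_fintype_card, Fintype.card_coe]; exact S.2.1⟩
      left_inv := fun V => by apply Subtype.ext; ext v; simp
      right_inv := fun S => by apply Subtype.ext; ext v; simp }
  rw [Nat.card_congr g, Nat.card_eq_fintype_card]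
  decide +kernel

theorem fours_not_conj (h : Nat.card G = 168) [Fact (Nat.Prime 2)] (T : Sylow 2 G) {U W : Subgroup G}
    (hUT : U ≤ (T : Subgroup G)) (hWT : W ≤ (T : Subgroup G)) (hU : IsKleinFour U) (hW : IsKleinFour W)
    (hne : U ≠ W) (g : G) : U.map (MulAut.conj g).toMonoidHom ≠ W := by
  intro hg
  have hnorm : ∀ V : Subgroup G, IsKleinFour V → ∀ S : Sylow 2 G, V ≤ S → (S : Subgroup G) ≤ Subgroup.normalizer (V : Set G) := by
    intro V hV S hVS
    have hi : (V.subgroupOf (S : Subgroup G)).index = 2 := by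
      have := (V.subgroupOf (S : Subgroup G)).index_mul_card
      rw [Nat.card_congr (Subgroup.subgroupOfEquivOfLe hVS).toEquiv, hV.card_four, (n2_and_normalizer h S).1] at this
      omega
    exact (Subgroup.normal_subgroupOf_iff_le_normalizer hVS).1 (Subgroup.normal_of_index_eq_two hi)
  set N := Subgroup.normalizer (W : Set G)
  have h1 : (T : Subgroup G) ≤ N := hnorm W hW T hWT
  have h2 : ((g • T : Sylow 2 G) : Subgroup G) ≤ N := by
    refine hnorm W hW (g • T) ?_
    rw [Sylow.coe_subgroup_smul, ← hg]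
    exact Subgroup.map_mono hUT
  obtain ⟨k, hk⟩ := MulAction.exists_smul_eq N ((g • T).subtype h2) (T.subtype h1)
  have hk' : (k : G) • g • T = T := by
    apply Sylow.subtype_injective (hP := Sylow.smul_le h2 k) (hQ := h1)
    rw [← hk, Sylow.smul_subtype]
  have hmem : (k : G) * g ∈ (T : Subgroup G) := by
    rw [← (n2_and_normalizer h T).2.2, T.coe_coe, ← Sylow.smul_eq_iff_mem_normalizer, mul_smul]
    exact hk'
  apply hne
  have e1 : U.map (MulAut.conj ((k : G) * g)).toMonoidHom = U :=
    Subgroup.mem_normalizer_iff_map_conj_eq.1 (hnorm U hU T hUT hmem)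
  have e2 : W.map (MulAut.conj (k : G)).toMonoidHom = W := Subgroup.mem_normalizer_iff_map_conj_eq.1 k.2
  have e3 : U.map (MulAut.conj ((k : G) * g)).toMonoidHom =
      (U.map (MulAut.conj g).toMonoidHom).map (MulAut.conj (k : G)).toMonoidHom := by
    rw [Subgroup.map_map]
    congr 1
    ext x
    simp only [MulEquiv.coe_toMonoidHom, MulAut.conj_apply, MonoidHom.comp_apply]
    group
  rw [hg, e2, e1] at e3
  exact e3

theorem exists_central_mem_klein (h : Nat.card G = 168) [Fact (Nat.Prime 2)] (T : Sylow 2 G) {U : Subgroup G}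
    (hU : IsKleinFour U) (hle : U ≤ T) :
    ∃ z, z ∈ U ∧ z ≠ 1 ∧ Subgroup.centralizer ({z} : Set G) = T ∧ orderOf z = 2 := by
  obtain ⟨z, hz, h1, hc⟩ := exists_central h T
  exact ⟨z, central_mem_klein h T hU hle hz h1 hc, h1, centralizer_central h T hz h1 hc⟩

theorem normalizer_four (h : Nat.card G = 168) [Fact (Nat.Prime 2)] {U : Subgroup G} (hU : IsKleinFour U) :
    Nat.card (Subgroup.normalizer (U : Set G)) = 24 := by
  obtain ⟨T, hUT⟩ := (IsPGroup.of_card (n := 2) (by rw [hU.card_four]; norm_num) : IsPGroup 2 U).exists_le_sylow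
  obtain ⟨z, hzU, hz1, hCz, hzo⟩ := exists_central_mem_klein h T hU hUT
  obtain ⟨hT, -, hN⟩ := n2_and_normalizer h T
  -- `C(U) = U`
  have hCT : Subgroup.centralizer (U : Set G) ≤ T := by
    rw [← hCz]
    exact Subgroup.centralizer_le (Set.singleton_subset_iff.2 hzU)
  have hUC := klein_le_centralizer hU
  obtain ⟨d, hd⟩ := Subgroup.card_dvd_of_le hUC
  have hd2 := Subgroup.card_dvd_of_le hCT
  rw [hU.card_four] at hd
  rw [hT, hd] at hd2
  have hCne : Nat.card (Subgroup.centralizer (U : Set G)) ≠ 8 := by
    intro e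
    -- a second involution of `U` would be central in `T`
    obtain ⟨s, hsU, hs⟩ : ∃ s ∈ U, s ≠ 1 ∧ s ≠ z := by
      by_contra hall
      push_neg at hall
      classical
      have hinj : Function.Injective (fun u : U => decide ((u : G) = 1)) := by
        intro a b hab
        simp only [decide_eq_decide] at hab
        apply Subtype.ext
        by_cases ha : (a : G) = 1
        · rw [ha, hab.1 ha]
        · rw [hall a a.2 ha, hall b b.2 (fun hb => ha (hab.2 hb))]
      have := Nat.card_le_card_of_injective _ hinj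
      rw [hU.card_four] at this
      simp at this
    have hCe : Subgroup.centralizer (U : Set G) = T := Subgroup.eq_of_le_of_card_ge hCT (by rw [e, hT])
    have hsc : ∀ t ∈ (T : Subgroup G), t * s = s * t := fun t ht =>
      (Subgroup.mem_centralizer_iff.1 (hCe ▸ ht) s hsU).symm
    have hdd : (T : Subgroup G) ≤ Subgroup.centralizer ({s} : Set G) := fun t ht =>
      Subgroup.mem_centralizer_singleton_iff.2 (hsc t ht)
    apply sylow2_not_comm h T
    obtain ⟨e1⟩ := sylow2_dihedral h T
    exfalso
    have hz' : e1 ⟨z, hUT hzU⟩ ∈ Subgroup.center (DihedralGroup 4) := by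
      rw [Subgroup.mem_center_iff]
      intro x
      obtain ⟨t, rfl⟩ := e1.surjective x
      rw [← map_mul, ← map_mul]
      congr 1
      exact Subtype.ext (Subgroup.mem_centralizer_singleton_iff.1 (hCz.symm ▸ t.2 : (t : G) ∈ _))
    have hs' : e1 ⟨s, hUT hsU⟩ ∈ Subgroup.center (DihedralGroup 4) := by
      rw [Subgroup.mem_center_iff]
      intro x
      obtain ⟨t, rfl⟩ := e1.surjective x
      rw [← map_mul, ← map_mul]
      congr 1
      exact Subtype.ext (hsc t t.2)
    have key : ∀ a b : DihedralGroup 4, (∀ g, g * a = a * g) → (∀ g, g * b = b * g) → a ≠ 1 → b ≠ 1 → a = b := by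
      decide +kernel
    have := key _ _ (Subgroup.mem_center_iff.1 hz') (Subgroup.mem_center_iff.1 hs')
      (fun e' => hz1 (congrArg Subtype.val (e1.injective (e'.trans (map_one e1).symm))))
      (fun e' => hs.1 (congrArg Subtype.val (e1.injective (e'.trans (map_one e1).symm))))
    exact hs.2 (congrArg Subtype.val (e1.injective this)).symm
  have hC : Nat.card (Subgroup.centralizer (U : Set G)) = 4 := by
    have : 0 < Nat.card (Subgroup.centralizer (U : Set G)) := Nat.card_pos
    have hle := Nat.le_of_dvd (by norm_num) hd2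
    omega
  set N := Subgroup.normalizer (U : Set G)
  set C := Subgroup.centralizer (U : Set G)
  have hTN : (T : Subgroup G) ≤ N := by
    refine (Subgroup.normal_subgroupOf_iff_le_normalizer hUT).1 (Subgroup.normal_of_index_eq_two ?_)
    have := (U.subgroupOf (T : Subgroup G)).index_mul_card
    rw [Nat.card_congr (Subgroup.subgroupOfEquivOfLe hUT).toEquiv, hU.card_four, hT] at this
    omega
  have hrel : C.relIndex N ∣ 24 := by
    have h1 := Subgroup.card_dvd_of_injective _
      (QuotientGroup.kerLift_injective (Subgroup.normalizerMonoidHom U))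
    rw [Subgroup.normalizerMonoidHom_ker, ← Subgroup.index] at h1
    refine h1.trans ?_
    haveI : Fintype U := Fintype.ofFinite _
    have h2 := Subgroup.card_dvd_of_injective (MulAut.toPerm U) (fun a b e => MulEquiv.ext (Equiv.ext_iff.1 e))
    rwa [Nat.card_perm, hU.card_four] at h2
  have hNC : Nat.card N = 4 * C.relIndex N := by
    rw [← hC, ← Subgroup.relIndex_bot_left, ← Subgroup.relIndex_bot_left,
      Subgroup.relIndex_mul_relIndex _ _ _ bot_le (Subgroup.centralizer_le_normalizer _)]
  -- fusion of `z` with another involution of `U`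
  have hbig : ¬ N ≤ T := by
    intro hle
    obtain ⟨s, hsU, hs⟩ : ∃ s ∈ U, s ≠ 1 ∧ s ≠ z := by
      by_contra hall
      push_neg at hall
      classical
      have hinj : Function.Injective (fun u : U => decide ((u : G) = 1)) := by
        intro a b hab
        simp only [decide_eq_decide] at hab
        apply Subtype.ext
        by_cases ha : (a : G) = 1
        · rw [ha, hab.1 ha]
        · rw [hall a a.2 ha, hall b b.2 (fun hb => ha (hab.2 hb))]
      have := Nat.card_le_card_of_injective _ hinj
      rw [hU.card_four] at this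
      simp at this
    have hso : orderOf s = 2 := orderOf_eq_prime (by rw [pow_two]; exact klein_sq hU hsU) hs.1
    obtain ⟨g, hg⟩ := isConj_iff.1 (conj2 h hso hzo)
    set U' := U.map (MulAut.conj g).toMonoidHom
    have hU' : IsKleinFour U' := klein_iff.2 ⟨by
      rw [Subgroup.card_map_of_injective (MulAut.conj g).injective, hU.card_four], by
      rintro _ ⟨x, hx, rfl⟩
      rw [← map_mul, klein_sq hU hx, map_one]⟩
    have hzU' : z ∈ U' := ⟨s, hsU, hg⟩
    have hU'T : U' ≤ T := by
      rw [← hCz]
      intro x hx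
      rw [Subgroup.mem_centralizer_singleton_iff]
      exact (Subgroup.mem_centralizer_iff.1 (klein_le_centralizer hU' hx) z hzU').symm
    by_cases heq : U' = U
    · -- then `g` normalises `U`, so centralises `z`
      have hgN : g ∈ N := Subgroup.mem_normalizer_iff_map_conj_eq.2 heq
      have hgz : g * z = z * g := by
        have := hle hgN
        rw [← hCz] at this
        exact Subgroup.mem_centralizer_singleton_iff.1 this
      apply hs.2
      calc s = g⁻¹ * (g * s * g⁻¹) * g := by group
        _ = g⁻¹ * (g * z * g⁻¹) * g := by rw [hg, hgz]; group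
        _ = z := by group
    · exact fours_not_conj h T hUT hU'T hU hU' (Ne.symm heq) g rfl
  have h8 := Subgroup.card_dvd_of_le hTN
  rw [hT, hNC] at h8
  have hne8 : Nat.card N ≠ 8 := fun e => hbig (le_of_eq (Subgroup.eq_of_le_of_card_ge hTN (by rw [e, hT])).symm)
  have hG := N.card_subgroup_dvd_card
  rw [h, hNC] at hG
  rw [hNC] at hne8 ⊢
  have hle := Nat.le_of_dvd (by norm_num) hrel
  have hpos : C.relIndex N ≠ 0 := (C.subgroupOf N).index_ne_zero_of_finite
  have hinj : C.relIndex N ≤ 6 := by
    -- automorphisms are determined by two images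
    have h1 := Subgroup.card_dvd_of_injective _
      (QuotientGroup.kerLift_injective (Subgroup.normalizerMonoidHom U))
    rw [Subgroup.normalizerMonoidHom_ker, ← Subgroup.index] at h1
    haveI : Fintype U := Fintype.ofFinite _
    haveI : DecidableEq U := Classical.decEq _
    have h3 : Nat.card (MulAut U) ≤ 6 := by
      let F : MulAut U → {σ : Equiv.Perm U // σ 1 = 1} := fun a => ⟨a.toEquiv, map_one a⟩
      have hF : Function.Injective F := fun a b e =>
        MulEquiv.ext (Equiv.ext_iff.1 (congrArg Subtype.val e))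
      refine (Nat.card_le_card_of_injective F hF).trans ?_
      have e3 : {σ : Equiv.Perm U // σ 1 = 1} ≃ Equiv.Perm {u : U // u ≠ 1} :=
        ((Equiv.subtypeEquivRight fun σ => by simp).trans (Equiv.Perm.subtypeEquivSubtypePerm (fun u : U => u ≠ 1)).symm)
      rw [Nat.card_congr e3, Nat.card_perm, Nat.card_eq_fintype_card, Fintype.card_subtype_compl,
        Fintype.card_subtype_eq, ← Nat.card_eq_fintype_card, hU.card_four]
      decide
    exact (Nat.le_of_dvd Nat.card_pos h1).trans h3
  interval_cases (C.relIndex N) <;> omega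

theorem index_ge_seven (h : Nat.card G = 168) (M : Subgroup G) (hM : M ≠ ⊤) : 7 ≤ M.index := by
  have hd := two_card_dvd_factorial (not_comm h) M hM
  rw [h] at hd
  by_contra hlt
  have hdd : ∀ i < 7, ¬ 2 * 168 ∣ i.factorial := by decide
  exact hdd _ (by omega) hd

theorem coatom21 (h : Nat.card G = 168) (M : Subgroup G) (hM : Nat.card M = 21 ∨ Nat.card M = 24) : IsCoatom M := by
  refine ⟨fun e => ?_, fun K hK => ?_⟩
  · rw [e, Subgroup.card_top, h] at hM
    omega
  · by_contra hKt
    have h1 := Subgroup.card_dvd_of_le hK.le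
    have h2 := index_ge_seven h K hKt
    have h3 := K.index_mul_card
    rw [h] at h3
    have hle : Nat.card K ≤ 24 := by nlinarith
    have hpos : 0 < Nat.card K := Nat.card_pos
    have hge : Nat.card M ≤ Nat.card K := Nat.le_of_dvd hpos h1
    obtain ⟨d, hd⟩ := h1
    have hd1 : d = 1 := by
      rcases hM with e | e <;> rw [e] at hd hge <;> omega
    rw [hd1, mul_one] at hd
    exact hK.ne (Subgroup.eq_of_le_of_card_ge hK.le hd.le)

theorem subgroup21 (h : Nat.card G = 168) [Fact (Nat.Prime 7)] (M : Subgroup G) (hM : 7 ∣ Nat.card M) (hMt : M ≠ ⊤) :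
    ∃ P : Sylow 7 G, M ≤ Subgroup.normalizer ((P : Subgroup G) : Set G) := by
  obtain ⟨x, hx⟩ := exists_prime_orderOf_dvd_card' (G := M) 7 hM
  have h2 := index_ge_seven h M hMt
  have h3 := M.index_mul_card
  rw [h] at h3
  have hle : Nat.card M ≤ 24 := by nlinarith
  obtain ⟨d, hd⟩ := hM
  have hd3 : d ≤ 3 := by omega
  have hdpos : 0 < d := by
    have : 0 < Nat.card M := Nat.card_pos
    omega
  have hn : Nat.card (Sylow 7 M) = 1 := by
    have hMc : Nat.card M = 7 ^ 1 * d := by rw [hd]; ring
    have hmem := sylow_count_dvd hMc (fun hdd => by have := Nat.le_of_dvd hdpos hdd; omega)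
    have hmod := sylow_count_mod (G := M) 7
    have := Nat.le_of_dvd hdpos hmem
    omega
  haveI : Subsingleton (Sylow 7 M) := (Nat.card_eq_one_iff_unique.1 hn).1
  obtain ⟨P, hP⟩ := (IsPGroup.of_card (n := 1) (by rw [Nat.card_zpowers, Subgroup.orderOf_coe, hx, pow_one]) :
    IsPGroup 7 (Subgroup.zpowers (x : G))).exists_le_sylow
  refine ⟨P, ?_⟩
  have hPe : Subgroup.zpowers (x : G) = P :=
    Subgroup.eq_of_le_of_card_ge hP (by rw [(sylow7 h P).1, Nat.card_zpowers, Subgroup.orderOf_coe, hx])
  have hPM : (P : Subgroup G) ≤ M := hPe ▸ Subgroup.zpowers_le.2 x.2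
  exact (Subgroup.normal_subgroupOf_iff_le_normalizer hPM).1 ((P.subtype hPM).normal_of_subsingleton)

/-- A group of order 24 normalises a Klein four-group. -/
theorem four_of_24 (h : Nat.card G = 168) [Fact (Nat.Prime 2)] (M : Subgroup G) (hM : Nat.card M = 24) :
    ∃ U : Subgroup G, IsKleinFour U ∧ M = Subgroup.normalizer (U : Set G) := by
  obtain ⟨e⟩ := subgroup24 h M hM
  let V : Subgroup (Equiv.Perm (Fin 4)) :=
    { carrier := {σ | σ * σ = 1 ∧ Equiv.Perm.sign σ = 1}
      one_mem' := by simp
      mul_mem' := fun {a b} ha hb => by revert a b; decide +kernel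
      inv_mem' := fun {a} ha => by
        show a⁻¹ * a⁻¹ = 1 ∧ _
        rw [inv_eq_of_mul_eq_one_right ha.1]; exact ha }
  have hVn : ∀ σ τ : Equiv.Perm (Fin 4), τ ∈ V → σ * τ * σ⁻¹ ∈ V := by
    intro σ τ hτ
    refine ⟨?_, ?_⟩
    · calc σ * τ * σ⁻¹ * (σ * τ * σ⁻¹) = σ * (τ * τ) * σ⁻¹ := by group
        _ = 1 := by rw [hτ.1]; group
    · rw [map_mul, map_mul, hτ.2, map_inv]; simp
  have hV4 : Nat.card V = 4 := by
    show Nat.card {σ : Equiv.Perm (Fin 4) // σ * σ = 1 ∧ Equiv.Perm.sign σ = 1} = 4
    rw [Nat.card_eq_fintype_card]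
    decide +kernel
  let U : Subgroup G := (V.comap e.toMonoidHom).map M.subtype
  have hU : IsKleinFour U := klein_iff.2 ⟨by
    rw [Subgroup.card_map_of_injective M.subtype_injective]
    exact (Nat.card_congr (e.toEquiv.subtypeEquiv fun _ => Iff.rfl)).trans hV4, by
    rintro _ ⟨x, hx, rfl⟩
    rw [← map_mul, show x * x = 1 from e.injective (by rw [map_mul, map_one]; exact hx.1), map_one]⟩
  refine ⟨U, hU, Subgroup.eq_of_le_of_card_ge ?_ (by rw [normalizer_four h hU, hM])⟩
  rw [Subgroup.le_normalizer_iff]
  rintro m hm _ ⟨x, hx, rfl⟩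
  refine ⟨⟨m, hm⟩ * x * ⟨m, hm⟩⁻¹, ?_, rfl⟩
  show e (⟨m, hm⟩ * x * ⟨m, hm⟩⁻¹) ∈ V
  rw [map_mul, map_mul, map_inv]
  exact hVn _ _ hx

/-- Every proper subgroup lies in a maximal subgroup of order 21 or 24. -/
theorem maximal_order (h : Nat.card G = 168) (M : Subgroup G) (hM : IsCoatom M) :
    Nat.card M = 21 ∨ Nat.card M = 24 := by
  haveI : Fact (Nat.Prime 2) := ⟨Nat.prime_two⟩
  haveI : Fact (Nat.Prime 3) := ⟨Nat.prime_three⟩
  haveI := prime_seven
  have eqmax : ∀ K : Subgroup G, K ≠ ⊤ → M ≤ K → M = K := fun K hK hle =>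
    ((hM.le_iff).1 hle).resolve_left hK |>.symm
  have proper : ∀ K : Subgroup G, Nat.card K < 168 → K ≠ ⊤ := fun K hK e => by
    rw [e, Subgroup.card_top, h] at hK
    exact hK.false
  by_cases h7 : 7 ∣ Nat.card M
  · obtain ⟨P, hP⟩ := subgroup21 h M h7 hM.1
    left
    rw [eqmax _ (proper _ (by rw [(sylow7 h P).2.1]; norm_num)) hP, (sylow7 h P).2.1]
  right
  have h2 := index_ge_seven h M hM.1
  have h3 := M.index_mul_card
  rw [h] at h3
  have hle : Nat.card M ≤ 24 := by nlinarith
  have hdvd : Nat.card M ∣ 168 := ⟨M.index, by rw [← h3]; ring⟩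
  -- it suffices to lie in the normaliser of a four-group
  suffices hs : ∃ U : Subgroup G, IsKleinFour U ∧ M ≤ Subgroup.normalizer (U : Set G) by
    obtain ⟨U, hU, hMU⟩ := hs
    rw [eqmax _ (proper _ (by rw [normalizer_four h hU]; norm_num)) hMU, normalizer_four h hU]
  let T₀ : Sylow 2 G := default
  have hfour : ∀ T : Sylow 2 G, ∃ U : Subgroup G, IsKleinFour U ∧ U ≤ (T : Subgroup G) := by
    intro T
    haveI : Nonempty {U : Subgroup G // U ≤ (T : Subgroup G) ∧ IsKleinFour ↥U} :=
      (Nat.card_pos_iff.1 (by rw [two_fours h T]; norm_num)).1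
    obtain ⟨⟨U, hU⟩⟩ := this
    exact ⟨U, hU.2, hU.1⟩
  have h8 : IsPGroup 2 M → ∃ U : Subgroup G, IsKleinFour U ∧ M ≤ Subgroup.normalizer (U : Set G) := by
    intro hp
    obtain ⟨T, hT⟩ := hp.exists_le_sylow
    obtain ⟨U, hU, hUT⟩ := hfour T
    refine ⟨U, hU, hT.trans ?_⟩
    refine (Subgroup.normal_subgroupOf_iff_le_normalizer hUT).1 (Subgroup.normal_of_index_eq_two ?_)
    have := (U.subgroupOf (T : Subgroup G)).index_mul_card
    rw [Nat.card_congr (Subgroup.subgroupOfEquivOfLe hUT).toEquiv, hU.card_four, (n2_and_normalizer h T).1] at this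
    omega
  by_cases h3d : 3 ∣ Nat.card M
  · obtain ⟨x, hx⟩ := exists_prime_orderOf_dvd_card' (G := M) 3 h3d
    -- the Sylow normaliser of order 6 lies in a group of order 24
    have hsix : ∀ Q : Sylow 3 G, ∃ U : Subgroup G, IsKleinFour U ∧
        Subgroup.normalizer ((Q : Subgroup G) : Set G) ≤ Subgroup.normalizer (U : Set G) := by
      intro Q
      obtain ⟨U, hU, -⟩ := hfour T₀
      set K := Subgroup.normalizer (U : Set G)
      have hK := normalizer_four h hU
      have hK' : Nat.card K = 3 ^ 1 * 8 := by rw [hK]; norm_num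
      let R : Sylow 3 K := default
      obtain ⟨Q', hQ'⟩ := (R.isPGroup'.map K.subtype).exists_le_sylow
      have hRQ : (R : Subgroup K).map K.subtype = Q' := Subgroup.eq_of_le_of_card_ge hQ' (by
        rw [(sylow3 h Q').1, Subgroup.card_map_of_injective K.subtype_injective,
          sylow_card hK' (by norm_num) R]; norm_num)
      have hNR : Nat.card (Subgroup.normalizer ((R : Subgroup K) : Set K)) = 6 := by
        have hn := sylow3_count_four hK fun g => by rw [← Subgroup.orderOf_coe]; exact no_six h _
        have := (Subgroup.normalizer ((R : Subgroup K) : Set K)).index_mul_card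
        rw [R.coe_coe, ← R.card_eq_index_normalizer, hn, hK] at this
        rw [R.coe_coe]
        omega
      have hQK : Subgroup.normalizer ((Q' : Subgroup G) : Set G) ≤ K := by
        have hle : (Subgroup.normalizer ((R : Subgroup K) : Set K)).map K.subtype ≤
            Subgroup.normalizer ((Q' : Subgroup G) : Set G) := by
          rw [← hRQ]; exact Subgroup.le_normalizer_map K.subtype
        rw [← Subgroup.eq_of_le_of_card_ge hle (by
          rw [(sylow3 h Q').2.1, Subgroup.card_map_of_injective K.subtype_injective, hNR])]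
        exact Subgroup.map_subtype_le _
      obtain ⟨g, rfl⟩ := MulAction.exists_smul_eq G Q' Q
      let U' := U.map (MulAut.conj g).toMonoidHom
      refine ⟨U', klein_iff.2 ⟨by rw [Subgroup.card_map_of_injective (MulAut.conj g).injective, hU.card_four], by
        rintro _ ⟨y, hy, rfl⟩
        rw [← map_mul, klein_sq hU hy, map_one]⟩, ?_⟩
      have e1 : Subgroup.normalizer (((g • Q' : Sylow 3 G) : Subgroup G) : Set G) =
          (Subgroup.normalizer ((Q' : Subgroup G) : Set G)).map (MulAut.conj g).toMonoidHom := by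
        rw [Subgroup.map_equiv_normalizer_eq _ (MulAut.conj g), Sylow.coe_subgroup_smul]
        rfl
      rw [e1, show Subgroup.normalizer (U' : Set G) = K.map (MulAut.conj g).toMonoidHom from
        (Subgroup.map_equiv_normalizer_eq _ (MulAut.conj g)).symm]
      exact Subgroup.map_mono hQK
    obtain ⟨Q, hQ⟩ := (IsPGroup.of_card (n := 1) (by rw [Nat.card_zpowers, Subgroup.orderOf_coe, hx, pow_one]) :
      IsPGroup 3 (Subgroup.zpowers (x : G))).exists_le_sylow
    have hQM : (Q : Subgroup G) ≤ M := by
      rw [← Subgroup.eq_of_le_of_card_ge hQ (by rw [(sylow3 h Q).1, Nat.card_zpowers, Subgroup.orderOf_coe, hx])]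
      exact Subgroup.zpowers_le.2 x.2
    obtain ⟨d, hd⟩ := h3d
    have hMc : Nat.card M = 3 ^ 1 * d := by rw [hd]; ring
    have hdpos : 0 < d := by have : 0 < Nat.card M := Nat.card_pos; omega
    have hd8 : d ∣ 8 := by
      have h56 : d ∣ 56 := by
        rw [hd] at hdvd
        exact Nat.dvd_of_mul_dvd_mul_left (by norm_num : 0 < 3) hdvd
      refine Nat.Coprime.dvd_of_dvd_mul_right ?_ (show d ∣ 8 * 7 from h56)
      rw [Nat.coprime_comm, (show Nat.Prime 7 by norm_num).coprime_iff_not_dvd]
      exact fun hdd => h7 (hd ▸ hdd.mul_left 3)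
    have hd3 : ¬ 3 ∣ d := fun hdd => absurd (hdd.trans hd8) (by norm_num)
    by_cases hd24 : d = 8
    · obtain ⟨U, hU, e⟩ := four_of_24 h M (by rw [hd, hd24])
      exact ⟨U, hU, e.le⟩
    have hn := sylow_count_mem hMc hd3
    by_cases hone : Nat.card (Sylow 3 M) = 1
    · haveI : Subsingleton (Sylow 3 M) := (Nat.card_eq_one_iff_unique.1 hone).1
      have := (Subgroup.normal_subgroupOf_iff_le_normalizer hQM).1 ((Q.subtype hQM).normal_of_subsingleton)
      obtain ⟨U, hU, hQU⟩ := hsix Q
      exact ⟨U, hU, this.trans hQU⟩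
    -- order 12
    rw [Finset.mem_filter, Nat.mem_divisors] at hn
    have hd4 : d = 4 := by
      have := Nat.le_of_dvd (by norm_num) hd8
      have := Nat.le_of_dvd hdpos hn.1.1
      obtain ⟨k, hk⟩ := hn.1.1
      have := hn.2
      interval_cases d <;> first | omega | (norm_num at hd8)
    subst hd4
    have hn4 : Nat.card (Sylow 3 M) = 4 := by
      have := Nat.le_of_dvd hdpos hn.1.1
      have := hn.2
      have : 0 < Nat.card (Sylow 3 M) := Nat.card_pos
      omega
    -- the Sylow 2-subgroup of `M` is normal, by counting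
    have hM2 : Nat.card M = 2 ^ 2 * 3 := by rw [hd]; norm_num
    have h2one : Nat.card (Sylow 2 M) = 1 := by
      classical
      haveI : Fintype M := Fintype.ofFinite _
      have e3 := card_orderOf_eq_prime (G := M) (p := 3) (fun R => by rw [sylow_card hMc hd3 R, pow_one])
      rw [hn4] at e3
      let S : Finset M := Finset.univ.filter fun g => orderOf g ≠ 3
      have hS : S.card = 4 := by
        have h1 := Finset.card_filter_add_card_filter_not (s := (Finset.univ : Finset M)) (fun g => orderOf g = 3)
        rw [Finset.card_univ, ← Fintype.card_subtype, ← Nat.card_eq_fintype_card, ← Nat.card_eq_fintype_card, e3, hd] at h1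
        simp only [S, ne_eq]
        omega
      rw [Nat.card_eq_one_iff_unique]
      refine ⟨⟨fun A B => Sylow.ext ?_⟩, inferInstance⟩
      have hAS : ∀ A : Sylow 2 M, (Finset.univ.filter fun g => g ∈ (A : Subgroup M)) = S := by
        intro A
        refine Finset.eq_of_subset_of_card_le (fun g hg => ?_) ?_
        · rw [Finset.mem_filter] at hg
          simp only [S, Finset.mem_filter, Finset.mem_univ, true_and]
          intro ho
          have hdd := (A : Subgroup M).orderOf_dvd_natCard hg.2
          rw [ho, sylow_card hM2 (by norm_num) A] at hdd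
          norm_num at hdd
        · rw [hS, ← Fintype.card_subtype, ← Nat.card_eq_fintype_card]
          exact le_of_eq (sylow_card hM2 (by norm_num) A).symm
      ext g
      have := congrArg (fun S : Finset M => g ∈ S) ((hAS A).trans (hAS B).symm)
      simpa using this
    haveI : Subsingleton (Sylow 2 M) := (Nat.card_eq_one_iff_unique.1 h2one).1
    let R : Sylow 2 M := default
    haveI hRn := R.normal_of_subsingleton
    let U : Subgroup G := (R : Subgroup M).map M.subtype
    have hUc : Nat.card U = 4 := by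
      rw [Subgroup.card_map_of_injective M.subtype_injective, sylow_card hM2 (by norm_num) R]; norm_num
    have hMN : M ≤ Subgroup.normalizer (U : Set G) := by
      rw [Subgroup.le_normalizer_iff]
      rintro m hm _ ⟨y, hy, rfl⟩
      exact ⟨⟨m, hm⟩ * y * ⟨m, hm⟩⁻¹, hRn.conj_mem y hy _, rfl⟩
    refine ⟨U, klein_iff.2 ⟨hUc, fun u hu => ?_⟩, hMN⟩
    by_contra hne
    -- an element of order 4 would be centralised by `x`
    have ho : orderOf u = 4 := by
      have hdd := U.orderOf_dvd_natCard hu
      rw [hUc] at hdd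
      obtain ⟨j, hj, hj'⟩ := (Nat.dvd_prime_pow Nat.prime_two).1 (show orderOf u ∣ 2 ^ 2 by simpa using hdd)
      interval_cases j
      · exact absurd (show u * u = 1 by rw [orderOf_eq_one_iff.1 (show orderOf u = 1 by simpa using hj'), one_mul]) hne
      · exact absurd (show u * u = 1 by rw [← pow_two, ← pow_one 2, ← hj', pow_orderOf_eq_one]) hne
      · simpa using hj'
    have hgen : Subgroup.zpowers u = U := Subgroup.eq_of_le_of_card_ge (Subgroup.zpowers_le.2 hu)
      (by rw [hUc, Nat.card_zpowers, ho])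
    have hxu : (x : G) * u * (x : G)⁻¹ ∈ U := (Subgroup.mem_normalizer_iff.1 (hMN x.2) u).1 hu
    rw [← hgen, ← mem_powers_iff_mem_zpowers] at hxu
    obtain ⟨k, hk⟩ := (Submonoid.mem_powers_iff _ _).1 hxu
    have hu4 : u ^ 4 = 1 := by rw [← ho]; exact pow_orderOf_eq_one u
    have hk' : u ^ (k % 4) = (x : G) * u * (x : G)⁻¹ := by rw [← pow_eq_pow_mod _ hu4]; exact hk
    have hx3 : (x : G) ^ 3 = 1 := by rw [← hx, ← Subgroup.orderOf_coe]; exact pow_orderOf_eq_one _
    have hoc : orderOf ((x : G) * u * (x : G)⁻¹) = 4 := by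
      rw [← ho]; simpa using (MulAut.conj (x : G)).orderOf_eq u
    have hlt := Nat.mod_lt k (by norm_num : 4 > 0)
    have hcomm : Commute (x : G) u := by
      interval_cases hk4 : k % 4
      · rw [pow_zero] at hk'; rw [← hk', orderOf_one] at hoc; norm_num at hoc
      · rw [pow_one] at hk'; exact mul_inv_eq_iff_eq_mul.1 hk'.symm
      · rw [← hk', orderOf_pow, ho] at hoc; norm_num at hoc
      · exfalso
        have hinv : (x : G) * u * (x : G)⁻¹ = u⁻¹ := by
          rw [← hk']; exact eq_inv_of_mul_eq_one_left (by rw [← pow_succ]; exact hu4)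
        have hinv2 : (x : G) * u⁻¹ * (x : G)⁻¹ = u := by rw [← conj_inv, hinv, inv_inv]
        have e3 : (x : G) ^ 3 * u * ((x : G) ^ 3)⁻¹ = u⁻¹ := by
          calc (x : G) ^ 3 * u * ((x : G) ^ 3)⁻¹ = x * (x * (x * u * (x : G)⁻¹) * (x : G)⁻¹) * (x : G)⁻¹ := by
                simp only [pow_succ, pow_zero, one_mul, mul_inv_rev, mul_assoc]
            _ = u⁻¹ := by rw [hinv, hinv2, hinv]
        rw [hx3] at e3
        have e4 : u * u = 1 := by
          have : u = u⁻¹ := by simpa using e3
          nth_rw 2 [this]; exact mul_inv_cancel u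
        exact hne e4
    have hmem : u ∈ Subgroup.centralizer ({(x : G)} : Set G) :=
      Subgroup.mem_centralizer_singleton_iff.2 hcomm.symm.eq
    have := (Subgroup.centralizer _).orderOf_dvd_natCard hmem
    rw [centralizer3 h (by rw [Subgroup.orderOf_coe]; exact hx), ho] at this
    norm_num at this
  · apply h8
    refine IsPGroup.iff_orderOf.2 fun g => ?_
    have hg := orderOf_dvd_natCard g
    rcases orders h (g : G) with e | e | e | e | e <;> rw [Subgroup.orderOf_coe] at e
    · exact ⟨0, e⟩
    · exact ⟨1, e⟩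
    · exact absurd (e ▸ hg) h3d
    · exact ⟨2, e.trans (by norm_num)⟩
    · exact absurd (e ▸ hg) h7

end Cfsg.Agent.Lib.SylowCounting.Order168
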