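import Cfsg.Agent.Lib.SylowCounting.Order24
import Cfsg.Agent.Lib.SylowCounting.FourPrimes
import Mathlib.GroupTheory.SpecificGroups.Dihedral

namespace Cfsg.Agent.Lib.SylowCounting

variable {G : Type*} [Group G] [Finite G]

theorem card_class_of_centralizer {x : G} {c : ℕ}
    (hc : Nat.card (Subgroup.centralizer ({x} : Set G)) = c) :
    Nat.card {g : G // IsConj x g} * c = Nat.card G := by
  rw [← hc]; exact card_conjClass_mul_card_centralizer x

theorem centralizer_singleton_eq_of_generates {x : G} {H : Subgroup G}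
    (hH : Subgroup.zpowers x = H) :
    Subgroup.centralizer ({x} : Set G) = Subgroup.centralizer (H : Set G) := by
  subst hH
  apply le_antisymm
  · intro g hg
    rw [Subgroup.mem_centralizer_singleton_iff] at hg
    rw [Subgroup.mem_centralizer_iff]
    rintro y hy
    obtain ⟨i, rfl⟩ := Subgroup.mem_zpowers_iff.1 hy
    exact ((show Commute g x from hg).zpow_right i).eq.symm
  · exact Subgroup.centralizer_le (Set.singleton_subset_iff.2 (Subgroup.mem_zpowers x))

/-- The centraliser of an element of prime order whose Sylow subgroups have that order. -/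
theorem card_centralizer_of_orderOf {p c : ℕ} [hp : Fact p.Prime]
    (hP : ∀ P : Sylow p G, Nat.card (P : Subgroup G) = p)
    (hc : ∀ P : Sylow p G, Nat.card (Subgroup.centralizer ((P : Subgroup G) : Set G)) = c)
    {x : G} (hx : orderOf x = p) : Nat.card (Subgroup.centralizer ({x} : Set G)) = c := by
  obtain ⟨Q, hQ⟩ := (IsPGroup.of_card (n := 1) (by rw [Nat.card_zpowers, hx, pow_one]) :
    IsPGroup p (Subgroup.zpowers x)).exists_le_sylow
  have e : Subgroup.zpowers x = Q :=
    Subgroup.eq_of_le_of_card_ge hQ (by rw [hP Q, Nat.card_zpowers, hx])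
  rw [centralizer_singleton_eq_of_generates e, hc Q]

/-- An element of order `4` in a group of order `8`, squares to the centre. -/
theorem sq_central_of_order_eight {T : Type*} [Group T] (hT : Nat.card T = 8) {g : T} (hg : orderOf g = 4) (t : T) :
    t * g ^ 2 * t⁻¹ = g ^ 2 := by
  haveI : Finite T := Nat.finite_of_card_ne_zero (by rw [hT]; norm_num)
  have hidx : (Subgroup.zpowers g).index = 2 := by
    have := (Subgroup.zpowers g).index_mul_card
    rw [Nat.card_zpowers, hg, hT] at this
    omega
  haveI := Subgroup.normal_of_index_eq_two hidx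
  have hmem : t * g * t⁻¹ ∈ Subgroup.zpowers g :=
    Subgroup.Normal.conj_mem inferInstance g (Subgroup.mem_zpowers g) t
  rw [← mem_powers_iff_mem_zpowers] at hmem
  obtain ⟨k, hk⟩ := Submonoid.mem_powers_iff _ _ |>.1 hmem
  have h4 : g ^ 4 = 1 := by rw [← hg]; exact pow_orderOf_eq_one g
  have hodd : k % 2 = 1 := by
    by_contra hk2
    have h1 : (t * g * t⁻¹) ^ 2 = 1 := by
      rw [← hk, ← pow_mul, pow_eq_pow_mod _ h4, show k * 2 % 4 = 0 by omega, pow_zero]
    have h2 : orderOf (t * g * t⁻¹) = 4 := by rw [← hg]; simpa using (MulAut.conj t).orderOf_eq g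
    have := orderOf_dvd_of_pow_eq_one h1
    rw [h2] at this
    exact absurd this (by norm_num)
  rw [← conj_pow, ← hk, ← pow_mul, pow_eq_pow_mod _ h4, show k * 2 % 4 = 2 by omega]

namespace Order168

variable [IsSimpleGroup G]

theorem not_comm (h : Nat.card G = 168) : ¬ IsMulCommutative G :=
  not_comm_of_not_prime (by rw [h]; norm_num)

theorem card7 (h : Nat.card G = 168) : Nat.card G = 7 ^ 1 * 24 := by rw [h]; norm_num
theorem card3 (h : Nat.card G = 168) : Nat.card G = 3 ^ 1 * 56 := by rw [h]; norm_num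
theorem card2 (h : Nat.card G = 168) : Nat.card G = 2 ^ 3 * 21 := by rw [h]; norm_num

theorem prime_seven : Fact (Nat.Prime 7) := ⟨by norm_num⟩

theorem n7 (h : Nat.card G = 168) : Nat.card (Sylow 7 G) = 8 := by
  haveI := prime_seven
  have := sylow_count_candidates (card7 h) (by norm_num) one_ne_zero (by norm_num)
  rwa [show candidates 7 24 = {8} by decide, Finset.mem_singleton] at this

theorem sylow7 (h : Nat.card G = 168) (P : Sylow 7 G) :
    Nat.card (P : Subgroup G) = 7 ∧
    Nat.card (Subgroup.normalizer ((P : Subgroup G) : Set G)) = 21 ∧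
    Nat.card (Subgroup.centralizer ((P : Subgroup G) : Set G)) = 7 := by
  haveI := prime_seven
  have hP : Nat.card (P : Subgroup G) = 7 := by rw [sylow_card (card7 h) (by norm_num) P, pow_one]
  have hN : Nat.card (Subgroup.normalizer ((P : Subgroup G) : Set G)) = 21 := by
    have := (Subgroup.normalizer ((P : Subgroup G) : Set G)).index_mul_card
    rw [P.coe_coe, ← P.card_eq_index_normalizer, n7 h, h] at this
    rw [P.coe_coe]
    omega
  refine ⟨hP, hN, ?_⟩
  obtain ⟨e, c, hec, he1, he2, hc, hcC⟩ := normalizer_card_eq (not_comm h) P hP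
  rw [hN] at hec
  rw [← hcC]
  have he := Nat.le_of_dvd (by norm_num) he2
  obtain ⟨d, rfl⟩ := hc
  interval_cases e <;> omega

theorem n3 (h : Nat.card G = 168) : Nat.card (Sylow 3 G) = 28 := by
  haveI := prime_seven
  haveI : Fact (Nat.Prime 3) := ⟨Nat.prime_three⟩
  have hc := sylow_count_candidates (card3 h) (by norm_num) one_ne_zero (by norm_num)
  rw [show candidates 3 56 = {4, 7, 28} by decide, Finset.mem_insert, Finset.mem_insert,
    Finset.mem_singleton] at hc
  have h3 := card_orderOf_eq_prime (G := G) (p := 3) (fun Q => by rw [sylow_card (card3 h) (by norm_num) Q, pow_one])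
  let P : Sylow 7 G := default
  obtain ⟨hP, hN, hC⟩ := sylow7 h P
  obtain ⟨x, hx⟩ := exists_prime_orderOf_dvd_card' (G := Subgroup.normalizer ((P : Subgroup G) : Set G)) 3
    (by rw [hN]; norm_num)
  rw [← Subgroup.orderOf_coe] at hx
  have hx' : (x : G) ∉ Subgroup.centralizer ((P : Subgroup G) : Set G) := by
    intro hm
    have := (Subgroup.centralizer ((P : Subgroup G) : Set G)).orderOf_dvd_natCard hm
    rw [hx, hC] at this
    norm_num at this
  have hlow := class_lower_bound P hP x x.2 hx'
  have hcl := card_class_le_card_orderOf (x : G)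
  rw [hx, h3] at hcl
  rw [n7 h] at hlow
  omega

theorem sylow3 (h : Nat.card G = 168) [Fact (Nat.Prime 3)] (P : Sylow 3 G) :
    Nat.card (P : Subgroup G) = 3 ∧
    Nat.card (Subgroup.normalizer ((P : Subgroup G) : Set G)) = 6 ∧
    Nat.card (Subgroup.centralizer ((P : Subgroup G) : Set G)) = 3 := by
  have hP : Nat.card (P : Subgroup G) = 3 := by rw [sylow_card (card3 h) (by norm_num) P, pow_one]
  have hN : Nat.card (Subgroup.normalizer ((P : Subgroup G) : Set G)) = 6 := by
    have := (Subgroup.normalizer ((P : Subgroup G) : Set G)).index_mul_card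
    rw [P.coe_coe, ← P.card_eq_index_normalizer, n3 h, h] at this
    rw [P.coe_coe]
    omega
  refine ⟨hP, hN, ?_⟩
  obtain ⟨e, c, hec, he1, he2, hc, hcC⟩ := normalizer_card_eq (not_comm h) P hP
  rw [hN] at hec
  rw [← hcC]
  have he := Nat.le_of_dvd (by norm_num) he2
  interval_cases e
  omega

theorem centralizer7 (h : Nat.card G = 168) {x : G} (hx : orderOf x = 7) :
    Nat.card (Subgroup.centralizer ({x} : Set G)) = 7 := by
  haveI := prime_seven
  exact card_centralizer_of_orderOf (fun P => (sylow7 h P).1) (fun P => (sylow7 h P).2.2) hx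

theorem centralizer3 (h : Nat.card G = 168) {x : G} (hx : orderOf x = 3) :
    Nat.card (Subgroup.centralizer ({x} : Set G)) = 3 := by
  haveI : Fact (Nat.Prime 3) := ⟨Nat.prime_three⟩
  exact card_centralizer_of_orderOf (fun P => (sylow3 h P).1) (fun P => (sylow3 h P).2.2) hx

theorem card_orderOf3 (h : Nat.card G = 168) : Nat.card {g : G // orderOf g = 3} = 56 := by
  haveI : Fact (Nat.Prime 3) := ⟨Nat.prime_three⟩
  rw [card_orderOf_eq_prime (fun P => (sylow3 h P).1), n3 h]

theorem card_orderOf7 (h : Nat.card G = 168) : Nat.card {g : G // orderOf g = 7} = 48 := by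
  haveI := prime_seven
  rw [card_orderOf_eq_prime (fun P => (sylow7 h P).1), n7 h]

omit [IsSimpleGroup G] in
theorem conj_of_card_eq {d : ℕ} {x : G} (hx : orderOf x = d)
    (hcard : Nat.card {g : G // orderOf g = d} ≤ Nat.card {g : G // IsConj x g}) {y : G} (hy : orderOf y = d) :
    IsConj x y := by
  let f : {g : G // IsConj x g} → {g : G // orderOf g = d} := fun g => ⟨g.1, by
    obtain ⟨c, hc⟩ := isConj_iff.1 g.2
    rw [← hc, ← hx]
    simpa using (MulAut.conj c).orderOf_eq x⟩
  have hf : Function.Injective f := fun a b e =>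
    Subtype.ext (congrArg (fun z : {g : G // orderOf g = d} => z.1) e)
  obtain ⟨g, hg⟩ := (hf.bijective_of_nat_card_le hcard).2 ⟨y, hy⟩
  have : g.1 = y := congrArg Subtype.val hg
  exact this ▸ g.2

theorem conj3 (h : Nat.card G = 168) {x y : G} (hx : orderOf x = 3) (hy : orderOf y = 3) : IsConj x y := by
  refine conj_of_card_eq hx ?_ hy
  have := card_class_of_centralizer (centralizer3 h hx)
  rw [card_orderOf3 h]
  omega

theorem class7 (h : Nat.card G = 168) {x : G} (hx : orderOf x = 7) : Nat.card {g : G // IsConj x g} = 24 := by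
  have := card_class_of_centralizer (centralizer7 h hx)
  omega

theorem not_conj_inv7 (h : Nat.card G = 168) {x : G} (hx : orderOf x = 7) : ¬ IsConj x x⁻¹ := by
  intro hc
  obtain ⟨c, hc⟩ := isConj_iff.1 hc
  have hxN : c * (c * x * c⁻¹) * c⁻¹ = x := by
    rw [hc, ← conj_inv, hc, inv_inv]
  have hc2 : c * c ∈ Subgroup.centralizer ({x} : Set G) := by
    rw [Subgroup.mem_centralizer_singleton_iff]
    exact mul_inv_eq_iff_eq_mul.1 (calc c * c * x * (c * c)⁻¹ = c * (c * x * c⁻¹) * c⁻¹ := by group
      _ = x := hxN)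
  have h7 : (c * c) ^ 7 = 1 := by
    have := (Subgroup.centralizer ({x} : Set G)).orderOf_dvd_natCard hc2
    rw [centralizer7 h hx] at this
    exact orderOf_dvd_iff_pow_eq_one.1 this
  have hc7 : (c ^ 7) * (c ^ 7) = 1 := by rw [← (Commute.refl c).mul_pow]; exact h7
  have hx7 : c ^ 7 * x * (c ^ 7)⁻¹ = x⁻¹ := by
    have h2 : (c * c) * x * (c * c)⁻¹ = x := mul_inv_eq_iff_eq_mul.2 (Subgroup.mem_centralizer_singleton_iff.1 hc2)
    have h6 : (c * c) ^ 3 * x * ((c * c) ^ 3)⁻¹ = x := by
      have hh : Commute (c * c) x := mul_inv_eq_iff_eq_mul.1 h2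
      exact mul_inv_eq_iff_eq_mul.2 (hh.pow_left 3).eq
    calc c ^ 7 * x * (c ^ 7)⁻¹ = c * ((c * c) ^ 3 * x * ((c * c) ^ 3)⁻¹) * c⁻¹ := by
          rw [← pow_two, ← pow_mul, pow_succ' c 6]; group
      _ = c * x * c⁻¹ := by rw [h6]
      _ = x⁻¹ := hc
  -- `c ^ 7` is an involution in the normaliser of `⟨x⟩`
  haveI := prime_seven
  obtain ⟨P, hP⟩ := (IsPGroup.of_card (n := 1) (by rw [Nat.card_zpowers, hx, pow_one]) :
    IsPGroup 7 (Subgroup.zpowers x)).exists_le_sylow
  obtain ⟨hP7, hN, -⟩ := sylow7 h P
  have hPe : Subgroup.zpowers x = P := Subgroup.eq_of_le_of_card_ge hP (by rw [hP7, Nat.card_zpowers, hx])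
  have hmem : c ^ 7 ∈ Subgroup.normalizer ((P : Subgroup G) : Set G) := by
    rw [Subgroup.mem_normalizer_iff_map_conj_eq, ← hPe, MonoidHom.map_zpowers]
    simp only [MonoidHom.coe_coe, MulAut.conj_apply, hx7, Subgroup.zpowers_inv]
  have h2 := (Subgroup.normalizer ((P : Subgroup G) : Set G)).orderOf_dvd_natCard hmem
  rw [hN] at h2
  have h3 : orderOf (c ^ 7) ∣ 2 := orderOf_dvd_of_pow_eq_one (by rw [pow_two]; exact hc7)
  have h4 : c ^ 7 = 1 := by
    rcases (Nat.dvd_prime Nat.prime_two).1 h3 with e | e
    · exact orderOf_eq_one_iff.1 e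
    · rw [e] at h2; exact absurd h2 (by norm_num)
  rw [h4] at hx7
  have : x * x = 1 := by
    have e : x = x⁻¹ := by simpa using hx7
    nth_rw 2 [e]
    exact mul_inv_cancel x
  have h5 := orderOf_dvd_of_pow_eq_one (show x ^ 2 = 1 by rw [pow_two]; exact this)
  rw [hx] at h5
  exact absurd h5 (by norm_num)

theorem not_isCyclic_sylow2 (h : Nat.card G = 168) [Fact (Nat.Prime 2)] (T : Sylow 2 G) :
    ¬ IsCyclic (T : Subgroup G) := by
  intro hc
  have hd : 2 ∣ Nat.card G := by rw [h]; norm_num
  refine not_normalizer_le_centralizer (not_comm h) T hd ?_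
  rw [T.coe_coe]
  exact IsCyclic.normalizer_le_centralizer (Nat.minFac_eq_two_iff _ |>.2 hd) hc

theorem orders (h : Nat.card G = 168) (g : G) :
    orderOf g = 1 ∨ orderOf g = 2 ∨ orderOf g = 3 ∨ orderOf g = 4 ∨ orderOf g = 7 := by
  haveI : Fact (Nat.Prime 2) := ⟨Nat.prime_two⟩
  have hpow : ∀ d : ℕ, d ∣ orderOf g → orderOf (g ^ (orderOf g / d)) = d := fun d hd =>
    orderOf_pow_orderOf_div (orderOf_pos g).ne' hd
  have hcent : ∀ k : ℕ, g ∈ Subgroup.centralizer ({g ^ k} : Set G) := fun k => by
    rw [Subgroup.mem_centralizer_singleton_iff]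
    exact ((Commute.refl g).pow_right k).eq
  by_cases h7 : 7 ∣ orderOf g
  · have := (Subgroup.centralizer _).orderOf_dvd_natCard (hcent (orderOf g / 7))
    rw [centralizer7 h (hpow 7 h7)] at this
    have := Nat.dvd_antisymm this h7
    omega
  by_cases h3 : 3 ∣ orderOf g
  · have := (Subgroup.centralizer _).orderOf_dvd_natCard (hcent (orderOf g / 3))
    rw [centralizer3 h (hpow 3 h3)] at this
    have := Nat.dvd_antisymm this h3
    omega
  have hd : orderOf g ∣ 8 := by
    have h1 : orderOf g ∣ 8 * 21 := by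
      have := orderOf_dvd_natCard g
      rwa [h] at this
    refine Nat.Coprime.dvd_of_dvd_mul_right ?_ h1
    rw [show (21 : ℕ) = 3 * 7 by norm_num]
    exact Nat.Coprime.mul_right ((Nat.Prime.coprime_iff_not_dvd Nat.prime_three).2 h3).symm
      ((Nat.Prime.coprime_iff_not_dvd (by norm_num)).2 h7).symm
  have hne : orderOf g ≠ 8 := by
    intro e
    obtain ⟨T, hT⟩ := (IsPGroup.of_card (n := 3) (by rw [Nat.card_zpowers, e]; norm_num) :
      IsPGroup 2 (Subgroup.zpowers g)).exists_le_sylow
    have hTe : Subgroup.zpowers g = T := Subgroup.eq_of_le_of_card_ge hT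
      (by rw [sylow_card (card2 h) (by norm_num) T, Nat.card_zpowers, e]; norm_num)
    exact not_isCyclic_sylow2 h T (hTe ▸ inferInstance)
  have := Nat.le_of_dvd (by norm_num) hd
  have := orderOf_pos g
  interval_cases (orderOf g) <;> omega

theorem n2_and_normalizer (h : Nat.card G = 168) [Fact (Nat.Prime 2)] (T : Sylow 2 G) :
    Nat.card (T : Subgroup G) = 8 ∧ Nat.card (Sylow 2 G) = 21 ∧
      Subgroup.normalizer ((T : Subgroup G) : Set G) = T := by
  classical
  have hT : Nat.card (T : Subgroup G) = 8 := by rw [sylow_card (card2 h) (by norm_num) T]; norm_num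
  have hn : Nat.card (Sylow 2 G) = 21 := by
    have hc := sylow_count_candidates (card2 h) (by norm_num) (by norm_num) (by norm_num)
    rw [show candidates 2 21 = {3, 7, 21} by decide, Finset.mem_insert, Finset.mem_insert,
      Finset.mem_singleton] at hc
    -- 2-elements fill the union of the Sylow 2-subgroups
    let S := {g : G // orderOf g = 2 ∨ orderOf g = 4}
    have hS : 63 ≤ Nat.card S := by
      have e := Nat.card_congr (Equiv.sumCompl (fun g : G => orderOf g = 2 ∨ orderOf g = 4))
      rw [Nat.card_sum, h] at e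
      have hle : Nat.card {g : G // ¬(orderOf g = 2 ∨ orderOf g = 4)} ≤ 1 + 56 + 48 := by
        have h1 : Nat.card {g : G // g = 1} = 1 := by simp
        rw [← h1, ← card_orderOf3 h, ← card_orderOf7 h, ← Nat.card_sum, ← Nat.card_sum]
        refine Nat.card_le_card_of_surjective
          (Sum.elim (Sum.elim (fun g => ⟨g.1, by rw [g.2]; simp⟩) (fun g => ⟨g.1, by rw [g.2]; simp⟩))
            (fun g => ⟨g.1, by rw [g.2]; simp⟩)) ?_
        rintro ⟨g, hg⟩
        rcases orders h g with e | e | e | e | e
        · exact ⟨.inl (.inl ⟨g, orderOf_eq_one_iff.1 e⟩), rfl⟩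
        · exact absurd (Or.inl e) hg
        · exact ⟨.inl (.inr ⟨g, e⟩), rfl⟩
        · exact absurd (Or.inr e) hg
        · exact ⟨.inr ⟨g, e⟩, rfl⟩
      show 63 ≤ Nat.card S
      change Nat.card S + _ = 168 at e
      omega
    have hchoose : ∀ g : S, ∃ Q : Sylow 2 G, g.1 ∈ (Q : Subgroup G) := by
      intro g
      obtain ⟨k, hk⟩ : ∃ k, orderOf g.1 = 2 ^ k := by
        rcases g.2 with e | e
        · exact ⟨1, e.trans (by norm_num)⟩
        · exact ⟨2, e.trans (by norm_num)⟩
      obtain ⟨Q, hQ⟩ := (IsPGroup.of_card (n := k) (by rw [Nat.card_zpowers, hk]) :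
        IsPGroup 2 (Subgroup.zpowers g.1)).exists_le_sylow
      exact ⟨Q, hQ (Subgroup.mem_zpowers _)⟩
    choose Q hQ using hchoose
    let f : S → Σ Q : Sylow 2 G, {g : (Q : Subgroup G) // g ≠ 1} := fun g =>
      ⟨Q g, ⟨g.1, hQ g⟩, fun e => by
        have e1 : g.1 = 1 := congrArg Subtype.val e
        have h24 := g.2
        rw [e1, orderOf_one] at h24
        omega⟩
    have hf : Function.Injective f := fun a b e =>
      Subtype.ext (congrArg (fun z : Σ Q : Sylow 2 G, {g : (Q : Subgroup G) // g ≠ 1} => ((z.2.1 : (z.1 : Subgroup G)) : G)) e)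
    haveI : Fintype (Sylow 2 G) := Fintype.ofFinite _
    have := Nat.card_le_card_of_injective f hf
    rw [Nat.card_sigma, Finset.sum_const_nat (m := 7), Finset.card_univ, ← Nat.card_eq_fintype_card] at this
    · omega
    intro R _
    haveI : Fintype (R : Subgroup G) := Fintype.ofFinite _
    rw [Nat.card_eq_fintype_card, Fintype.card_subtype_compl, Fintype.card_subtype_eq, ← Nat.card_eq_fintype_card,
      sylow_card (card2 h) (by norm_num) R]
    norm_num
  refine ⟨hT, hn, ?_⟩
  have hN := (Subgroup.normalizer ((T : Subgroup G) : Set G)).index_mul_card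
  rw [T.coe_coe, ← T.card_eq_index_normalizer, hn, h] at hN
  rw [← T.coe_coe] at hN
  exact (Subgroup.eq_of_le_of_card_ge Subgroup.le_normalizer (by rw [hT]; exact le_of_eq (by omega))).symm

theorem sylow2_not_comm (h : Nat.card G = 168) [Fact (Nat.Prime 2)] (T : Sylow 2 G) :
    ¬ IsMulCommutative (T : Subgroup G) := by
  intro hc
  refine not_normalizer_le_centralizer (not_comm h) T (by rw [h]; norm_num) ?_
  rw [(n2_and_normalizer h T).2.2]
  exact Subgroup.le_centralizer _

theorem centralizer_two_power (h : Nat.card G = 168) [Fact (Nat.Prime 2)] {x : G} (h1 : x ≠ 1)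
    (hx : orderOf x = 2 ∨ orderOf x = 4) : IsPGroup 2 (Subgroup.centralizer ({x} : Set G)) := by
  rw [IsPGroup.iff_orderOf]
  intro g
  have hcomm : Commute (g : G) x := Subgroup.mem_centralizer_singleton_iff.1 g.2
  rcases orders h (g : G) with e | e | e | e | e
  · exact ⟨0, by rw [← Subgroup.orderOf_coe, e, pow_zero]⟩
  · exact ⟨1, by rw [← Subgroup.orderOf_coe, e, pow_one]⟩
  · exfalso
    have hmem : x ∈ Subgroup.centralizer ({(g : G)} : Set G) := Subgroup.mem_centralizer_singleton_iff.2 hcomm.symm
    have := (Subgroup.centralizer _).orderOf_dvd_natCard hmem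
    rw [centralizer3 h e] at this
    rcases hx with e' | e' <;> rw [e'] at this <;> norm_num at this
  · exact ⟨2, by rw [← Subgroup.orderOf_coe, e]; norm_num⟩
  · exfalso
    have hmem : x ∈ Subgroup.centralizer ({(g : G)} : Set G) := Subgroup.mem_centralizer_singleton_iff.2 hcomm.symm
    have := (Subgroup.centralizer _).orderOf_dvd_natCard hmem
    rw [centralizer7 h e] at this
    rcases hx with e' | e' <;> rw [e'] at this <;> norm_num at this

theorem centralizer_le_eight (h : Nat.card G = 168) [Fact (Nat.Prime 2)] {x : G} (h1 : x ≠ 1)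
    (hx : orderOf x = 2 ∨ orderOf x = 4) :
    ∃ Q : Sylow 2 G, Subgroup.centralizer ({x} : Set G) ≤ Q :=
  (centralizer_two_power h h1 hx).exists_le_sylow

/-- The centraliser of a central involution of a Sylow 2-subgroup is that subgroup. -/
theorem centralizer_central (h : Nat.card G = 168) [Fact (Nat.Prime 2)] (T : Sylow 2 G) {z : G}
    (hz : z ∈ (T : Subgroup G)) (h1 : z ≠ 1) (hc : ∀ t ∈ (T : Subgroup G), t * z = z * t) :
    Subgroup.centralizer ({z} : Set G) = T ∧ orderOf z = 2 := by
  obtain ⟨hT, hn, hN⟩ := n2_and_normalizer h T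
  have hle : (T : Subgroup G) ≤ Subgroup.centralizer ({z} : Set G) := fun t ht =>
    Subgroup.mem_centralizer_singleton_iff.2 (hc t ht)
  have ho : orderOf z ∣ 8 := hT ▸ (T : Subgroup G).orderOf_dvd_natCard hz
  have ho' : orderOf z = 2 ∨ orderOf z = 4 := by
    have := orders h z
    have : orderOf z ≠ 1 := fun e => h1 (orderOf_eq_one_iff.1 e)
    have := Nat.le_of_dvd (by norm_num) ho
    rcases orders h z with e | e | e | e | e <;> rw [e] at ho <;> first | omega | (norm_num at ho)
  have heq : Subgroup.centralizer ({z} : Set G) = T :=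
    T.is_maximal' (centralizer_two_power h h1 ho') hle
  refine ⟨heq, ho'.resolve_right fun e => ?_⟩
  -- a central element of order 4 makes `T` abelian
  apply sylow2_not_comm h T
  refine ⟨⟨fun a b => ?_⟩⟩
  let Z := Subgroup.zpowers (⟨z, hz⟩ : (T : Subgroup G))
  have hZ : Z ≤ Subgroup.center (T : Subgroup G) :=
    Subgroup.zpowers_le.2 (Subgroup.mem_center_iff.2 fun t => Subtype.ext (hc t t.2))
  have hcyc : IsCyclic ((T : Subgroup G) ⧸ Subgroup.center (T : Subgroup G)) := by
    have hd := Subgroup.index_dvd_of_le hZ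
    have hi : Z.index = 2 := by
      have := Z.index_mul_card
      rw [Nat.card_zpowers, ← Subgroup.orderOf_coe, e, hT] at this
      omega
    rw [hi] at hd
    rcases (Nat.dvd_prime Nat.prime_two).1 hd with e' | e'
    · haveI : Subsingleton ((T : Subgroup G) ⧸ Subgroup.center (T : Subgroup G)) :=
        (Nat.card_eq_one_iff_unique.1 e').1
      exact isCyclic_of_subsingleton
    · exact isCyclic_of_prime_card (p := 2) e'
  exact commutative_of_cyclic_center_quotient (QuotientGroup.mk' (Subgroup.center (T : Subgroup G)))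
    (by rw [QuotientGroup.ker_mk']) a b

theorem exists_central (h : Nat.card G = 168) [Fact (Nat.Prime 2)] (T : Sylow 2 G) :
    ∃ z : G, z ∈ (T : Subgroup G) ∧ z ≠ 1 ∧ ∀ t ∈ (T : Subgroup G), t * z = z * t := by
  obtain ⟨hT, -, -⟩ := n2_and_normalizer h T
  haveI : Nontrivial (T : Subgroup G) := Finite.one_lt_card_iff_nontrivial.1 (by rw [hT]; norm_num)
  haveI := IsPGroup.center_nontrivial T.isPGroup'
  obtain ⟨w, hw⟩ := exists_ne (1 : Subgroup.center (T : Subgroup G))
  exact ⟨(w : (T : Subgroup G)), (w : (T : Subgroup G)).2, fun e => hw (Subtype.ext (Subtype.ext e)),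
    fun t ht => congrArg Subtype.val (Subgroup.mem_center_iff.1 w.2 ⟨t, ht⟩)⟩

theorem exists_orderOf_four_mem (h : Nat.card G = 168) [Fact (Nat.Prime 2)] (T : Sylow 2 G) :
    ∃ g : G, g ∈ (T : Subgroup G) ∧ orderOf g = 4 := by
  by_contra hne
  apply sylow2_not_comm h T
  have hinv : ∀ t : (T : Subgroup G), t * t = 1 := fun t => by
    apply Subtype.ext
    have hd : orderOf (t : G) ∣ 2 := by
      rcases orders h (t : G) with e | e | e | e | e
      · rw [e]; norm_num
      · rw [e]
      · have := (T : Subgroup G).orderOf_dvd_natCard t.2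
        rw [e, (n2_and_normalizer h T).1] at this; norm_num at this
      · exact absurd ⟨t.1, t.2, e⟩ hne
      · have := (T : Subgroup G).orderOf_dvd_natCard t.2
        rw [e, (n2_and_normalizer h T).1] at this; norm_num at this
    have := orderOf_dvd_iff_pow_eq_one.1 hd
    rwa [pow_two] at this
  refine ⟨⟨fun a b => ?_⟩⟩
  calc a * b = (b * b) * (a * b) * (a * a) := by rw [hinv, hinv, one_mul, mul_one]
    _ = b * (b * a * (b * a)) * a := by group
    _ = b * a := by rw [hinv, mul_one]

theorem counts (h : Nat.card G = 168) :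
    Nat.card {g : G // orderOf g = 2} = 21 ∧ Nat.card {g : G // orderOf g = 4} = 42 ∧
    (∀ x : G, orderOf x = 2 → Nat.card (Subgroup.centralizer ({x} : Set G)) = 8) ∧
    (∀ x : G, orderOf x = 4 → Nat.card (Subgroup.centralizer ({x} : Set G)) = 4) := by
  haveI : Fact (Nat.Prime 2) := ⟨Nat.prime_two⟩
  have hsum : Nat.card {g : G // orderOf g = 2} + Nat.card {g : G // orderOf g = 4} ≤ 63 := by
    have := sum_card_orderOf_le (G := G) {1, 2, 3, 4, 7}
    simp only [Finset.sum_insert, Finset.mem_insert, Finset.mem_singleton, Nat.reduceEqDiff, or_self,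
      not_false_eq_true, Finset.sum_singleton, card_orderOf3 h, card_orderOf7 h, h, orderOf_eq_one_iff] at this
    have h1 : Nat.card {g : G // g = 1} = 1 := by simp
    omega
  have c4 : ∀ x : G, orderOf x = 4 → Nat.card (Subgroup.centralizer ({x} : Set G)) = 4 := by
    intro x hx
    have hx1 : x ≠ 1 := fun e => by rw [e, orderOf_one] at hx; omega
    obtain ⟨Q, hQ⟩ := centralizer_le_eight h hx1 (Or.inr hx)
    have hxQ : x ∈ (Q : Subgroup G) := hQ (Subgroup.mem_centralizer_singleton_iff.2 rfl)
    have h8 := (n2_and_normalizer h Q).1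
    have hle : Subgroup.zpowers x ≤ Subgroup.centralizer ({x} : Set G) :=
      Subgroup.zpowers_le.2 (Subgroup.mem_centralizer_singleton_iff.2 rfl)
    have d1 := Subgroup.card_dvd_of_le hle
    rw [Nat.card_zpowers, hx] at d1
    have d2 := Subgroup.card_dvd_of_le hQ
    rw [h8] at d2
    have hne : Nat.card (Subgroup.centralizer ({x} : Set G)) ≠ 8 := by
      intro e
      have he : Subgroup.centralizer ({x} : Set G) = Q :=
        Subgroup.eq_of_le_of_card_ge hQ (by rw [e, h8])
      have := (centralizer_central h Q hxQ hx1 (fun t ht =>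
        Subgroup.mem_centralizer_singleton_iff.1 (he ▸ ht))).2
      omega
    have := Nat.le_of_dvd (by norm_num) d2
    interval_cases (Nat.card (Subgroup.centralizer ({x} : Set G))) <;> omega
  have hge2 : ∀ x : G, orderOf x = 2 →
      21 ≤ Nat.card {g : G // IsConj x g} ∧ Nat.card (Subgroup.centralizer ({x} : Set G)) ≤ 8 := by
    intro x hx
    have hx1 : x ≠ 1 := fun e => by rw [e, orderOf_one] at hx; omega
    obtain ⟨Q, hQ⟩ := centralizer_le_eight h hx1 (Or.inl hx)
    have hle := Nat.le_of_dvd Nat.card_pos (Subgroup.card_dvd_of_le hQ)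
    rw [(n2_and_normalizer h Q).1] at hle
    refine ⟨?_, hle⟩
    have he := card_conjClass_mul_card_centralizer x
    rw [h] at he
    have := Nat.mul_le_mul_left (Nat.card {g : G // IsConj x g}) hle
    omega
  obtain ⟨g, -, hg⟩ := exists_orderOf_four_mem h (default : Sylow 2 G)
  have hg42 : 42 ≤ Nat.card {g : G // orderOf g = 4} := by
    have := card_class_of_centralizer (c4 g hg)
    have hle := card_class_le_card_orderOf g
    rw [hg] at hle
    omega
  have hg2 : orderOf (g ^ 2) = 2 := by rw [orderOf_pow, hg]; norm_num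
  have h21 : 21 ≤ Nat.card {g : G // orderOf g = 2} := by
    have hle := card_class_le_card_orderOf (g ^ 2)
    rw [hg2] at hle
    have := (hge2 _ hg2).1
    omega
  refine ⟨by omega, by omega, fun x hx => ?_, c4⟩
  obtain ⟨h1, h2⟩ := hge2 x hx
  have hle := card_class_le_card_orderOf x
  rw [hx] at hle
  have he := card_conjClass_mul_card_centralizer x
  rw [h, show Nat.card {g : G // IsConj x g} = 21 by omega] at he
  omega

theorem conj2 (h : Nat.card G = 168) {x y : G} (hx : orderOf x = 2) (hy : orderOf y = 2) : IsConj x y := by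
  refine conj_of_card_eq hx ?_ hy
  have := card_class_of_centralizer ((counts h).2.2.1 x hx)
  rw [(counts h).1]
  omega

theorem conj4 (h : Nat.card G = 168) {x y : G} (hx : orderOf x = 4) (hy : orderOf y = 4) : IsConj x y := by
  refine conj_of_card_eq hx ?_ hy
  have := card_class_of_centralizer ((counts h).2.2.2 x hx)
  rw [(counts h).2.1]
  omega

/-- The subtype of elements of order 4 in a Sylow 2-subgroup has two members. -/
theorem card_four_in_sylow (h : Nat.card G = 168) [Fact (Nat.Prime 2)] (T : Sylow 2 G) :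
    Nat.card {g : G // g ∈ (T : Subgroup G) ∧ orderOf g = 4} = 2 := by
  classical
  obtain ⟨hI, hF, hC2, -⟩ := counts h
  obtain ⟨z, hz, hz1, hzc⟩ := exists_central h T
  obtain ⟨hCz, hzo⟩ := centralizer_central h T hz hz1 hzc
  let f : {g : G // orderOf g = 4} → {g : G // orderOf g = 2} := fun g =>
    ⟨g.1 ^ 2, by rw [orderOf_pow, g.2]; norm_num⟩
  let F := fun u : G => {g : G // orderOf g = 4 ∧ g ^ 2 = u}
  have hfib : ∀ u : G, orderOf u = 2 → Nat.card (F u) = Nat.card (F z) := by
    intro u hu
    obtain ⟨c, hc⟩ := isConj_iff.1 (conj2 h hzo hu)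
    refine (Nat.card_congr
      { toFun := fun g : F z => (⟨c * g.1 * c⁻¹, by
          exact ((MulAut.conj c).orderOf_eq g.1).trans g.2.1, by rw [conj_pow, g.2.2, hc]⟩ : F u)
        invFun := fun g : F u => (⟨c⁻¹ * g.1 * c, by
          have := ((MulAut.conj c⁻¹).orderOf_eq g.1).trans g.2.1
          simpa using this, by
            have h1 : (c⁻¹ * g.1 * c⁻¹⁻¹) ^ 2 = c⁻¹ * g.1 ^ 2 * c⁻¹⁻¹ := conj_pow
            rw [inv_inv] at h1
            rw [h1, g.2.2, ← hc]; group⟩ : F z)
        left_inv := fun g => by apply Subtype.ext; show c⁻¹ * (c * g.1 * c⁻¹) * c = g.1; group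
        right_inv := fun g => by apply Subtype.ext; show c * (c⁻¹ * g.1 * c) * c⁻¹ = g.1; group }).symm
  have hz2 : Nat.card (F z) = 2 := by
    haveI : Fintype {g : G // orderOf g = 2} := Fintype.ofFinite _
    have e := Nat.card_congr (Equiv.sigmaFiberEquiv f)
    rw [Nat.card_sigma, Finset.sum_const_nat (m := Nat.card (F z)), Finset.card_univ,
      ← Nat.card_eq_fintype_card, hI, hF] at e
    · omega
    intro u _
    rw [← hfib u.1 u.2]
    exact Nat.card_congr ((Equiv.subtypeEquivRight fun g => Subtype.ext_iff).trans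
      (Equiv.subtypeSubtypeEquivSubtypeInter _ (fun g : G => g ^ 2 = u.1)))
  refine (Nat.card_congr (Equiv.subtypeEquivRight fun g => ⟨fun hg => ⟨hg.2, ?_⟩, fun hg => ⟨?_, hg.1⟩⟩)).trans hz2
  · -- the square of an element of order 4 in `T` is central, hence equals `z`
    have hg1 : g ^ 2 ≠ 1 := fun e => by
      have := orderOf_dvd_of_pow_eq_one e
      rw [hg.2] at this; norm_num at this
    have hgc : ∀ t ∈ (T : Subgroup G), t * g ^ 2 = g ^ 2 * t := fun t ht =>
      mul_inv_eq_iff_eq_mul.1 (congrArg Subtype.val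
        (sq_central_of_order_eight (T := (T : Subgroup G)) (n2_and_normalizer h T).1 (g := ⟨g, hg.1⟩)
          (by rw [← Subgroup.orderOf_coe]; exact hg.2) ⟨t, ht⟩))
    obtain ⟨hC', ho'⟩ := centralizer_central h T (pow_mem hg.1 2) hg1 hgc
    by_contra hne
    apply sylow2_not_comm h T
    -- two central involutions give a central quotient of order at most two
    let K := Subgroup.center (T : Subgroup G)
    have hzK : (⟨z, hz⟩ : (T : Subgroup G)) ∈ K := Subgroup.mem_center_iff.2 fun t => Subtype.ext (hzc t t.2)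
    have hwK : (⟨g ^ 2, pow_mem hg.1 2⟩ : (T : Subgroup G)) ∈ K := Subgroup.mem_center_iff.2 fun t => Subtype.ext (hgc t t.2)
    have h3 : 3 ≤ Nat.card K := by
      have hinj : Function.Injective (![1, ⟨_, hzK⟩, ⟨_, hwK⟩] : Fin 3 → K) := by
        intro i j hij
        have hv := congrArg (fun x : K => ((x : (T : Subgroup G)) : G)) hij
        fin_cases i <;> fin_cases j <;> first | rfl | (exfalso; simp at hv) | skip
        all_goals first
          | (exact absurd hv.symm hz1) | (exact absurd hv hz1)
          | (exact absurd hv.symm hg1) | (exact absurd hv hg1)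
          | (exact absurd hv.symm hne) | (exact absurd hv hne)
      simpa using Nat.card_le_card_of_injective _ hinj
    have hd := K.card_subgroup_dvd_card
    rw [(n2_and_normalizer h T).1] at hd
    have hi := K.index_mul_card
    rw [(n2_and_normalizer h T).1] at hi
    have hcyc : IsCyclic ((T : Subgroup G) ⧸ K) := by
      have hle := Nat.le_of_dvd (by norm_num) hd
      have : K.index = 1 ∨ K.index = 2 := by
        obtain ⟨d, hd'⟩ := hd
        rw [hd'] at hi
        have h4 : Nat.card K = 4 ∨ Nat.card K = 8 := by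
          interval_cases (Nat.card K) <;> omega
        rcases h4 with e | e <;> rw [e] at hd' hi <;> omega
      rcases this with e | e
      · haveI : Subsingleton ((T : Subgroup G) ⧸ K) := (Nat.card_eq_one_iff_unique.1 e).1
        exact isCyclic_of_subsingleton
      · exact isCyclic_of_prime_card (p := 2) e
    exact ⟨⟨commutative_of_cyclic_center_quotient (QuotientGroup.mk' K) (by rw [QuotientGroup.ker_mk'])⟩⟩
  · rw [← hCz, Subgroup.mem_centralizer_singleton_iff, ← hg.2]
    exact ((Commute.refl g).pow_right 2).eq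

theorem sylow2_dihedral (h : Nat.card G = 168) [Fact (Nat.Prime 2)] (T : Sylow 2 G) :
    Nonempty ((T : Subgroup G) ≃* DihedralGroup 4) := by
  classical
  obtain ⟨hT, -, -⟩ := n2_and_normalizer h T
  have h2 := card_four_in_sylow h T
  obtain ⟨r, hr, hro⟩ := exists_orderOf_four_mem h T
  have honly : ∀ g : G, g ∈ (T : Subgroup G) → orderOf g = 4 → g = r ∨ g = r⁻¹ := by
    intro g hg hgo
    obtain ⟨a, -, hu⟩ := (Nat.card_eq_two_iff' (⟨r, hr, hro⟩ : {g : G // g ∈ (T : Subgroup G) ∧ orderOf g = 4})).1 h2
    have hri : r⁻¹ ≠ r := fun e => by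
      have e1 : r ^ 2 = 1 := by rw [pow_two]; nth_rw 1 [← e]; exact inv_mul_cancel r
      have := orderOf_dvd_of_pow_eq_one e1
      rw [hro] at this; norm_num at this
    by_cases hgr : g = r
    · exact Or.inl hgr
    · right
      have e1 := hu ⟨g, hg, hgo⟩ (fun e => hgr (congrArg Subtype.val e))
      have e2 := hu ⟨r⁻¹, inv_mem hr, by rw [orderOf_inv, hro]⟩ (fun e => hri (congrArg Subtype.val e))
      exact congrArg Subtype.val (e1.trans e2.symm)
  obtain ⟨s, hs, hsr⟩ : ∃ s, s ∈ (T : Subgroup G) ∧ s ∉ Subgroup.zpowers r := by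
    refine Set.not_subset.1 fun hle => ?_
    have := Nat.le_of_dvd Nat.card_pos (Subgroup.card_dvd_of_le (show (T : Subgroup G) ≤ _ from hle))
    rw [hT, Nat.card_zpowers, hro] at this
    omega
  have hso : s * s = 1 := by
    rcases orders h s with e | e | e | e | e
    · rw [orderOf_eq_one_iff.1 e, one_mul]
    · have := pow_orderOf_eq_one s; rwa [e, pow_two] at this
    · have := (T : Subgroup G).orderOf_dvd_natCard hs; rw [e, hT] at this; norm_num at this
    · exfalso
      apply hsr
      rcases honly s hs e with rfl | rfl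
      · exact Subgroup.mem_zpowers _
      · exact inv_mem (Subgroup.mem_zpowers _)
    · have := (T : Subgroup G).orderOf_dvd_natCard hs; rw [e, hT] at this; norm_num at this
  have hsi : s⁻¹ = s := inv_eq_of_mul_eq_one_right hso
  have hconj : s * r * s = r⁻¹ := by
    have hmem : s * r * s ∈ (T : Subgroup G) := mul_mem (mul_mem hs hr) hs
    have ho : orderOf (s * r * s) = 4 := by
      rw [← hro]
      have := (MulAut.conj s).orderOf_eq r
      simpa [hsi] using this
    refine (honly _ hmem ho).resolve_left fun e => ?_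
    -- otherwise `T` is abelian
    apply sylow2_not_comm h T
    have hcomm : Commute s r := by
      show s * r = r * s
      calc s * r = s * r * (s * s) := by rw [hso, mul_one]
        _ = r * s := by rw [← mul_assoc, e]
    have hgen : (T : Subgroup G) ≤ Subgroup.centralizer ({r} : Set G) ⊓ (T : Subgroup G) := by
      set K := Subgroup.centralizer ({r} : Set G) ⊓ (T : Subgroup G)
      have hle : Subgroup.zpowers r ≤ K :=
        Subgroup.zpowers_le.2 ⟨Subgroup.mem_centralizer_singleton_iff.2 rfl, hr⟩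
      have hsK : s ∈ K := ⟨Subgroup.mem_centralizer_singleton_iff.2 hcomm.eq, hs⟩
      obtain ⟨d, hd⟩ := Subgroup.card_dvd_of_le hle
      rw [Nat.card_zpowers, hro] at hd
      have hlt : Nat.card K ≠ 4 := fun e' => hsr ((Subgroup.eq_of_le_of_card_ge hle
        (by rw [e', Nat.card_zpowers, hro])) ▸ hsK)
      refine le_of_eq (Subgroup.eq_of_le_of_card_ge inf_le_right ?_).symm
      rw [hT]
      have hpos : 0 < Nat.card K := Nat.card_pos
      rw [hd] at hlt hpos ⊢
      omega
    have := (centralizer_central h T hr (fun e => by rw [e, orderOf_one] at hro; omega)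
      (fun t ht => Subgroup.mem_centralizer_singleton_iff.1 (hgen ht).1)).2
    omega
  have h4 : r ^ 4 = 1 := by rw [← hro]; exact pow_orderOf_eq_one r
  have key : ∀ i : ZMod 4, r ^ i.val * s = s * r ^ (-i).val := by
    intro i
    have h1 : (s * r * s⁻¹) ^ i.val = s * r ^ i.val * s⁻¹ := conj_pow
    rw [hsi, hconj] at h1
    have h2 : r⁻¹ ^ i.val = r ^ (-i).val := by
      rw [inv_pow]
      refine inv_eq_of_mul_eq_one_right ?_
      rw [← pow_add, pow_eq_pow_mod _ h4, ← ZMod.val_add, add_neg_cancel, ZMod.val_zero, pow_zero]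
    rw [h2] at h1
    rw [h1, ← mul_assoc, ← mul_assoc, hso, one_mul]
  have hadd : ∀ i j : ZMod 4, r ^ i.val * r ^ j.val = r ^ (i + j).val := by
    intro i j; rw [← pow_add, ZMod.val_add, ← pow_eq_pow_mod _ h4]
  let φ : DihedralGroup 4 →* G := MonoidHom.mk' (fun x => match x with
    | .r i => r ^ i.val
    | .sr i => s * r ^ i.val) (by
    rintro (i | i) (j | j)
    · exact (hadd i j).symm
    · show s * r ^ (j - i).val = r ^ i.val * (s * r ^ j.val)
      rw [← mul_assoc, key, mul_assoc, hadd, neg_add_eq_sub]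
    · show s * r ^ (i + j).val = s * r ^ i.val * r ^ j.val
      rw [mul_assoc, hadd]
    · show r ^ (j - i).val = s * r ^ i.val * (s * r ^ j.val)
      rw [mul_assoc, ← mul_assoc (r ^ i.val), key, mul_assoc, ← mul_assoc s s, hso, one_mul, hadd, neg_add_eq_sub])
  have hinj : Function.Injective φ := by
    rw [injective_iff_map_eq_one]
    rintro (i | i) hi
    · have hd : orderOf r ∣ i.val := orderOf_dvd_of_pow_eq_one hi
      rw [hro] at hd
      rw [(ZMod.val_eq_zero i).1 (Nat.eq_zero_of_dvd_of_lt hd (ZMod.val_lt i)), DihedralGroup.r_zero]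
    · exact absurd (by
        rw [eq_inv_of_mul_eq_one_left (show s * r ^ i.val = 1 from hi)]
        exact inv_mem (Subgroup.npow_mem_zpowers r _)) hsr
  have hle : φ.range ≤ (T : Subgroup G) := by
    rintro _ ⟨(i | i), rfl⟩
    · exact pow_mem hr _
    · exact mul_mem hs (pow_mem hr _)
  have heq : φ.range = (T : Subgroup G) := Subgroup.eq_of_le_of_card_ge hle (by
    rw [hT, ← Nat.card_congr (MonoidHom.ofInjective hinj).toEquiv, DihedralGroup.nat_card])
  exact ⟨((MonoidHom.ofInjective hinj).trans (MulEquiv.subgroupCongr heq)).symm⟩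

end Order168

end Cfsg.Agent.Lib.SylowCounting
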