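import Cfsg.Agent.Lib.SylowCounting.Tools
import Cfsg.Agent.Lib.SylowCounting.Intersection
import Mathlib.GroupTheory.SpecificGroups.KleinFour

namespace Cfsg.Agent.Lib.SylowCounting

variable {G : Type*} [Group G] [Finite G]

/-- A normal-index bound: an element normalising `⟨x⟩` of order 3 squares into its centraliser. -/
theorem sylow3_count_four (h : Nat.card G = 24) (h6 : ∀ g : G, orderOf g ≠ 6) :
    Nat.card (Sylow 3 G) = 4 := by
  haveI : Fact (Nat.Prime 3) := ⟨Nat.prime_three⟩
  haveI : Fact (Nat.Prime 2) := ⟨Nat.prime_two⟩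
  have hG : Nat.card G = 3 ^ 1 * 8 := by rw [h]; norm_num
  have hm : ¬ 3 ∣ 8 := by norm_num
  have hc := sylow_count_mem hG hm
  rw [show (Nat.divisors 8).filter (fun d => d % 3 = 1) = {1, 4} by decide, Finset.mem_insert,
    Finset.mem_singleton] at hc
  refine hc.resolve_left fun h1 => ?_
  let P : Sylow 3 G := default
  haveI : Subsingleton (Sylow 3 G) := (Nat.card_eq_one_iff_unique.1 h1).1
  haveI hPn := P.normal_of_subsingleton
  have hP : Nat.card (P : Subgroup G) = 3 := by rw [sylow_card hG hm P, pow_one]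
  set C := Subgroup.centralizer ((P : Subgroup G) : Set G)
  have hdv : C.index ∣ 2 := by
    have hk := Subgroup.index_ker (Subgroup.normalizerMonoidHom (P : Subgroup G))
    have h2 := Subgroup.card_subgroup_dvd_card (Subgroup.normalizerMonoidHom (P : Subgroup G)).range
    rw [← hk, Subgroup.normalizerMonoidHom_ker, ← Subgroup.relIndex,
      Subgroup.normalizer_eq_top, Subgroup.relIndex_top_right] at h2
    haveI : IsCyclic (P : Subgroup G) := isCyclic_of_prime_card hP
    rw [IsCyclic.card_mulAut (P : Subgroup G), hP, Nat.totient_prime Nat.prime_three] at h2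
    exact h2
  have hC : 2 ∣ Nat.card C := by
    have := C.index_mul_card
    rw [h] at this
    rcases (Nat.dvd_prime Nat.prime_two).1 hdv with e | e <;> rw [e] at this <;> omega
  obtain ⟨t, ht⟩ := exists_prime_orderOf_dvd_card' (G := C) 2 hC
  obtain ⟨x, hx⟩ := exists_prime_orderOf_dvd_card' (G := (P : Subgroup G)) 3 (by rw [hP])
  have hcomm : Commute (t : G) (x : G) := (Subgroup.mem_centralizer_iff.1 t.2 x x.2).symm
  apply h6 ((t : G) * x)
  rw [hcomm.orderOf_mul_eq_mul_orderOf_of_coprime (by rw [Subgroup.orderOf_coe, Subgroup.orderOf_coe, ht, hx]; norm_num),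
    Subgroup.orderOf_coe, Subgroup.orderOf_coe, ht, hx]

/-- A group of order 24 without elements of order 6 is `S_4`. -/
theorem nonempty_mulEquiv_S4 (h : Nat.card G = 24) (h6 : ∀ g : G, orderOf g ≠ 6) :
    Nonempty (G ≃* Equiv.Perm (Fin 4)) := by
  haveI : Fact (Nat.Prime 3) := ⟨Nat.prime_three⟩
  haveI : Fact (Nat.Prime 2) := ⟨Nat.prime_two⟩
  have hG : Nat.card G = 3 ^ 1 * 8 := by rw [h]; norm_num
  have hm : ¬ 3 ∣ 8 := by norm_num
  have hc := sylow3_count_four h h6
  let P : Sylow 3 G := default
  have hP : Nat.card (P : Subgroup G) = 3 := by rw [sylow_card hG hm P, pow_one]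
  set N := Subgroup.normalizer ((P : Subgroup G) : Set G) with hN
  have hidx : N.index = 4 := by rw [hN, P.coe_coe, ← P.card_eq_index_normalizer, hc]
  have hNc : Nat.card N = 6 := by have := N.index_mul_card; rw [hidx, h] at this; omega
  have hK : N.normalCore = ⊥ := by
    by_contra hne
    set K := N.normalCore
    have hKN : K ≤ N := N.normalCore_le
    by_cases h3 : 3 ∣ Nat.card K
    · -- `K` would contain every Sylow 3-subgroup
      obtain ⟨x, hx⟩ := exists_prime_orderOf_dvd_card' (G := K) 3 h3
      have hxP : (x : G) ∈ (P : Subgroup G) := mem_sylow_of_orderOf P (hKN x.2) (k := 1)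
        (by rw [Subgroup.orderOf_coe, hx, pow_one])
      have hPK : (P : Subgroup G) ≤ K := by
        have e : Subgroup.zpowers (x : G) = P := Subgroup.eq_of_le_of_card_ge (Subgroup.zpowers_le.2 hxP)
          (by rw [hP, Nat.card_zpowers, Subgroup.orderOf_coe, hx])
        rw [← e, Subgroup.zpowers_le]
        exact x.2
      have hall : ∀ Q : Sylow 3 G, Q = P := by
        intro Q
        obtain ⟨g, rfl⟩ := MulAction.exists_smul_eq G P Q
        refine Sylow.ext (Subgroup.eq_of_le_of_card_ge ?_ (by rw [sylow_card hG hm P, sylow_card hG hm]))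
        intro y hy
        rw [Sylow.coe_subgroup_smul, Subgroup.mem_pointwise_smul_iff_inv_smul_mem, ← map_inv,
          MulAut.smul_def, MulAut.conj_apply, inv_inv] at hy
        have h1 := N.normalCore_normal.conj_mem _ (hPK hy) g
        rw [show g * (g⁻¹ * y * g) * g⁻¹ = y by group] at h1
        by_cases hy1 : g⁻¹ * y * g = 1
        · have : y = 1 := by
            calc y = g * (g⁻¹ * y * g) * g⁻¹ := by group
              _ = 1 := by rw [hy1]; group
          rw [this]; exact one_mem _
        · refine mem_sylow_of_orderOf P (hKN h1) (k := 1) ?_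
          rw [pow_one, ← orderOf_of_mem hP hy hy1]
          simpa using ((MulAut.conj g⁻¹).orderOf_eq y).symm
      have : Subsingleton (Sylow 3 G) := ⟨fun a b => (hall a).trans (hall b).symm⟩
      rw [Nat.card_of_subsingleton P] at hc
      omega
    · -- `|K| = 2`, central
      have h2 : Nat.card K = 2 := by
        have hd : Nat.card K ∣ 6 := hNc ▸ Subgroup.card_dvd_of_le hKN
        have h1 : Nat.card K ≠ 1 := fun e => hne (Subgroup.card_eq_one.1 e)
        have := Nat.le_of_dvd (by norm_num) hd
        interval_cases (Nat.card K) <;> omega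
      obtain ⟨t, ht1, hu⟩ := (Nat.card_eq_two_iff' (1 : K)).1 h2
      obtain ⟨x, hx⟩ := exists_prime_orderOf_dvd_card' (G := G) 3 (by rw [h]; norm_num)
      have hc' : x * t * x⁻¹ = (t : G) := by
        have hm' : x * t * x⁻¹ ∈ K := N.normalCore_normal.conj_mem t t.2 x
        refine congrArg Subtype.val (hu ⟨_, hm'⟩ (fun e => ht1 (Subtype.ext ?_)))
        have e' : x * t * x⁻¹ = 1 := congrArg Subtype.val e
        calc (t : G) = x⁻¹ * (x * t * x⁻¹) * x := by group
          _ = 1 := by rw [e']; group
      have ho : orderOf (t : G) = 2 := by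
        rw [Subgroup.orderOf_coe]
        exact orderOf_eq_prime (by rw [← h2]; exact pow_card_eq_one') ht1
      have hcomm : Commute (t : G) x := (mul_inv_eq_iff_eq_mul.1 hc').symm
      apply h6 ((t : G) * x)
      rw [hcomm.orderOf_mul_eq_mul_orderOf_of_coprime (by rw [ho, hx]; norm_num), ho, hx]
  have hinj : Function.Injective (MulAction.toPermHom G (G ⧸ N)) := by
    rw [← MonoidHom.ker_eq_bot_iff, ← Subgroup.normalCore_eq_ker, hK]
  haveI : Fintype (G ⧸ N) := Fintype.ofFinite _
  haveI : DecidableEq (G ⧸ N) := Classical.decEq _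
  let e : (G ⧸ N) ≃ Fin 4 := Finite.equivFinOfCardEq (by rw [← N.index_eq_card, hidx])
  let f : G →* Equiv.Perm (Fin 4) := e.permCongrHom.toMonoidHom.comp (MulAction.toPermHom G (G ⧸ N))
  refine ⟨MulEquiv.ofBijective f ?_⟩
  refine (Nat.bijective_iff_injective_and_card f).2 ⟨e.permCongrHom.injective.comp hinj, ?_⟩
  rw [h, Nat.card_perm, Nat.card_fin]
  rfl

end Cfsg.Agent.Lib.SylowCounting
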