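import Cfsg.Agent.Lib.SylowCounting.Counting
import Mathlib.GroupTheory.Perm.Centralizer
import Mathlib.GroupTheory.Perm.Cycle.Type

namespace Cfsg.Agent.Lib.SylowCounting

open Equiv Equiv.Perm Nat

theorem factorial_prime_part {p n : ℕ} (hp : p.Prime) (h1 : p ≤ n) (h2 : n < 2 * p) :
    ∃ m, n ! = p ^ 1 * m ∧ ¬ p ∣ m := by
  induction n, h1 using Nat.le_induction with
  | base =>
    refine ⟨(p - 1)!, by rw [pow_one, Nat.mul_factorial_pred hp.ne_zero], ?_⟩
    rw [hp.dvd_factorial]
    have := hp.pos
    omega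
  | succ n hn ih =>
    obtain ⟨m, e, hm⟩ := ih (by omega)
    refine ⟨(n + 1) * m, by rw [Nat.factorial_succ, e]; ring, ?_⟩
    intro h
    rcases (Nat.Prime.dvd_mul hp).1 h with h | h
    · obtain ⟨c, hc⟩ := h
      have hp0 := hp.pos
      rcases Nat.lt_or_ge c 2 with hc' | hc'
      · interval_cases c <;> omega
      · have : 2 * p ≤ p * c := by rw [mul_comm 2]; exact Nat.mul_le_mul_left p hc'
        omega
    · exact hm h

variable {α : Type*} [Fintype α] [DecidableEq α]

/-- For `p ≤ n < 2p` the Sylow `p`-subgroups of `S_n` have order `p`. -/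
theorem perm_sylow_card {p : ℕ} [Fact p.Prime] (h1 : p ≤ Fintype.card α) (h2 : Fintype.card α < 2 * p)
    (P : Sylow p (Perm α)) : Nat.card (P : Subgroup (Perm α)) = p := by
  obtain ⟨m, hm, hmd⟩ := factorial_prime_part Fact.out h1 h2
  have := sylow_card (G := Perm α) (k := 1) (m := m)
    (by rw [Nat.card_eq_fintype_card, Fintype.card_perm, hm]) hmd P
  rwa [pow_one] at this

theorem orderOf_eq_iff_cycleType {p : ℕ} [hp : Fact p.Prime] (h2 : Fintype.card α < 2 * p)
    (σ : Perm α) : orderOf σ = p ↔ σ.cycleType = {p} := by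
  constructor
  · intro h
    obtain ⟨k, hk⟩ := cycleType_prime_order (σ := σ) (h ▸ hp.out)
    have hs := σ.support.card_le_univ
    rw [← σ.sum_cycleType, hk, Multiset.sum_replicate, smul_eq_mul, h] at hs
    rcases Nat.eq_zero_or_pos k with rfl | hk0
    · rw [hk, h, zero_add, Multiset.replicate_one]
    · exfalso
      have : 2 * p ≤ (k + 1) * p := Nat.mul_le_mul_right p (by omega)
      omega
  · intro h
    rw [← σ.lcm_cycleType, h]
    simp

/-- The normaliser in `S_n` of a Sylow `p`-subgroup, `p ≤ n < 2p`. -/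
theorem card_normalizer_perm_sylow {p : ℕ} [hp : Fact p.Prime] (h1 : p ≤ Fintype.card α)
    (h2 : Fintype.card α < 2 * p) (P : Sylow p (Perm α)) :
    Nat.card (Subgroup.normalizer ((P : Subgroup (Perm α)) : Set (Perm α))) =
      p * (p - 1) * (Fintype.card α - p)! := by
  have e := card_orderOf_eq_prime (G := Perm α) (p := p) (perm_sylow_card h1 h2)
  rw [Nat.card_eq_fintype_card, Fintype.card_subtype,
    Finset.filter_congr (fun σ _ => orderOf_eq_iff_cycleType h2 σ),
    card_of_cycleType_singleton hp.out.two_le h1, P.card_eq_index_normalizer, ← P.coe_coe] at e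
  have hN := (Subgroup.normalizer ((P : Subgroup (Perm α)) : Set (Perm α))).index_mul_card
  rw [Nat.card_eq_fintype_card (α := Perm α), Fintype.card_perm,
    ← Nat.choose_mul_factorial_mul_factorial h1, ← Nat.mul_factorial_pred hp.out.ne_zero] at hN
  have hC : 0 < (p - 1)! * (Fintype.card α).choose p :=
    Nat.mul_pos (factorial_pos _) (choose_pos h1)
  apply Nat.eq_of_mul_eq_mul_left hC
  set i := (Subgroup.normalizer ((P : Subgroup (Perm α)) : Set (Perm α))).index
  set c := Nat.card (Subgroup.normalizer ((P : Subgroup (Perm α)) : Set (Perm α)))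
  calc (p - 1)! * (Fintype.card α).choose p * c = i * c * (p - 1) := by rw [e]; ring
    _ = _ := by rw [hN]; ring

/-- An odd-order Sylow subgroup of `S_n` lies in `A_n`, and half its normaliser does. -/
theorem two_mul_card_normalizer_inf_alternating [Nontrivial α] {p : ℕ} [hp : Fact p.Prime]
    (hodd : p ≠ 2) (P : Sylow p (Perm α)) :
    (P : Subgroup (Perm α)) ≤ alternatingGroup α ∧
    2 * Nat.card ↥(Subgroup.normalizer ((P : Subgroup (Perm α)) : Set (Perm α)) ⊓ alternatingGroup α) =
      Nat.card (Subgroup.normalizer ((P : Subgroup (Perm α)) : Set (Perm α))) := by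
  have hle : (P : Subgroup (Perm α)) ≤ alternatingGroup α := by
    intro x hx
    rw [mem_alternatingGroup]
    obtain ⟨k, hk⟩ := P.isPGroup'.exists_card_eq
    have h1 : orderOf x ∣ p ^ k := hk ▸ (P : Subgroup (Perm α)).orderOf_dvd_natCard hx
    obtain ⟨j, -, hj⟩ := (Nat.dvd_prime_pow hp.out).1 h1
    rcases Int.units_eq_one_or (Perm.sign x) with h | h
    · exact h
    · exfalso
      have e := congrArg Perm.sign (pow_orderOf_eq_one x)
      rw [map_pow, map_one, h, hj, Odd.neg_one_pow ((hp.out.odd_of_ne_two hodd).pow)] at e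
      exact absurd e (by decide)
  refine ⟨hle, ?_⟩
  let PA : Sylow p (alternatingGroup α) := P.subtype hle
  have htop := PA.normalizer_sup_eq_top
  have hPA : (PA : Subgroup (alternatingGroup α)).map (alternatingGroup α).subtype = P := by
    rw [Sylow.coe_subtype, Subgroup.subgroupOf_map_subtype, inf_eq_left.2 hle]
  rw [hPA] at htop
  set N := Subgroup.normalizer ((P : Subgroup (Perm α)) : Set (Perm α))
  have hrel : (alternatingGroup α).relIndex N = 2 := by
    rw [← alternatingGroup.index_eq_two (α := α), ← Subgroup.relIndex_sup_right]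
    rw [htop, Subgroup.relIndex_top_right]
  rw [← hrel, inf_comm, ← Subgroup.inf_relIndex_right, ← Subgroup.relIndex_bot_left, ← Subgroup.relIndex_bot_left, mul_comm,
    Subgroup.relIndex_mul_relIndex _ _ _ bot_le inf_le_right]

variable {G : Type*} [Group G] [Finite G] [IsSimpleGroup G]

/-- If `|P| = p` and `p ≤ n_p < 2p` then `2 |N(P)|` divides `p (p-1) (n_p - p)!`. -/
theorem two_card_normalizer_dvd (hG : ¬ IsMulCommutative G) {p : ℕ} [hp : Fact p.Prime] (hodd : p ≠ 2)
    (P : Sylow p G) (hP : Nat.card (P : Subgroup G) = p) (h1 : p ≤ Nat.card (Sylow p G))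
    (h2 : Nat.card (Sylow p G) < 2 * p) :
    2 * Nat.card (Subgroup.normalizer ((P : Subgroup G) : Set G)) ∣
      p * (p - 1) * (Nat.card (Sylow p G) - p)! := by
  set N := Subgroup.normalizer ((P : Subgroup G) : Set G) with hN
  have hidx : N.index = Nat.card (Sylow p G) := by rw [P.card_eq_index_normalizer, hN, P.coe_coe]
  have hNt : N ≠ ⊤ := fun h => by
    rw [h, Subgroup.index_top] at hidx
    have := hp.out.two_le
    omega
  rw [← hidx] at h1 h2 ⊢
  obtain ⟨f, hf⟩ := exists_embedding_alternating hG N hNt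
  let ψ : G →* Perm (Fin N.index) := (alternatingGroup _).subtype.comp f
  have hψ : Function.Injective ψ := Subtype.val_injective.comp hf
  haveI : Nontrivial (Fin N.index) := Fin.nontrivial_iff_two_le.2 (hp.out.two_le.trans h1)
  obtain ⟨Q, hQ⟩ := (P.isPGroup'.map ψ).exists_le_sylow
  have hQc : Nat.card (Q : Subgroup (Perm (Fin N.index))) = p :=
    perm_sylow_card (by rw [Fintype.card_fin]; exact h1) (by rw [Fintype.card_fin]; exact h2) Q
  have hQe : (P : Subgroup G).map ψ = Q := by
    refine Subgroup.eq_of_le_of_card_ge hQ ?_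
    rw [hQc, Subgroup.card_map_of_injective hψ, hP]
  have hle : N.map ψ ≤ Subgroup.normalizer ((Q : Subgroup (Perm (Fin N.index))) : Set _) ⊓
      alternatingGroup (Fin N.index) := by
    refine le_inf ?_ ?_
    · rw [← hQe]
      exact Subgroup.le_normalizer_map ψ
    · rintro _ ⟨x, -, rfl⟩
      exact (f x).2
  have h3 := Subgroup.card_dvd_of_le hle
  rw [Subgroup.card_map_of_injective hψ] at h3
  have h4 := card_normalizer_perm_sylow (α := Fin N.index) (by rw [Fintype.card_fin]; exact h1)
    (by rw [Fintype.card_fin]; exact h2) Q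
  rw [Fintype.card_fin, ← (two_mul_card_normalizer_inf_alternating hodd Q).2] at h4
  rw [← h4]
  exact Nat.mul_dvd_mul_left 2 h3

end Cfsg.Agent.Lib.SylowCounting
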