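import Cfsg.Agent.Lib.SylowCounting.DegreeEquation
import Cfsg.Agent.Lib.SylowCounting.Intersection
import Cfsg.Agent.Lib.SylowCounting.Tools
import Cfsg.Agent.Lib.SylowCounting.PermNormalizer
import Mathlib.Tactic

/-!
# Excluding orders with the degree equation
-/

namespace Cfsg.Agent.Lib.SylowCounting

universe u

variable {G : Type u} [Group G] [Finite G]

/-- The degrees `d`, `f` contradict one of the conditions of `degree_equation`. -/
abbrev DegreeRuledOut (n p h d f : ℕ) : Prop :=
  ¬ f ∣ n ∨ n < 1 + d ^ 2 + (p - 1) / 2 * f ^ 2 ∨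
    Nat.sqrt (n * p * h * d * f) * Nat.sqrt (n * p * h * d * f) ≠ n * p * h * d * f ∨
    (2 ∣ h ∧ d ≤ 2 * p)

/-- A simple group with a Sylow `p`-subgroup of order `p` whose automizer can only have order `2`
has consecutive degrees congruent to `± 1` and dividing the order. -/
theorem degree_kill [IsSimpleGroup G] (hG : ¬ IsMulCommutative G) {p m r N B : ℕ} [Fact p.Prime]
    (hp7 : 7 ≤ p) (hcard : Nat.card G = p ^ 1 * m) (hm : ¬ p ∣ m)
    (hr : Nat.card (Sylow p G) = r) (hrN : r * (p * N) = Nat.card G)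
    (hgcd : Nat.gcd N (p - 1) = 2)
    (hB : Nat.card G < B * B)
    (hnone : ∀ d ∈ Finset.range B, 1 < d ∧ d ∣ Nat.card G →
      (d % p = 1 → DegreeRuledOut (Nat.card G) p (N / 2) d (d + 1)) ∧
      (d % p = p - 1 → DegreeRuledOut (Nat.card G) p (N / 2) d (d - 1))) : False := by
  have hp := Fact.out (p := p.Prime)
  let P : Sylow p G := default
  have hP : Nat.card (P : Subgroup G) = p := by rw [sylow_card hcard hm P, pow_one]
  have hr0 : 0 < r := hr ▸ Nat.card_pos
  have hN : Nat.card (Subgroup.normalizer ((P : Subgroup G) : Set G)) = p * N := by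
    have h1 := (Subgroup.normalizer ((P : Subgroup G) : Set G)).index_mul_card
    have h2 : (Subgroup.normalizer ((P : Subgroup G) : Set G)).index = r := by
      rw [← hr, Sylow.card_eq_index_normalizer P]; rfl
    rw [h2, ← hrN] at h1
    exact Nat.eq_of_mul_eq_mul_left hr0 h1
  obtain ⟨e, c, hec, he1, hed, hpc, hc⟩ := normalizer_card_eq hG P hP
  obtain ⟨h, rfl⟩ := hpc
  have heN : N = e * h := Nat.eq_of_mul_eq_mul_left hp.pos (by rw [← hN, hec]; ring)
  have he : e = 2 := by
    have hd2 : e ∣ 2 := hgcd ▸ Nat.dvd_gcd (heN ▸ Dvd.intro h rfl) hed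
    have := Nat.le_of_dvd two_pos hd2
    omega
  subst he
  have hph : ¬ p ∣ h := by
    intro hd
    apply hm
    have h1 : p ^ 1 * m = p * (r * (2 * h)) := by rw [← hcard, ← hrN, heN]; ring
    rw [pow_one] at h1
    rw [Nat.eq_of_mul_eq_mul_left hp.pos h1]
    exact Dvd.dvd.mul_left (Dvd.dvd.mul_left hd 2) r
  obtain ⟨d, f, hd1, hf1, hdd, hfd, hcong, hsum, hsq, hev⟩ :=
    degree_equation hG hp hp7 (P : Subgroup G) hP hph hc.symm hec
  have hdB : d < B := by
    by_contra hdB
    have h1 : B * B ≤ d * d := Nat.mul_le_mul (not_lt.1 hdB) (not_lt.1 hdB)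
    rw [pow_two d] at hsum
    omega
  have hN2 : N / 2 = h := by omega
  rw [← hN2] at hsq hev
  obtain ⟨hA, hC⟩ := hnone d (Finset.mem_range.2 hdB) ⟨hd1, hdd⟩
  rcases hcong with ⟨rfl, hdiv⟩ | ⟨rfl, hdiv⟩
  · have h1 : d % p = 1 := by
      have h2 : ((d : ℤ) % p) = 1 := by
        rw [Int.emod_eq_emod_iff_emod_sub_eq_zero.2 (Int.emod_eq_zero_of_dvd hdiv)]
        exact Int.emod_eq_of_lt (by norm_num) (by exact_mod_cast hp.one_lt)
      exact_mod_cast h2
    rcases hA h1 with h' | h' | h' | ⟨h', h''⟩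
    · exact h' hfd
    · omega
    · exact h' (Nat.exists_mul_self _ |>.1 (hsq.imp fun r hr => hr.symm))
    · exact absurd (hev h') (by omega)
  · have h1 : (f + 1) % p = p - 1 := by
      have h2 : (((f + 1 : ℕ) : ℤ) + 1) % p = 0 := Int.emod_eq_zero_of_dvd hdiv
      have h3 : (f + 1 + 1) % p = 0 := by exact_mod_cast h2
      obtain ⟨t, ht⟩ := Nat.dvd_of_mod_eq_zero h3
      have ht0 : t ≠ 0 := by rintro rfl; simp at ht
      obtain ⟨t', rfl⟩ := Nat.exists_eq_succ_of_ne_zero ht0
      have : f + 1 = (p - 1) + p * t' := by rw [Nat.mul_succ] at ht; omega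
      rw [this, Nat.add_mul_mod_self_left, Nat.mod_eq_of_lt (by omega)]
    rcases hC h1 with h' | h' | h' | ⟨h', h''⟩
    · exact h' (by simpa using hfd)
    · simp only [Nat.add_sub_cancel] at h'; omega
    · simp only [Nat.add_sub_cancel] at h'
      exact h' (Nat.exists_mul_self _ |>.1 (hsq.imp fun r hr => hr.symm))
    · exact absurd (hev h') (by omega)

/-- Ways of excluding `r` Sylow subgroups of prime order `p` in a simple group of order `n`:
the embedding in a symmetric group, Burnside transfer, the normalizer in a small alternating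
group, or the degree equation. -/
abbrev SylowExcluded (n p B r : ℕ) : Prop :=
  (r < 20 ∧ ¬ 2 * n ∣ r.factorial) ∨ Nat.gcd (n / r / p) (p - 1) = 1 ∨
  (p ≤ r ∧ r < 2 * p ∧ r - p < 20 ∧ ¬ 2 * (n / r) ∣ p * (p - 1) * (r - p).factorial) ∨
  (7 ≤ p ∧ Nat.gcd (n / r / p) (p - 1) = 2 ∧ n < B * B ∧
    ∀ d ∈ Finset.range B, 1 < d ∧ d ∣ n →
      (d % p = 1 → DegreeRuledOut n p (n / r / p / 2) d (d + 1)) ∧
      (d % p = p - 1 → DegreeRuledOut n p (n / r / p / 2) d (d - 1)))

/-- The Sylow number for `p ∥ n` lies among those that are not excluded. -/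
theorem sylow_count_mem_of_excluded [IsSimpleGroup G] (n p m B : ℕ) (hp : p.Prime)
    (hn : n = p ^ 1 * m) (hm : ¬ p ∣ m) (hm1 : m ≠ 1) (hp2 : p ≠ 2) (hcard : Nat.card G = n)
    (T : Finset ℕ) (hall : ∀ r ∈ candidates p m, r ∈ T ∨ SylowExcluded n p B r) :
    Nat.card (Sylow p G) ∈ T := by
  by_contra hT
  have hp' := Fact.mk hp
  have hnp : ¬ (Nat.card G).Prime := by
    rw [hcard, hn, pow_one]
    exact Nat.not_prime_mul hp.ne_one hm1
  have hG : ¬ IsMulCommutative G := not_comm_of_not_prime hnp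
  have hc : Nat.card G = p ^ 1 * m := hcard.trans hn
  have hmem := sylow_count_candidates hc hm one_ne_zero hm1
  have hr1 := sylow_count_ne_one hc hm one_ne_zero hm1
  set r := Nat.card (Sylow p G) with hr
  let P : Sylow p G := default
  have hP : Nat.card (P : Subgroup G) = p := by rw [sylow_card hc hm P, pow_one]
  have hr0 : 0 < r := Nat.card_pos
  have hNcard : Nat.card (Subgroup.normalizer ((P : Subgroup G) : Set G)) = n / r := by
    have h1 := (Subgroup.normalizer ((P : Subgroup G) : Set G)).index_mul_card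
    have h2 : (Subgroup.normalizer ((P : Subgroup G) : Set G)).index = r := by
      rw [hr, Sylow.card_eq_index_normalizer P]; rfl
    rw [h2, hcard] at h1
    rw [← h1, Nat.mul_div_cancel_left _ hr0]
  have hpN : p ∣ n / r := by
    rw [← hNcard]
    calc p = Nat.card (P : Subgroup G) := hP.symm
      _ ∣ _ := Subgroup.card_dvd_of_le Subgroup.le_normalizer
  rcases (hall r hmem).resolve_left hT with ⟨-, h⟩ | h | ⟨h1, h2, -, h⟩ | ⟨h7, hgcd, hB, hnone⟩
  · exact h (hcard ▸ two_card_dvd_sylow_factorial hG hr1)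
  · obtain ⟨e, c, hec, he1, hed, hpc, -⟩ := normalizer_card_eq hG P hP
    obtain ⟨k, rfl⟩ := hpc
    rw [hNcard] at hec
    have he : e ∣ n / r / p := by
      rw [hec, mul_comm p k, ← mul_assoc, Nat.mul_div_cancel _ hp.pos]
      exact Dvd.intro k rfl
    have := Nat.le_of_dvd (by omega) (h ▸ Nat.dvd_gcd he hed)
    omega
  · exact h (hNcard ▸ two_card_normalizer_dvd hG hp2 P hP h1 h2)
  · refine degree_kill hG h7 hc hm hr.symm (N := n / r / p) (B := B) ?_ hgcd
      (by rw [hcard]; exact hB) (by rw [hcard]; exact hnone)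
    have hdvd : r ∣ n := by
      rw [hn]
      exact (sylow_count_dvd hc hm).trans (dvd_mul_left m _)
    rw [hcard, Nat.mul_div_cancel' hpN, Nat.mul_div_cancel' hdvd]

/-- No simple group of order `n` when every Sylow number for the prime `p ∥ n` is excluded. -/
theorem not_simple_of_excluded [IsSimpleGroup G] (n p m B : ℕ) (hp : p.Prime) (hn : n = p ^ 1 * m)
    (hm : ¬ p ∣ m) (hm1 : m ≠ 1) (hp2 : p ≠ 2)
    (hall : ∀ r ∈ candidates p m, SylowExcluded n p B r) : Nat.card G ≠ n := fun hcard =>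
  Finset.notMem_empty _ (sylow_count_mem_of_excluded n p m B hp hn hm hm1 hp2 hcard ∅
    fun r hr => Or.inr (hall r hr))

end Cfsg.Agent.Lib.SylowCounting
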