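import Cfsg.Agent.Lib.SylowCounting.PermNormalizer
import Cfsg.Agent.Lib.SylowCounting.DegreeKill
import Mathlib.Tactic

/-!
# Subgroups of small index and Sylow normalizers
-/

namespace Cfsg.Agent.Lib.SylowCounting

open Equiv

open scoped Nat

variable {G : Type*} [Group G] [Finite G] [IsSimpleGroup G]

/-- A Sylow normalizer seen in the action on the cosets of a subgroup of index below `2 p`. -/
theorem two_card_normalizer_dvd_index (hG : ¬ IsMulCommutative G) {p : ℕ} [hp : Fact p.Prime]
    (hodd : p ≠ 2) (P : Sylow p G) (hP : Nat.card (P : Subgroup G) = p) (K : Subgroup G)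
    (hK : K ≠ ⊤) (h1 : p ≤ K.index) (h2 : K.index < 2 * p) :
    2 * Nat.card (Subgroup.normalizer ((P : Subgroup G) : Set G)) ∣
      p * (p - 1) * (K.index - p)! := by
  set N := Subgroup.normalizer ((P : Subgroup G) : Set G) with hN
  obtain ⟨f, hf⟩ := exists_embedding_alternating hG K hK
  let ψ : G →* Perm (Fin K.index) := (alternatingGroup _).subtype.comp f
  have hψ : Function.Injective ψ := Subtype.val_injective.comp hf
  haveI : Nontrivial (Fin K.index) := Fin.nontrivial_iff_two_le.2 (hp.out.two_le.trans h1)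
  obtain ⟨Q, hQ⟩ := (P.isPGroup'.map ψ).exists_le_sylow
  have hQc : Nat.card (Q : Subgroup (Perm (Fin K.index))) = p :=
    perm_sylow_card (by rw [Fintype.card_fin]; exact h1) (by rw [Fintype.card_fin]; exact h2) Q
  have hQe : (P : Subgroup G).map ψ = Q := by
    refine Subgroup.eq_of_le_of_card_ge hQ ?_
    rw [hQc, Subgroup.card_map_of_injective hψ, hP]
  have hle : N.map ψ ≤ Subgroup.normalizer ((Q : Subgroup (Perm (Fin K.index))) : Set _) ⊓
      alternatingGroup (Fin K.index) := by
    refine le_inf ?_ ?_
    · rw [← hQe]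
      exact Subgroup.le_normalizer_map ψ
    · rintro _ ⟨x, -, rfl⟩
      exact (f x).2
  have h3 := Subgroup.card_dvd_of_le hle
  rw [Subgroup.card_map_of_injective hψ] at h3
  have h4 := card_normalizer_perm_sylow (α := Fin K.index) (by rw [Fintype.card_fin]; exact h1)
    (by rw [Fintype.card_fin]; exact h2) Q
  rw [Fintype.card_fin, ← (two_mul_card_normalizer_inf_alternating hodd Q).2] at h4
  rw [← h4]
  exact Nat.mul_dvd_mul_left 2 h3


end Cfsg.Agent.Lib.SylowCounting
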