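import Cfsg.Agent.Lib.SylowCounting.Intersection
import Cfsg.Agent.Lib.SylowCounting.IndexNormalizer
import Cfsg.Agent.Lib.Classical.SLTwo
import Cfsg.Agent.S1230

/-!
Recognition of `PSL(2, q)`, `q` even, from few elements of 2-power order; counting tools.
-/

set_option autoImplicit false
set_option linter.style.haveILetI false

namespace Cfsg.Agent.Lib.SylowCounting

variable {G : Type*} [Group G] [Finite G] [IsSimpleGroup G]

/-- If involution centralizers are 2-groups and the nontrivial 2-elements are at most as many as one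
class of a central involution, then the group is `PSL(2, q)`. -/
theorem iso_psl_even (hG : ¬ IsMulCommutative G) {q : ℕ} {k : ℕ} (hq : q = 2 ^ k) (hk : 2 ≤ k)
    (hf : (Nat.card G).factorization 2 = k)
    (hodd : ∀ (r : ℕ) (z : G), r.Prime → r ≠ 2 → orderOf z = r → Odd (Nat.card (Subgroup.centralizer ({z} : Set G))))
    (hcount : Nat.card {g : G // g ≠ 1 ∧ ∃ j, g ^ 2 ^ j = 1} ≤ Nat.card G / q)
    {F : Type*} [Field F] [Fintype F] (hF : Fintype.card F = q) :
    Nonempty (G ≃* Matrix.ProjectiveSpecialLinearGroup (Fin 2) F) := by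
  classical
  haveI : Fact (Nat.Prime 2) := ⟨Nat.prime_two⟩
  obtain ⟨T⟩ : Nonempty (Sylow 2 G) := inferInstance
  have hT : Nat.card (T : Subgroup G) = q := by rw [Sylow.card_eq_multiplicity, hf, hq]
  -- centralizers of involutions are 2-groups
  have h2grp : ∀ t : G, orderOf t = 2 → IsPGroup 2 (Subgroup.centralizer ({t} : Set G)) := by
    intro t ht
    refine IsPGroup.of_card (n := (Nat.card (Subgroup.centralizer ({t} : Set G))).primeFactorsList.length) ?_
    refine Nat.eq_prime_pow_of_unique_prime_dvd Nat.card_pos.ne' fun {r} hr hrd => ?_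
    by_contra hne
    haveI := Fact.mk hr
    obtain ⟨z, hz⟩ := exists_prime_orderOf_dvd_card' (G := Subgroup.centralizer ({t} : Set G)) r hrd
    have hzo : orderOf (z : G) = r := by rw [Subgroup.orderOf_coe, hz]
    have htz : t ∈ Subgroup.centralizer ({(z : G)} : Set G) := by
      rw [Subgroup.mem_centralizer_singleton_iff]
      exact (Subgroup.mem_centralizer_singleton_iff.1 z.2).symm
    have h2 : 2 ∣ Nat.card (Subgroup.centralizer ({(z : G)} : Set G)) :=
      ht ▸ Subgroup.orderOf_dvd_natCard _ htz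
    have h1 := Nat.odd_iff.1 (hodd r z hr hne hzo)
    omega
  -- a central involution
  have hTne : Nontrivial (T : Subgroup G) := by
    refine Finite.one_lt_card_iff_nontrivial.1 ?_
    rw [hT, hq]
    exact Nat.one_lt_two_pow (by omega)
  haveI : Nontrivial (Subgroup.center (T : Subgroup G)) := T.isPGroup'.center_nontrivial
  obtain ⟨c, hc⟩ := exists_prime_orderOf_dvd_card' (G := Subgroup.center (T : Subgroup G)) 2 (by
    obtain ⟨m, hm⟩ := (T.isPGroup'.to_subgroup (Subgroup.center (T : Subgroup G))).exists_card_eq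
    rcases m with _ | m
    · have := Finite.one_lt_card (α := Subgroup.center (T : Subgroup G))
      rw [hm, pow_zero] at this
      omega
    · exact hm ▸ dvd_pow_self 2 (by omega))
  set t : G := ((c : (T : Subgroup G)) : G) with ht
  have hto : orderOf t = 2 := by rw [ht, Subgroup.orderOf_coe, Subgroup.orderOf_coe, hc]
  set C := Subgroup.centralizer ({t} : Set G) with hC
  have hTC : (T : Subgroup G) ≤ C := by
    intro x hx
    rw [hC, Subgroup.mem_centralizer_singleton_iff]
    exact congrArg Subtype.val (Subgroup.mem_center_iff.1 c.2 ⟨x, hx⟩ :)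
  have hCT : C = (T : Subgroup G) := T.is_maximal' (h2grp t hto) hTC
  have hidx : C.index = Nat.card G / q := by
    rw [← C.card_mul_index, hCT, hT, Nat.mul_div_cancel_left _ (by rw [← hT]; exact Nat.card_pos)]
  -- every nontrivial 2-element is conjugate to the involution
  have hconj : ∀ g : G, g ≠ 1 → (∃ j, g ^ 2 ^ j = 1) → ∃ x : G, x * t * x⁻¹ = g := by
    let f : G ⧸ C → {g : G // g ≠ 1 ∧ ∃ j, g ^ 2 ^ j = 1} := fun x =>
      ⟨x.out * t * x.out⁻¹, fun h => by
        have : t = 1 := by simpa using h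
        rw [this, orderOf_one] at hto
        omega, 1, by rw [pow_one, conj_pow, ← hto, pow_orderOf_eq_one, mul_one, mul_inv_cancel]⟩
    have hinj : Function.Injective f := by
      intro x y h
      have h' : x.out * t * x.out⁻¹ = y.out * t * y.out⁻¹ := congrArg Subtype.val h
      refine (QuotientGroup.out_eq' x).symm.trans ((QuotientGroup.eq.2 ?_).trans (QuotientGroup.out_eq' y))
      apply Subgroup.mem_centralizer_singleton_iff.2
      calc x.out⁻¹ * y.out * t = x.out⁻¹ * (y.out * t * y.out⁻¹) * y.out := by group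
        _ = x.out⁻¹ * (x.out * t * x.out⁻¹) * y.out := by rw [h']
        _ = t * (x.out⁻¹ * y.out) := by group
    have hbij : Function.Bijective f := by
      refine (Nat.bijective_iff_injective_and_card f).2 ⟨hinj, ?_⟩
      have := Nat.card_le_card_of_injective f hinj
      rw [← Subgroup.index_eq_card, hidx] at this ⊢
      omega
    intro g hg hj
    obtain ⟨x, hx⟩ := hbij.2 ⟨g, hg, hj⟩
    exact ⟨x.out, congrArg Subtype.val hx⟩
  -- exponent two
  have hexp : ∀ (S : Subgroup G), IsPGroup 2 S → ∀ g ∈ S, g ^ 2 = 1 := by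
    intro S hS g hg
    by_cases hg1 : g = 1
    · rw [hg1, one_pow]
    obtain ⟨j, hj⟩ := hS ⟨g, hg⟩
    obtain ⟨x, rfl⟩ := hconj g hg1 ⟨j, congrArg Subtype.val hj⟩
    rw [conj_pow, ← hto, pow_orderOf_eq_one, mul_one, mul_inv_cancel]
  have hcomm : ∀ (S : Subgroup G), IsPGroup 2 S → IsMulCommutative S := by
    intro S hS
    refine ⟨⟨fun a b => ?_⟩⟩
    have inv_self : ∀ d : S, d⁻¹ = d := fun d => inv_eq_of_mul_eq_one_right (Subtype.ext (by
      rw [Subgroup.coe_mul, ← sq, hexp S hS d d.2, Subgroup.coe_one]))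
    calc a * b = (a * b)⁻¹ := (inv_self _).symm
      _ = b * a := by rw [mul_inv_rev, inv_self, inv_self]
  have hnc : ¬ IsCyclic (T : Subgroup G) := by
    intro hcyc
    obtain ⟨g, hg⟩ := hcyc.exists_generator
    have h1 := orderOf_eq_card_of_forall_mem_zpowers hg
    rw [hT, hq] at h1
    have h2 : orderOf g ∣ 2 := orderOf_dvd_of_pow_eq_one (Subtype.ext (hexp _ T.isPGroup' g g.2))
    rw [h1] at h2
    have := Nat.le_of_dvd (by norm_num) h2
    have : 2 ^ 2 ≤ 2 ^ k := Nat.pow_le_pow_right (by norm_num) hk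
    omega
  have hnn : ¬ (T : Subgroup G).Normal := by
    intro hn
    rcases IsSimpleGroup.eq_bot_or_eq_top_of_normal _ hn with h | h
    · rw [h, Subgroup.card_bot] at hT
      have := Nat.one_lt_two_pow (n := k) (by omega)
      omega
    · apply hG
      refine ⟨⟨fun a b => ?_⟩⟩
      haveI := hcomm _ T.isPGroup'
      exact congrArg Subtype.val (mul_comm' (⟨a, h ▸ Subgroup.mem_top a⟩ : (T : Subgroup G)) ⟨b, h ▸ Subgroup.mem_top b⟩)
  obtain ⟨K, _, _, hK, ⟨e⟩⟩ := Cfsg.Agent.S1230.result T hnc hnn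
    fun s hs => ⟨hcomm _ (h2grp s hs), hexp _ (h2grp s hs)⟩
  exact ⟨e.trans (Cfsg.Agent.Lib.Classical.pslCongrOfCardEq (by rw [hK, hT, hF]))⟩

omit [IsSimpleGroup G] in
/-- Lower bound for elements with a given prime in the order, from commuting pairs. -/
theorem count_lower {p : ℕ} [hp : Fact p.Prime] (P : Sylow p G) (hP : Nat.card (P : Subgroup G) = p)
    (M : Set G) (m : ℕ) (hm : p.Coprime m) (hM : ∀ h ∈ M, h ^ m = 1 ∧ ∀ y ∈ (P : Subgroup G), y * h = h * y) :
    Nat.card (Sylow p G) * (p - 1) * Nat.card M ≤ Nat.card {g : G // p ∣ orderOf g ∧ orderOf g ∣ p * m} := by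
  classical
  haveI : Fintype (Sylow p G) := Fintype.ofFinite _
  haveI : Fintype (P : Subgroup G) := Fintype.ofFinite _
  choose c hc using fun Q : Sylow p G => MulAction.exists_smul_eq G P Q
  let f : (Sylow p G × {y : (P : Subgroup G) // y ≠ 1}) × M → {g : G // p ∣ orderOf g ∧ orderOf g ∣ p * m} := fun z =>
    ⟨c z.1.1 * (((z.1.2 : (P : Subgroup G)) : G) * (z.2 : G)) * (c z.1.1)⁻¹, by
      obtain ⟨hh1, hh2⟩ := hM z.2 z.2.2
      have ho : orderOf ((z.1.2 : (P : Subgroup G)) : G) = p :=
        orderOf_of_mem hP z.1.2.1.2 fun e => z.1.2.2 (Subtype.ext e)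
      have hd : orderOf (z.2 : G) ∣ m := orderOf_dvd_of_pow_eq_one hh1
      have hcop : Nat.Coprime (orderOf ((z.1.2 : (P : Subgroup G)) : G)) (orderOf (z.2 : G)) :=
        by rw [ho]; exact Nat.Coprime.coprime_dvd_right hd hm
      have hmul := Commute.orderOf_mul_eq_mul_orderOf_of_coprime (hh2 _ z.1.2.1.2) hcop
      rw [← MulAut.conj_apply, (MulAut.conj _).orderOf_eq, hmul, ho]
      exact ⟨dvd_mul_right _ _, Nat.mul_dvd_mul_left p hd⟩⟩
  have hinj : Function.Injective f := by
    rintro ⟨⟨Q, y⟩, h⟩ ⟨⟨Q', y'⟩, h'⟩ e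
    have e' : c Q * (((y : (P : Subgroup G)) : G) * (h : G)) * (c Q)⁻¹ =
      c Q' * (((y' : (P : Subgroup G)) : G) * (h' : G)) * (c Q')⁻¹ := congrArg Subtype.val e
    have em := congrArg (· ^ m) e'
    simp only [conj_pow] at em
    rw [Commute.mul_pow ((hM h h.2).2 _ y.1.2), Commute.mul_pow ((hM h' h'.2).2 _ y'.1.2), (hM h h.2).1,
      (hM h' h'.2).1, mul_one, mul_one] at em
    have hmem : ∀ (R : Sylow p G) (u : {y : (P : Subgroup G) // y ≠ 1}),
        c R * ((u : (P : Subgroup G)) : G) ^ m * (c R)⁻¹ ∈ (R : Subgroup G) ∧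
          c R * ((u : (P : Subgroup G)) : G) ^ m * (c R)⁻¹ ≠ 1 := by
      intro R u
      have hu : ((u : (P : Subgroup G)) : G) ≠ 1 := fun e => u.2 (Subtype.ext e)
      refine ⟨?_, fun e1 => ?_⟩
      · have : c R * ((u : (P : Subgroup G)) : G) ^ m * (c R)⁻¹ ∈ ((c R • P : Sylow p G) : Subgroup G) := by
          rw [Sylow.coe_subgroup_smul]
          exact ⟨_, Subgroup.pow_mem _ u.1.2 m, rfl⟩
        rwa [hc R] at this
      · rw [mul_inv_eq_one, mul_eq_left] at e1
        have := Nat.dvd_gcd (orderOf_dvd_of_pow_eq_one e1) (dvd_refl (orderOf ((u : (P : Subgroup G)) : G)))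
        rw [orderOf_of_mem hP u.1.2 hu, Nat.gcd_comm, Nat.coprime_iff_gcd_eq_one.1 hm] at this
        exact hp.out.one_lt.ne' (Nat.dvd_one.1 this)
    have hQ : Q = Q' := by
      obtain ⟨m1, n1⟩ := hmem Q y
      obtain ⟨m2, n2⟩ := hmem Q' y'
      rw [← em] at m2 n2
      have hc' : ∀ R : Sylow p G, Nat.card (R : Subgroup G) = p := fun R => by
        rw [Sylow.card_eq_multiplicity, ← Sylow.card_eq_multiplicity P, hP]
      have gen : ∀ R : Sylow p G, c Q * ((y : (P : Subgroup G)) : G) ^ m * (c Q)⁻¹ ∈ (R : Subgroup G) →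
          Subgroup.zpowers (c Q * ((y : (P : Subgroup G)) : G) ^ m * (c Q)⁻¹) = (R : Subgroup G) := fun R hR =>
        Subgroup.eq_of_le_of_card_ge (Subgroup.zpowers_le.2 hR)
          (by rw [Nat.card_zpowers, orderOf_of_mem (hc' R) hR n1, hc'])
      exact Sylow.ext ((gen Q m1).symm.trans (gen Q' m2))
    subst hQ
    rw [mul_left_inj, mul_right_inj] at em e'
    have hy : ((y : (P : Subgroup G)) : G) = ((y' : (P : Subgroup G)) : G) := by
      have hcy : Nat.Coprime (Nat.card (P : Subgroup G)) m := by rw [hP]; exact hm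
      exact congrArg Subtype.val ((powCoprime hcy).injective (Subtype.ext em : (y : (P : Subgroup G)) ^ m = (y' : (P : Subgroup G)) ^ m))
    have hy' : y = y' := Subtype.ext (Subtype.ext hy)
    subst hy'
    rw [mul_right_inj] at e'
    exact Prod.ext rfl (Subtype.ext e')
  have := Nat.card_le_card_of_injective f hinj
  rwa [Nat.card_prod, Nat.card_prod, show Nat.card {y : (P : Subgroup G) // y ≠ 1} = p - 1 by
    rw [Nat.card_eq_fintype_card, Fintype.card_subtype_compl, Fintype.card_subtype_eq, ← Nat.card_eq_fintype_card,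
      hP]] at this

omit [IsSimpleGroup G] in
/-- Centralizers of subgroups generated by conjugate elements of prime order have the same order. -/
theorem card_centralizer_prime {p : ℕ} [hp : Fact p.Prime] (P : Sylow p G) (hP : Nat.card (P : Subgroup G) = p)
    {z : G} (hz : orderOf z = p) :
    Nat.card (Subgroup.centralizer ({z} : Set G)) = Nat.card (Subgroup.centralizer ((P : Subgroup G) : Set G)) := by
  have hzc : Nat.card (Subgroup.zpowers z) = p ^ (Nat.card G).factorization p := by
    rw [Nat.card_zpowers, hz, ← Sylow.card_eq_multiplicity P, hP]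
  obtain ⟨g, hg⟩ := MulAction.exists_smul_eq G (Sylow.ofCard _ hzc) P
  have hPz : (P : Subgroup G) = (Subgroup.zpowers z).map (MulAut.conj g).toMonoidHom := by
    rw [← hg, Sylow.coe_subgroup_smul]
    rfl
  have hmap : (Subgroup.centralizer ({z} : Set G)).map (MulAut.conj g).toMonoidHom =
      Subgroup.centralizer ((P : Subgroup G) : Set G) := by
    ext x
    constructor
    · rintro ⟨a, ha, rfl⟩ u hu
      rw [hPz] at hu
      obtain ⟨w, ⟨k, rfl⟩, rfl⟩ := hu
      have := (Commute.zpow_left (Subgroup.mem_centralizer_singleton_iff.1 ha).symm k).eq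
      simp only [MulEquiv.coe_toMonoidHom, ← map_mul, this]
    · intro hx
      refine ⟨(MulAut.conj g).symm x, ?_, MulEquiv.apply_symm_apply _ _⟩
      rw [SetLike.mem_coe, Subgroup.mem_centralizer_singleton_iff]
      apply (MulAut.conj g).injective
      rw [map_mul, map_mul, MulEquiv.apply_symm_apply]
      exact (hx _ (by rw [hPz]; exact ⟨z, Subgroup.mem_zpowers z, rfl⟩)).symm
  rw [← hmap, Subgroup.card_map_of_injective (MulAut.conj g).injective]

/-- `|G| = n_p |N(P)|` with the normalizer data. -/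
theorem sylow_data (hG : ¬ IsMulCommutative G) {p : ℕ} [hp : Fact p.Prime] (P : Sylow p G)
    (hP : Nat.card (P : Subgroup G) = p) :
    ∃ e, Nat.card G = Nat.card (Sylow p G) * (e * Nat.card (Subgroup.centralizer ((P : Subgroup G) : Set G))) ∧
      1 < e ∧ e ∣ p - 1 ∧ p ∣ Nat.card (Subgroup.centralizer ((P : Subgroup G) : Set G)) := by
  obtain ⟨e, c, hN, he, hed, hpc, rfl⟩ := normalizer_card_eq hG P hP
  refine ⟨e, ?_, he, hed, hpc⟩
  rw [← hN, P.card_eq_index_normalizer, P.coe_coe, mul_comm, Subgroup.card_mul_index]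

omit [IsSimpleGroup G] in
/-- If `r` divides `|C(P)|` then `p` divides `|C(R)|`. -/
theorem dvd_centralizer_swap {p r : ℕ} [hp : Fact p.Prime] [hr : Fact r.Prime] (P : Sylow p G)
    (hP : Nat.card (P : Subgroup G) = p) (R : Sylow r G) (hR : Nat.card (R : Subgroup G) = r)
    (h : r ∣ Nat.card (Subgroup.centralizer ((P : Subgroup G) : Set G))) :
    p ∣ Nat.card (Subgroup.centralizer ((R : Subgroup G) : Set G)) := by
  obtain ⟨w, hw⟩ := exists_prime_orderOf_dvd_card' (G := Subgroup.centralizer ((P : Subgroup G) : Set G)) r h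
  rw [← card_centralizer_prime R hR (z := (w : G)) (by rw [Subgroup.orderOf_coe, hw])]
  refine (dvd_of_eq hP.symm).trans (Subgroup.card_dvd_of_le fun y hy => ?_)
  rw [Subgroup.mem_centralizer_singleton_iff]
  exact w.2 y hy

end Cfsg.Agent.Lib.SylowCounting
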