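import Mathlib

/-!
Abelian normal subgroups of linear groups that are regular on non-zero vectors.
-/

set_option autoImplicit false
set_option linter.style.haveILetI false
set_option linter.unusedSectionVars false
set_option linter.deprecated false

namespace Cfsg.Agent.Lib.SylowCounting.RegularLinear

variable {p : ℕ} [Fact p.Prime] {V : Type*} [AddCommGroup V] [Module (ZMod p) V] [Finite V]
  (H : Subgroup (V ≃ₗ[ZMod p] V))

/-- `W` is stable under `A`. -/
def Inv (A : Subgroup H) (W : Submodule (ZMod p) V) : Prop :=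
  ∀ a ∈ A, ∀ v ∈ W, ((a : H) : V ≃ₗ[ZMod p] V) v ∈ W

/-- The linear maps spanned by `A`. -/
def alg (A : Subgroup H) : Subalgebra (ZMod p) (Module.End (ZMod p) V) :=
  Algebra.adjoin (ZMod p) (Set.range fun a : A => ((a : H) : V ≃ₗ[ZMod p] V).toLinearMap)

variable {H}

theorem mem_alg {A : Subgroup H} {a : H} (ha : a ∈ A) :
    ((a : V ≃ₗ[ZMod p] V).toLinearMap : Module.End (ZMod p) V) ∈ alg H A :=
  Algebra.subset_adjoin ⟨⟨a, ha⟩, rfl⟩

theorem inv_of_alg {A : Subgroup H} {W : Submodule (ZMod p) V} (hW : Inv H A W)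
    {r : Module.End (ZMod p) V} (hr : r ∈ alg H A) : ∀ v ∈ W, r v ∈ W := by
  induction hr using Algebra.adjoin_induction with
  | mem x hx =>
    obtain ⟨a, rfl⟩ := hx
    exact hW a.1 a.2
  | algebraMap c => exact fun v hv => by simpa using W.smul_mem c hv
  | add x y _ _ hx hy => exact fun v hv => W.add_mem (hx v hv) (hy v hv)
  | mul x y _ _ hx hy => exact fun v hv => hx _ (hy v hv)

/-- The orbit of a vector under the algebra. -/
def span1 (A : Subgroup H) (v : V) : Submodule (ZMod p) V :=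
  (Subalgebra.toSubmodule (alg H A)).map (LinearMap.applyₗ (R := ZMod p) v)

theorem mem_span1 {A : Subgroup H} {v w : V} : w ∈ span1 A v ↔ ∃ r ∈ alg H A, r v = w := Iff.rfl

theorem self_mem_span1 (A : Subgroup H) (v : V) : v ∈ span1 A v := ⟨1, one_mem (alg H A), rfl⟩

theorem inv_span1 (A : Subgroup H) (v : V) : Inv H A (span1 A v) := by
  rintro a ha w ⟨r, hr, rfl⟩
  exact mem_span1.2 ⟨_, mul_mem (mem_alg ha) (show r ∈ alg H A from hr), rfl⟩

theorem span1_le {A : Subgroup H} {W : Submodule (ZMod p) V} (hW : Inv H A W) {v : V} (hv : v ∈ W) :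
    span1 A v ≤ W := by
  rintro w ⟨r, hr, rfl⟩
  exact inv_of_alg hW hr v hv

variable (hreg : ∀ v w : V, v ≠ 0 → w ≠ 0 → ∃! h : H, (h : V ≃ₗ[ZMod p] V) v = w)
  (A : Subgroup H) [hAn : A.Normal] [hAc : IsMulCommutative A]

include hreg in
theorem exists_irreducible [Nontrivial V] : ∀ v : V, v ≠ 0 →
    ∀ W : Submodule (ZMod p) V, W ≤ span1 A v → Inv H A W → W ≠ ⊥ → W = span1 A v := by
  classical
  -- an orbit of least size
  obtain ⟨v₁, hv₁, hmin⟩ := (Set.toFinite {v : V | v ≠ 0}).exists_minimalFor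
    (fun v => Nat.card (span1 A v)) _ (by
      obtain ⟨v, hv⟩ := exists_ne (0 : V)
      exact ⟨v, hv⟩)
  intro v hv W hWle hW hW0
  obtain ⟨w, hw, hw0⟩ := Submodule.exists_mem_ne_zero_of_ne_bot hW0
  obtain ⟨h, hh, -⟩ := hreg v₁ v hv₁ hv
  -- translation does not change the size
  let U : Submodule (ZMod p) V := (span1 A v₁).map ((h : V ≃ₗ[ZMod p] V).toLinearMap)
  have hU : Inv H A U := by
    rintro a ha u ⟨z, hz, rfl⟩
    refine ⟨((h⁻¹ * a * h : H) : V ≃ₗ[ZMod p] V) z,
      inv_span1 A v₁ _ (by simpa using hAn.conj_mem a ha h⁻¹) z hz, ?_⟩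
    change (h : V ≃ₗ[ZMod p] V) (((h⁻¹ * a * h : H) : V ≃ₗ[ZMod p] V) z) =
      (a : V ≃ₗ[ZMod p] V) ((h : V ≃ₗ[ZMod p] V) z)
    rw [← LinearEquiv.mul_apply, ← Subgroup.coe_mul, ← LinearEquiv.mul_apply, ← Subgroup.coe_mul,
      show h * (h⁻¹ * a * h) = a * h by group]
  have hle : span1 A v ≤ U := span1_le hU ⟨v₁, self_mem_span1 A v₁, hh⟩
  have hcard : Nat.card (span1 A v) ≤ Nat.card (span1 A v₁) := by
    refine (Nat.card_le_card_of_injective _ (Submodule.inclusion_injective hle)).trans ?_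
    exact le_of_eq (Nat.card_congr ((h : V ≃ₗ[ZMod p] V).submoduleMap (span1 A v₁)).toEquiv).symm
  have h1 : span1 A w ≤ W := span1_le hW hw
  have h3 : Nat.card (span1 A v₁) ≤ Nat.card (span1 A w) := by
    by_contra hlt
    exact hlt (hmin hw0 (le_of_not_ge hlt))
  refine le_antisymm hWle ?_
  have h4 : span1 A w ≤ span1 A v := h1.trans hWle
  have h5 : span1 A w = span1 A v := by
    refine SetLike.coe_injective (Set.eq_of_subset_of_ncard_le h4 ?_ (Set.toFinite _))
    rw [← Nat.card_coe_set_eq, ← Nat.card_coe_set_eq]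
    exact hcard.trans h3
  exact h5 ▸ h1

omit hAn in
theorem alg_comm {r s : Module.End (ZMod p) V} (hr : r ∈ alg H A) (hs : s ∈ alg H A) :
    r * s = s * r := by
  have hle : ∀ x ∈ Set.range (fun a : A => ((a : H) : V ≃ₗ[ZMod p] V).toLinearMap),
      ∀ y ∈ Set.range (fun a : A => ((a : H) : V ≃ₗ[ZMod p] V).toLinearMap), x * y = y * x := by
    rintro _ ⟨a, rfl⟩ _ ⟨b, rfl⟩
    refine LinearMap.ext fun v => ?_
    exact DFunLike.congr_fun (congrArg Subtype.val (congrArg Subtype.val (hAc.is_comm.comm a b))) v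
  letI : CommRing (alg H A) := Algebra.adjoinCommRingOfComm (ZMod p) hle
  exact congrArg Subtype.val (mul_comm (⟨r, hr⟩ : alg H A) ⟨s, hs⟩)

include hreg in
theorem eq_zero_of_apply_eq_zero [Nontrivial V]
    (hred : ∃ W : Submodule (ZMod p) V, W ≠ ⊥ ∧ W ≠ ⊤ ∧ Inv H A W)
    {r : Module.End (ZMod p) V} (hr : r ∈ alg H A) {v : V} (hv : v ≠ 0) (hrv : r v = 0) : r = 0 := by
  refine LinearMap.ext fun w => ?_
  rw [LinearMap.zero_apply]
  by_contra hw
  have hw0 : w ≠ 0 := fun e => hw (by rw [e, map_zero])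
  have hker : ∀ u ∈ span1 A v, r u = 0 := by
    rintro u ⟨s, hs, rfl⟩
    show (r * s) v = 0
    rw [alg_comm A hr hs, Module.End.mul_apply, hrv, map_zero]
  have hz : r (v + w) = r w := by rw [map_add, hrv, zero_add]
  have hvw : v + w ≠ 0 := fun e => hw (by rw [← hz, e, map_zero])
  have hin : r w ∈ span1 A (v + w) := ⟨r, hr, hz⟩
  have heq := exists_irreducible hreg A (v + w) hvw _ (span1_le (inv_span1 A _) hin) (inv_span1 A _)
    (fun e => hw (by
      have := self_mem_span1 A (r w)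
      rw [e] at this
      exact (Submodule.mem_bot _).1 this))
  have hle : span1 A (r w) ≤ span1 A w := span1_le (inv_span1 A _) ⟨r, hr, rfl⟩
  have hvmem : v ∈ span1 A w := by
    have h1 : v + w ∈ span1 A w := hle (heq ▸ self_mem_span1 A (v + w))
    simpa using Submodule.sub_mem _ h1 (self_mem_span1 A w)
  have hvw' := exists_irreducible hreg A w hw0 _ (span1_le (inv_span1 A _) hvmem) (inv_span1 A _)
    (fun e => hv (by
      have := self_mem_span1 A v
      rw [e] at this
      exact (Submodule.mem_bot _).1 this))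
  exact hw (hker w (hvw' ▸ self_mem_span1 A w))

theorem main (hreg : ∀ v w : V, v ≠ 0 → w ≠ 0 → ∃! h : H, (h : V ≃ₗ[ZMod p] V) v = w)
    (hred : ∃ W : Submodule (ZMod p) V, W ≠ ⊥ ∧ W ≠ ⊤ ∧ Inv H A W) :
    IsCyclic A ∧ ∃ W : Submodule (ZMod p) V, W ≠ ⊥ ∧ W ≠ ⊤ ∧ Inv H A W ∧
      (∀ W' : Submodule (ZMod p) V, W' ≤ W → Inv H A W' → W' = ⊥ ∨ W' = W) ∧
      Nat.card A ∣ p ^ Module.finrank (ZMod p) W - 1 ∧
      2 * Module.finrank (ZMod p) W ≤ Module.finrank (ZMod p) V ∧
      Nat.card H ≤ Nat.card (Subgroup.centralizer (A : Set H)) * Module.finrank (ZMod p) W ∧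
      Nat.card H + 1 = p ^ Module.finrank (ZMod p) V := by
  classical
  obtain ⟨W₀, hW₀, hW₀', hW₀i⟩ := hred
  obtain ⟨v, hvW, hv⟩ := Submodule.exists_mem_ne_zero_of_ne_bot hW₀
  haveI : Nontrivial V := ⟨⟨v, 0, hv⟩⟩
  haveI : Nontrivial (Module.End (ZMod p) V) :=
    ⟨⟨1, 0, fun e => hv (DFunLike.congr_fun e v)⟩⟩
  have hz : ∀ {r : Module.End (ZMod p) V}, r ∈ alg H A → ∀ u, u ≠ 0 → r u = 0 → r = 0 :=
    fun hr u hu h => eq_zero_of_apply_eq_zero hreg A ⟨W₀, hW₀, hW₀', hW₀i⟩ hr hu h
  let R := alg H A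
  letI : CommRing R := { (inferInstance : Ring R) with
    mul_comm := fun a b => Subtype.ext (alg_comm A a.2 b.2) }
  haveI : NoZeroDivisors R := by
    refine ⟨fun {r s} h => ?_⟩
    by_contra hne
    simp only [not_or] at hne
    have hs : (s : Module.End (ZMod p) V) v ≠ 0 := fun e => hne.2 (Subtype.ext (hz s.2 v hv e))
    exact hne.1 (Subtype.ext (hz r.2 _ hs (by
      rw [← Module.End.mul_apply, ← Subalgebra.coe_mul, h]; rfl)))
  haveI : IsDomain R := NoZeroDivisors.to_isDomain R
  haveI : Finite (V ≃ₗ[ZMod p] V) :=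
    Finite.of_injective (fun e => (e : V → V)) DFunLike.coe_injective
  haveI : Finite (Module.End (ZMod p) V) :=
    Finite.of_injective (fun f => (f : V → V)) DFunLike.coe_injective
  haveI : Finite R := Subtype.finite
  letI : Field R := (Finite.isDomain_to_isField R).toField
  -- the orbit of `v`
  let ev : R →ₗ[ZMod p] span1 A v :=
    { toFun := fun r => ⟨(r : Module.End (ZMod p) V) v, r.1, r.2, rfl⟩
      map_add' := fun _ _ => rfl
      map_smul' := fun _ _ => rfl }
  have hev : Function.Bijective ev := by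
    refine ⟨?_, fun w => ?_⟩
    · rw [← LinearMap.ker_eq_bot, LinearMap.ker_eq_bot']
      exact fun r h => Subtype.ext (hz r.2 v hv (congrArg Subtype.val h))
    · obtain ⟨r, hr, hrw⟩ := w.2
      exact ⟨⟨r, hr⟩, Subtype.ext hrw⟩
  have hfin : Module.finrank (ZMod p) R = Module.finrank (ZMod p) (span1 A v) :=
    (LinearEquiv.ofBijective ev hev).finrank_eq
  have hne : span1 A v ≠ ⊥ := fun e => hv (by
    have := self_mem_span1 A v
    rw [e] at this
    exact (Submodule.mem_bot _).1 this)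
  have hle : span1 A v ≤ W₀ := span1_le hW₀i hvW
  let f : A →* R :=
    { toFun := fun a => ⟨_, mem_alg a.2⟩
      map_one' := rfl
      map_mul' := fun _ _ => rfl }
  have hf : Function.Injective f := fun a b h =>
    Subtype.ext (Subtype.ext (LinearEquiv.toLinearMap_injective (congrArg Subtype.val h)))
  have hcyc : IsCyclic A := isCyclic_of_subgroup_isDomain f hf
  have hdvd : Nat.card A ∣ p ^ Module.finrank (ZMod p) R - 1 := by
    have h1 : Nat.card A ∣ Nat.card Rˣ := Subgroup.card_dvd_of_injective f.toHomUnits (fun a b h =>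
      hf (congrArg Units.val h))
    rwa [Nat.card_units, Module.natCard_eq_pow_finrank (K := ZMod p) (V := R), Nat.card_zmod] at h1
  refine ⟨hcyc, span1 A v, hne, fun e => hW₀' (top_le_iff.1 (e ▸ hle)), inv_span1 A v,
    fun W' hW' hi => or_iff_not_imp_left.2 fun h0 => exists_irreducible hreg A v hv W' hW' hi h0,
    hfin ▸ hdvd, ?_, ?_, ?_⟩
  · obtain ⟨u, -, hu⟩ := Set.exists_of_ssubset (show (span1 A v : Set V) ⊂ (⊤ : Submodule (ZMod p) V) from
      SetLike.coe_ssubset_coe.2 (lt_top_iff_ne_top.2 fun e => hW₀' (top_le_iff.1 (e ▸ hle))))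
    have hu0 : u ≠ 0 := fun e => hu (e ▸ (span1 A v).zero_mem)
    have hdis : span1 A v ⊓ span1 A u = ⊥ := by
      by_contra h
      have := exists_irreducible hreg A u hu0 _ inf_le_right
        (fun a ha w hw => ⟨inv_span1 A v a ha w hw.1, inv_span1 A u a ha w hw.2⟩) h
      exact hu ((this ▸ inf_le_left : span1 A u ≤ span1 A v) (self_mem_span1 A u))
    obtain ⟨h, hh, -⟩ := hreg v u hv hu0
    have hsame : Module.finrank (ZMod p) (span1 A u) = Module.finrank (ZMod p) (span1 A v) := by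
      let ev' : R →ₗ[ZMod p] span1 A u :=
        { toFun := fun r => ⟨(r : Module.End (ZMod p) V) u, r.1, r.2, rfl⟩
          map_add' := fun _ _ => rfl
          map_smul' := fun _ _ => rfl }
      have hev' : Function.Bijective ev' := by
        refine ⟨?_, fun w => ?_⟩
        · rw [← LinearMap.ker_eq_bot, LinearMap.ker_eq_bot']
          exact fun r h => Subtype.ext (hz r.2 u hu0 (congrArg Subtype.val h))
        · obtain ⟨r, hr, hrw⟩ := w.2
          exact ⟨⟨r, hr⟩, Subtype.ext hrw⟩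
      rw [← hfin, (LinearEquiv.ofBijective ev' hev').finrank_eq]
    have h2 := Submodule.finrank_sup_add_finrank_inf_eq (span1 A v) (span1 A u)
    rw [hdis, finrank_bot, hsame] at h2
    have h3 := Submodule.finrank_le (span1 A v ⊔ span1 A u)
    omega
  · -- conjugation gives field automorphisms
    have hconj : ∀ (h : H) (r : Module.End (ZMod p) V), r ∈ alg H A →
        ((h : V ≃ₗ[ZMod p] V).toLinearMap * r * ((h⁻¹ : H) : V ≃ₗ[ZMod p] V).toLinearMap :
          Module.End (ZMod p) V) ∈ alg H A := by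
      intro h r hr
      induction hr using Algebra.adjoin_induction with
      | mem x hx =>
        obtain ⟨a, rfl⟩ := hx
        exact mem_alg (hAn.conj_mem a.1 a.2 h)
      | algebraMap c =>
        rw [Algebra.algebraMap_eq_smul_one, mul_smul_comm, mul_one, smul_mul_assoc]
        refine Subalgebra.smul_mem _ ?_ c
        have e : ((h : V ≃ₗ[ZMod p] V).toLinearMap * ((h⁻¹ : H) : V ≃ₗ[ZMod p] V).toLinearMap :
            Module.End (ZMod p) V) = 1 :=
          congrArg (fun x : H => ((x : V ≃ₗ[ZMod p] V).toLinearMap : Module.End (ZMod p) V)) (mul_inv_cancel h)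
        rw [e]
        exact one_mem _
      | add x y _ _ hx hy => rw [mul_add, add_mul]; exact add_mem hx hy
      | mul x y _ _ hx hy =>
        have := mul_mem hx hy
        rw [show (h : V ≃ₗ[ZMod p] V).toLinearMap * x * ((h⁻¹ : H) : V ≃ₗ[ZMod p] V).toLinearMap *
          ((h : V ≃ₗ[ZMod p] V).toLinearMap * y * ((h⁻¹ : H) : V ≃ₗ[ZMod p] V).toLinearMap) =
          (h : V ≃ₗ[ZMod p] V).toLinearMap * x * (((h⁻¹ : H) : V ≃ₗ[ZMod p] V).toLinearMap *
          (h : V ≃ₗ[ZMod p] V).toLinearMap) * y * ((h⁻¹ : H) : V ≃ₗ[ZMod p] V).toLinearMap by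
            simp only [mul_assoc]] at this
        rw [show (((h⁻¹ : H) : V ≃ₗ[ZMod p] V).toLinearMap * (h : V ≃ₗ[ZMod p] V).toLinearMap :
          Module.End (ZMod p) V) = 1 from congrArg
            (fun x : H => ((x : V ≃ₗ[ZMod p] V).toLinearMap : Module.End (ZMod p) V)) (inv_mul_cancel h),
          mul_one] at this
        simpa only [mul_assoc] using this
    let σ : H → R →ₐ[ZMod p] R := fun h =>
      (AlgHom.codRestrict (((MulSemiringAction.toAlgHom (ZMod p) (Module.End (ZMod p) V)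
        (ConjAct.toConjAct (LinearMap.GeneralLinearGroup.ofLinearEquiv (h : V ≃ₗ[ZMod p] V))))).comp R.val)
        R (fun r => hconj h r.1 r.2))
    have hσ : ∀ h k : H, σ h = σ k → h⁻¹ * k ∈ Subgroup.centralizer (A : Set H) := by
      intro h k e
      rw [Subgroup.mem_centralizer_iff]
      intro a ha
      have h1 := congrArg Subtype.val (DFunLike.congr_fun e ⟨_, mem_alg ha⟩)
      have h2 : h * a * h⁻¹ = k * a * k⁻¹ :=
        Subtype.ext (LinearEquiv.toLinearMap_injective h1)
      calc a * (h⁻¹ * k) = h⁻¹ * (h * a * h⁻¹) * k := by group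
        _ = h⁻¹ * k * a := by rw [h2]; group
    have h1 : Nat.card (H ⧸ Subgroup.centralizer (A : Set H)) ≤ Nat.card (R →ₐ[ZMod p] R) := by
      refine Nat.card_le_card_of_injective (fun q => σ q.out) fun q q' e => ?_
      rw [← QuotientGroup.out_eq' q, ← QuotientGroup.out_eq' q', QuotientGroup.eq]
      exact hσ _ _ e
    have h2 : Nat.card (R →ₐ[ZMod p] R) ≤ Module.finrank (ZMod p) R := by
      rw [Nat.card_eq_fintype_card]
      exact AlgHom.card_le
    rw [Subgroup.card_eq_card_quotient_mul_card_subgroup (Subgroup.centralizer (A : Set H)), mul_comm]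
    exact Nat.mul_le_mul_left _ ((h1.trans h2).trans hfin.le)
  · have e : H ≃ {w : V // w ≠ 0} :=
      Equiv.ofBijective (fun h => ⟨(h : V ≃ₗ[ZMod p] V) v, fun e => hv (by simpa using e)⟩)
        ⟨fun h k e => by
          obtain ⟨x, -, hx⟩ := hreg v ((h : V ≃ₗ[ZMod p] V) v) hv (fun e => hv (by simpa using e))
          exact (hx h rfl).trans (hx k (congrArg Subtype.val e).symm).symm,
        fun w => by
          obtain ⟨x, hx, -⟩ := hreg v w.1 hv w.2
          exact ⟨x, Subtype.ext hx⟩⟩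
    haveI := Fintype.ofFinite V
    rw [Nat.card_congr e, Nat.card_eq_fintype_card, Fintype.card_subtype_compl, Fintype.card_subtype_eq,
      ← Nat.card_eq_fintype_card, Module.natCard_eq_pow_finrank (K := ZMod p) (V := V), Nat.card_zmod]
    have : 0 < p ^ Module.finrank (ZMod p) V := pow_pos (Fact.out : p.Prime).pos _
    omega

theorem cyclic_of_irreducible (hreg : ∀ v w : V, v ≠ 0 → w ≠ 0 → ∃! h : H, (h : V ≃ₗ[ZMod p] V) v = w)
    (hirr : ∀ W : Submodule (ZMod p) V, Inv H A W → W = ⊥ ∨ W = ⊤) : IsCyclic A := by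
  classical
  haveI : Finite (V ≃ₗ[ZMod p] V) :=
    Finite.of_injective (fun e => (e : V → V)) DFunLike.coe_injective
  rcases subsingleton_or_nontrivial V with h | h
  · haveI : Subsingleton A := ⟨fun a b => Subtype.ext (Subtype.ext (LinearEquiv.ext fun v => Subsingleton.elim _ _))⟩
    exact isCyclic_of_subsingleton
  obtain ⟨v, hv⟩ := exists_ne (0 : V)
  haveI : Nontrivial (Module.End (ZMod p) V) :=
    ⟨⟨1, 0, fun e => hv (DFunLike.congr_fun e v)⟩⟩
  have hz : ∀ {r : Module.End (ZMod p) V}, r ∈ alg H A → ∀ u, u ≠ 0 → r u = 0 → r = 0 := by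
    intro r hr u hu hru
    refine LinearMap.ker_eq_top.1 ((hirr _ ?_).resolve_left fun e => hu ?_)
    · intro a ha w hw
      rw [LinearMap.mem_ker] at hw ⊢
      change (r * ((a : V ≃ₗ[ZMod p] V).toLinearMap : Module.End (ZMod p) V)) w = 0
      rw [alg_comm A hr (mem_alg ha), Module.End.mul_apply, hw, map_zero]
    · exact (Submodule.mem_bot _).1 (e ▸ LinearMap.mem_ker.2 hru)
  let R := alg H A
  letI : CommRing R := { (inferInstance : Ring R) with
    mul_comm := fun a b => Subtype.ext (alg_comm A a.2 b.2) }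
  haveI : NoZeroDivisors R := by
    refine ⟨fun {r s} h => ?_⟩
    by_contra hne
    simp only [not_or] at hne
    have hs : (s : Module.End (ZMod p) V) v ≠ 0 := fun e => hne.2 (Subtype.ext (hz s.2 v hv e))
    exact hne.1 (Subtype.ext (hz r.2 _ hs (by
      rw [← Module.End.mul_apply, ← Subalgebra.coe_mul, h]; rfl)))
  haveI : IsDomain R := NoZeroDivisors.to_isDomain R
  let f : A →* R :=
    { toFun := fun a => ⟨_, mem_alg a.2⟩
      map_one' := rfl
      map_mul' := fun _ _ => rfl }
  exact isCyclic_of_subgroup_isDomain f fun a b h =>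
    Subtype.ext (Subtype.ext (LinearEquiv.toLinearMap_injective (congrArg Subtype.val h)))

end Cfsg.Agent.Lib.SylowCounting.RegularLinear
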