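import Cfsg.Agent.Lib.SylowCounting.Embedding
import Cfsg.Agent.Lib.SylowCounting.ConjClass
import Mathlib.Tactic
import Mathlib.GroupTheory.Perm.Cycle.Type
import Mathlib.Data.ZMod.Basic

/-!
# Involutions of simple groups act by even permutations
-/

namespace Cfsg.Agent.Lib.SylowCounting

open Equiv

variable {G : Type*} [Group G] [Finite G]

/-- An involution of a nonabelian simple group moves a multiple of four cosets of a proper
subgroup. -/
theorem four_dvd_index_sub_fixedBy [IsSimpleGroup G] (hG : ¬ IsMulCommutative G) (K : Subgroup G)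
    (z : G) (hz : z * z = 1) :
    4 ∣ K.index - Nat.card (MulAction.fixedBy (G ⧸ K) z) := by
  classical
  haveI : Fintype (G ⧸ K) := Fintype.ofFinite _
  set σ : Perm (G ⧸ K) := MulAction.toPermHom G (G ⧸ K) z with hσ
  have hsq : σ ^ 2 = 1 := by rw [hσ, pow_two, ← map_mul, hz, map_one]
  have hsign : Perm.sign σ = 1 :=
    hom_zmod_trivial hG (Perm.sign.comp (MulAction.toPermHom G (G ⧸ K))) z
  have hall : ∀ m ∈ σ.cycleType, m = 2 := fun m hm =>
    le_antisymm (Nat.le_of_dvd two_pos ((Perm.dvd_of_mem_cycleType hm).trans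
      (orderOf_dvd_of_pow_eq_one hsq))) (Perm.two_le_of_mem_cycleType hm)
  have hsum : σ.support.card = 2 * Multiset.card σ.cycleType := by
    rw [← Perm.sum_cycleType, Multiset.eq_replicate.2 ⟨rfl, hall⟩, Multiset.sum_replicate,
      Multiset.card_replicate, smul_eq_mul]
    ring
  have hev : Even (Multiset.card σ.cycleType) := by
    rw [Perm.sign_of_cycleType, Perm.sum_cycleType, hsum, pow_add, pow_mul, neg_one_sq, one_pow,
      one_mul] at hsign
    rcases Nat.even_or_odd (Multiset.card σ.cycleType) with h | h
    · exact h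
    · rw [h.neg_one_pow] at hsign
      exact absurd hsign (by decide)
  have hfix : K.index - Nat.card (MulAction.fixedBy (G ⧸ K) z) = σ.support.card := by
    have h1 : Nat.card (MulAction.fixedBy (G ⧸ K) z) =
        (Finset.univ.filter fun a : G ⧸ K => σ a = a).card := by
      rw [← Nat.card_eq_finsetCard]
      refine Nat.card_congr (Equiv.subtypeEquivRight fun a => ?_)
      simp only [MulAction.mem_fixedBy, Finset.mem_filter, Finset.mem_univ, true_and]
      rfl
    have h2 := Finset.card_filter_add_card_filter_not (s := (Finset.univ : Finset (G ⧸ K)))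
      (fun a => σ a = a)
    have h3 : σ.support = Finset.univ.filter fun a => ¬ σ a = a := by
      ext a; simp [Perm.mem_support]
    rw [Finset.card_univ, ← Nat.card_eq_fintype_card, ← Subgroup.index, ← h3, ← h1] at h2
    omega
  rw [hfix, hsum]
  obtain ⟨r, hr⟩ := hev
  exact ⟨r, by omega⟩

omit [Finite G] in
/-- A set closed under right multiplication by a subgroup has cardinality divisible by its
order. -/
theorem card_dvd_of_mul_right (K : Subgroup G) (X : Set G) (h : ∀ x ∈ X, ∀ k ∈ K, x * k ∈ X) :
    Nat.card K ∣ Nat.card X := by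
  have hpre : (QuotientGroup.mk : G → G ⧸ K) ⁻¹' (QuotientGroup.mk '' X) = X := by
    ext g
    constructor
    · rintro ⟨x, hx, hxg⟩
      have := h x hx (x⁻¹ * g) (QuotientGroup.eq.1 hxg)
      simpa using this
    · exact fun hg => ⟨g, hg, rfl⟩
  have h1 := Nat.card_congr
    (QuotientGroup.preimageMkEquivSubgroupProdSet K ((QuotientGroup.mk : G → G ⧸ K) '' X))
  rw [Nat.card_prod] at h1
  exact ⟨_, (congrArg (fun S : Set G => Nat.card S) hpre).symm.trans h1⟩

end Cfsg.Agent.Lib.SylowCounting
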