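import Cfsg.Agent.Lib.Characters.Induced
import Cfsg.Agent.Lib.Characters.Integrality
import Mathlib.GroupTheory.Transfer
import Mathlib.RingTheory.RootsOfUnity.Complex
import Mathlib.GroupTheory.SpecificGroups.Cyclic

/-!
# The family of generalized characters attached to a Sylow subgroup of prime order

Let `P` have prime order `p` and let `C = C(P)` have order `p * h`, `p ∤ h`. For a character `lam`
of `C` factoring through `y ↦ y ^ h` the functions `1 - lam ^ k` induced to `G` form a family with
easily computed inner products.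
-/

namespace Cfsg.Agent.Lib.SylowCounting

open Cfsg.Agent.Lib.Characters
open scoped ComplexConjugate

set_option linter.unusedSectionVars false
set_option linter.style.haveILetI false

universe u

variable {G : Type u} [Group G]

/-- The `h`-th power of an element of `C(P)` lies in `P`, when `#C(P) = p * h`. -/
theorem pow_mem_of_mem_centralizer [Finite G] {p h : ℕ} (hp : p.Prime)
    (P : Subgroup G) (hP : Nat.card P = p)
    (hC : Nat.card (Subgroup.centralizer (P : Set G)) = p * h)
    {y : G} (hy : y ∈ Subgroup.centralizer (P : Set G)) : y ^ h ∈ P := by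
  haveI := Fact.mk hp
  haveI : IsCyclic P := isCyclic_of_prime_card hP
  set C := Subgroup.centralizer (P : Set G) with hCdef
  have hPC : P ≤ C := by
    intro a ha
    refine Subgroup.mem_centralizer_iff.2 fun b hb => ?_
    have := (IsCyclic.commGroup (α := P)).mul_comm ⟨b, hb⟩ ⟨a, ha⟩
    exact congrArg Subtype.val this
  haveI : (P.subgroupOf C).Normal := ⟨fun a ha g => by
    rw [Subgroup.mem_subgroupOf] at ha ⊢
    have := Subgroup.mem_centralizer_iff.1 g.2 _ ha
    simp only [Subgroup.coe_mul, InvMemClass.coe_inv]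
    rw [← this]
    simpa using ha⟩
  have hcard : Nat.card (C ⧸ P.subgroupOf C) = h := by
    have h1 := Subgroup.card_eq_card_quotient_mul_card_subgroup (P.subgroupOf C)
    rw [hC, Nat.card_congr (Subgroup.subgroupOfEquivOfLe hPC).toEquiv, hP, mul_comm p h] at h1
    exact (Nat.eq_of_mul_eq_mul_right hp.pos h1).symm
  have h2 : ((⟨y, hy⟩ : C) : C ⧸ P.subgroupOf C) ^ h = 1 := by
    rw [← hcard]
    exact pow_card_eq_one'
  rw [← QuotientGroup.mk_pow, QuotientGroup.eq_one_iff] at h2
  exact h2

/-- On a group of order `p * h` with a central subgroup of order `p`, `y ↦ y ^ h` is multiplicative.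
-/
theorem mul_pow_of_mem_centralizer [Finite G] {p h : ℕ} (hp : p.Prime)
    (P : Subgroup G) (hP : Nat.card P = p)
    (hC : Nat.card (Subgroup.centralizer (P : Set G)) = p * h)
    {y z : G} (hy : y ∈ Subgroup.centralizer (P : Set G))
    (hz : z ∈ Subgroup.centralizer (P : Set G)) : (y * z) ^ h = y ^ h * z ^ h := by
  haveI := Fact.mk hp
  haveI : IsCyclic P := isCyclic_of_prime_card hP
  set C := Subgroup.centralizer (P : Set G) with hCdef
  have hPC : P ≤ C := by
    intro a ha
    refine Subgroup.mem_centralizer_iff.2 fun b hb => ?_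
    have := (IsCyclic.commGroup (α := P)).mul_comm ⟨b, hb⟩ ⟨a, ha⟩
    exact congrArg Subtype.val this
  have hle : P.subgroupOf C ≤ Subgroup.center C := by
    intro a ha
    rw [Subgroup.mem_center_iff]
    intro g
    exact Subtype.ext (Subgroup.mem_centralizer_iff.1 g.2 _ (Subgroup.mem_subgroupOf.1 ha)).symm
  have hidx : (P.subgroupOf C).index = h := by
    have h1 := (P.subgroupOf C).index_mul_card
    rw [hC, Nat.card_congr (Subgroup.subgroupOfEquivOfLe hPC).toEquiv, hP, mul_comm p h] at h1
    exact Nat.eq_of_mul_eq_mul_right hp.pos h1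
  obtain ⟨k, hk⟩ : (Subgroup.center C).index ∣ h := hidx ▸ Subgroup.index_dvd_of_le hle
  have key : ((⟨y, hy⟩ : C) * ⟨z, hz⟩) ^ h = (⟨y, hy⟩ : C) ^ h * (⟨z, hz⟩ : C) ^ h := by
    set y' : C := ⟨y, hy⟩
    set z' : C := ⟨z, hz⟩
    set i := (Subgroup.center C).index with hi
    have hm : (y' * z') ^ i = y' ^ i * z' ^ i := by
      have hm0 := congrArg Subtype.val ((MonoidHom.transferCenterPow C).map_mul y' z')
      rw [Subgroup.coe_mul, MonoidHom.transferCenterPow_apply,
        MonoidHom.transferCenterPow_apply, MonoidHom.transferCenterPow_apply] at hm0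
      exact hm0
    have hcomm : Commute (y' ^ i) (z' ^ i) :=
      (Subgroup.mem_center_iff.1 ((Subgroup.center C).pow_index_mem y') (z' ^ i)).symm
    rw [hk, pow_mul, hm, hcomm.mul_pow, ← pow_mul, ← pow_mul]
  exact congrArg Subtype.val key

/-- A character of `C(P)` which sees exactly the `p`-part. -/
theorem exists_lam [Finite G] {p h : ℕ} (hp : p.Prime)
    (P : Subgroup G) (hP : Nat.card P = p)
    (hC : Nat.card (Subgroup.centralizer (P : Set G)) = p * h) :
    ∃ (lam : Subgroup.centralizer (P : Set G) →* ℂ),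
      (∀ y : Subgroup.centralizer (P : Set G), lam y = 1 ↔ (y : G) ^ h = 1) ∧
      (∀ y : Subgroup.centralizer (P : Set G), lam y ^ p = 1) ∧
      (∀ y z : Subgroup.centralizer (P : Set G), ∀ u : ℕ,
        (z : G) ^ h = ((y : G) ^ h) ^ u → lam z = lam y ^ u) := by
  haveI := Fact.mk hp
  haveI : IsCyclic P := isCyclic_of_prime_card hP
  obtain ⟨e⟩ : Nonempty (P ≃* Multiplicative (ZMod p)) :=
    ⟨(zmodCyclicMulEquiv (inferInstance : IsCyclic P)).symm.trans
      (AddEquiv.toMultiplicative (ZMod.ringEquivCongr hP).toAddEquiv)⟩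
  set ζ : ℂ := Complex.exp (2 * Real.pi * Complex.I / p) with hζdef
  have hζ : IsPrimitiveRoot ζ p := Complex.isPrimitiveRoot_exp p hp.ne_zero
  let χ : P →* ℂ :=
    { toFun := fun a => ζ ^ (Multiplicative.toAdd (e a)).val
      map_one' := by simp
      map_mul' := fun a b => by
        rw [map_mul, toAdd_mul, ZMod.val_add, ← pow_add]
        exact (pow_eq_pow_mod _ hζ.pow_eq_one).symm }
  have hχ : ∀ a : P, χ a = 1 ↔ a = 1 := fun a => by
    refine ⟨fun ha => ?_, fun ha => by rw [ha, map_one]⟩
    have h1 : (Multiplicative.toAdd (e a)).val = 0 := by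
      by_contra hne
      exact hζ.pow_ne_one_of_pos_of_lt hne (ZMod.val_lt _) ha
    rw [ZMod.val_eq_zero] at h1
    exact e.injective (by rw [map_one]; exact Multiplicative.toAdd.injective (by simpa using h1))
  let q : Subgroup.centralizer (P : Set G) →* P :=
    { toFun := fun y => ⟨(y : G) ^ h, pow_mem_of_mem_centralizer hp P hP hC y.2⟩
      map_one' := by simp
      map_mul' := fun y z => Subtype.ext (by
        simpa using mul_pow_of_mem_centralizer hp P hP hC y.2 z.2) }
  refine ⟨χ.comp q, fun y => ?_, fun y => ?_, fun y z u hu => ?_⟩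
  · rw [MonoidHom.comp_apply, hχ]
    exact ⟨fun hy => congrArg Subtype.val hy, fun hy => Subtype.ext hy⟩
  · show χ (q y) ^ p = 1
    rw [← map_pow, ← hP, pow_card_eq_one', map_one]
  · show χ (q z) = χ (q y) ^ u
    rw [← map_pow]
    exact congrArg χ (Subtype.ext (by simpa [q] using hu))

/-- Orthogonality of linear characters. -/
theorem classInner_hom_hom {K : Type u} [Group K] [Fintype K] (a b : K →* ℂ) [Decidable (a = b)] :
    Cfsg.classInner (a : K → ℂ) b = if a = b then 1 else 0 := by
  split_ifs with h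
  · subst h; exact IsIrrCharacter.classInner_self (isIrrCharacter_monoidHom a)
  · exact IsIrrCharacter.classInner_ne (isIrrCharacter_monoidHom a) (isIrrCharacter_monoidHom b)
      fun hf => h (DFunLike.coe_injective hf)

/-- Conjugation by an element of the normalizer is a power map on a subgroup of prime order. -/
theorem exists_conj_pow {p : ℕ} (hp : p.Prime) (P : Subgroup G) (hP : Nat.card P = p) {x : G}
    (hx : x ∈ Subgroup.normalizer (P : Set G)) :
    ∃ u : ℕ, ∀ a ∈ P, x⁻¹ * a * x = a ^ u := by
  haveI := Fact.mk hp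
  haveI : Finite P := Nat.finite_of_card_ne_zero (by rw [hP]; exact hp.ne_zero)
  haveI : IsCyclic P := isCyclic_of_prime_card hP
  obtain ⟨g, hg⟩ := IsCyclic.exists_generator (α := P)
  have hmem : x⁻¹ * (g : G) * x ∈ P := by
    have := (Subgroup.mem_normalizer_iff.1 ((Subgroup.normalizer (P : Set G)).inv_mem hx) g).1 g.2
    simpa using this
  obtain ⟨u, hu⟩ := mem_powers_iff_mem_zpowers.2 (hg ⟨_, hmem⟩)
  refine ⟨u, fun a ha => ?_⟩
  obtain ⟨i, hi⟩ := mem_powers_iff_mem_zpowers.2 (hg ⟨a, ha⟩)
  have hu' : (g : G) ^ u = x⁻¹ * (g : G) * x := by simpa using congrArg Subtype.val hu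
  have hi' : (g : G) ^ i = a := by simpa using congrArg Subtype.val hi
  rw [← hi', ← pow_mul, mul_comm i u, pow_mul, hu']
  have := conj_pow (a := x⁻¹) (b := (g : G)) (i := i)
  simpa using this.symm

/-- The inner products in the family `Ind (1 - lam ^ k)`. -/
theorem classInner_family [Fintype G] {p h : ℕ} (hp : p.Prime)
    (P : Subgroup G) (hP : Nat.card P = p) (C : Subgroup G) [Fintype C]
    (hCdef : C = Subgroup.centralizer (P : Set G)) (hC : Nat.card C = p * h)
    (lam : C →* ℂ) (hlam1 : ∀ y : C, lam y = 1 ↔ (y : G) ^ h = 1)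
    {e : ℕ} (hN : Nat.card (Subgroup.normalizer (P : Set G)) = e * (p * h))
    (j k : ℕ) (hj : lam ^ j ≠ 1) (hk : lam ^ k ≠ 1) :
    (classInner (Cfsg.indFun C (fun y => 1 - lam y ^ j))
        (Cfsg.indFun C (fun y => 1 - lam y ^ k)) = e ∧
      ¬ ∃ x ∈ Subgroup.normalizer (P : Set G),
        ∀ y z : C, (z : G) = x⁻¹ * y * x → lam y ^ j = lam z ^ k) ∨
    (classInner (Cfsg.indFun C (fun y => 1 - lam y ^ j))
        (Cfsg.indFun C (fun y => 1 - lam y ^ k)) = e + 1 ∧
      ∃ x ∈ Subgroup.normalizer (P : Set G),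
        ∀ y z : C, (z : G) = x⁻¹ * y * x → lam y ^ j = lam z ^ k) := by
  classical
  haveI := Fact.mk hp
  haveI : IsCyclic P := isCyclic_of_prime_card hP
  set N := Subgroup.normalizer (P : Set G) with hNdef
  have hC' : Nat.card (Subgroup.centralizer (P : Set G)) = p * h := by rw [← hCdef, hC]
  have hmemC : ∀ {z : G}, z ∈ C → z ∈ Subgroup.centralizer (P : Set G) := fun hz => hCdef ▸ hz
  have hmemC' : ∀ {z : G}, z ∈ Subgroup.centralizer (P : Set G) → z ∈ C := fun hz => hCdef ▸ hz
  have hpow : ∀ y : C, (y : G) ^ h ∈ P := fun y =>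
    pow_mem_of_mem_centralizer hp P hP hC' (hmemC y.2)
  have hconjC : ∀ x ∈ N, ∀ y : C, x⁻¹ * (y : G) * x ∈ C := by
    intro x hx y
    refine hmemC' (Subgroup.mem_centralizer_iff.2 fun b hb => ?_)
    have hb' := (Subgroup.mem_normalizer_iff.1 hx b).1 hb
    have hc := Subgroup.mem_centralizer_iff.1 (hmemC y.2) _ hb'
    calc b * (x⁻¹ * y * x) = x⁻¹ * ((x * b * x⁻¹) * y) * x := by group
      _ = x⁻¹ * ((y : G) * (x * b * x⁻¹)) * x := by rw [hc]
      _ = (x⁻¹ * y * x) * b := by group
  let conjX : N → (C →* C) := fun x =>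
    { toFun := fun y => ⟨(x : G)⁻¹ * y * x, hconjC x x.2 y⟩
      map_one' := by ext; simp
      map_mul' := fun y z => by ext; simp only [Subgroup.coe_mul]; group }
  have hsurj : ∀ (x : N) (z : C), ∃ y : C, conjX x y = z := by
    intro x z
    refine ⟨⟨(x : G) * z * (x : G)⁻¹, ?_⟩, ?_⟩
    · simpa using hconjC _ (N.inv_mem x.2) z
    · apply Subtype.ext
      show (x : G)⁻¹ * ((x : G) * z * (x : G)⁻¹) * x = z
      group
  set L : N → (C →* ℂ) := fun x => (lam ^ k).comp (conjX x) with hLdef
  have hL1 : ∀ x, L x ≠ 1 := by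
    intro x hx
    apply hk
    ext z
    obtain ⟨y, hy⟩ := hsurj x z
    have := DFunLike.congr_fun hx y
    simpa [hLdef, hy] using this
  have hind : ∀ y : C, Cfsg.indFun C (fun y => 1 - lam y ^ k) (y : G) =
      (Nat.card C : ℂ)⁻¹ * ∑ x : N, (1 - L x y) := by
    intro y
    rw [indFun_apply]
    congr 1
    have hout : ∀ x : G, x ∉ N →
        extendByZero C (fun y => 1 - lam y ^ k) (x⁻¹ * (y : G) * x) = 0 := by
      intro x hx
      by_cases hmem : x⁻¹ * (y : G) * x ∈ C
      · rw [extendByZero_of_mem _ _ hmem]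
        have h1 : lam ⟨_, hmem⟩ = 1 := by
          rw [hlam1]
          show (x⁻¹ * (y : G) * x) ^ h = 1
          by_contra hne
          apply hx
          have hyP := hpow y
          have hzP : (x⁻¹ * (y : G) * x) ^ h ∈ P := hpow ⟨_, hmem⟩
          have hconj : (x⁻¹ * (y : G) * x) ^ h = x⁻¹ * (y : G) ^ h * x := by
            simpa using conj_pow (a := x⁻¹) (b := (y : G)) (i := h)
          rw [hconj] at hzP hne
          have hy1 : (y : G) ^ h ≠ 1 := fun h1 => hne (by rw [h1]; group)
          refine Subgroup.mem_normalizer_iff.2 fun a => ⟨fun ha => ?_, fun ha => ?_⟩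
          · obtain ⟨i, hi⟩ := Subgroup.mem_zpowers_iff.1
              (mem_zpowers_of_prime_card (g := (⟨_, hzP⟩ : P)) (g' := ⟨a, ha⟩) hP
                (fun h1 => hne (congrArg Subtype.val h1)))
            have hi' : (x⁻¹ * (y : G) ^ h * x) ^ i = a := by simpa using congrArg Subtype.val hi
            have hii : x * a * x⁻¹ = ((y : G) ^ h) ^ i := by
              rw [← hi']
              have := conj_zpow (a := x⁻¹) (b := (y : G) ^ h) (i := i)
              simp only [inv_inv] at this
              rw [this]; group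
            rw [hii]; exact P.zpow_mem hyP i
          · obtain ⟨i, hi⟩ := Subgroup.mem_zpowers_iff.1
              (mem_zpowers_of_prime_card (g := (⟨_, hyP⟩ : P)) (g' := ⟨x * a * x⁻¹, ha⟩) hP
                (fun h1 => hy1 (congrArg Subtype.val h1)))
            have hi' : ((y : G) ^ h) ^ i = x * a * x⁻¹ := by simpa using congrArg Subtype.val hi
            have hii : a = (x⁻¹ * (y : G) ^ h * x) ^ i := by
              have := conj_zpow (a := x⁻¹) (b := (y : G) ^ h) (i := i)
              simp only [inv_inv] at this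
              rw [this, hi']; group
            rw [hii]; exact P.zpow_mem hzP i
        simp [h1]
      · exact extendByZero_of_not_mem _ _ hmem
    rw [← Finset.sum_filter_add_sum_filter_not Finset.univ (fun x => x ∈ N),
      Finset.sum_eq_zero (s := Finset.univ.filter fun x => x ∉ N)
        (fun x hx => hout x (Finset.mem_filter.1 hx).2), add_zero,
      Finset.sum_subtype (p := fun x => x ∈ N) _ (by simp)]
    refine Finset.sum_congr rfl fun x _ => ?_
    rw [extendByZero_of_mem _ _ (hconjC x x.2 y)]
    rfl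
  have hD : ∀ a b : C →* ℂ, a ≠ 1 → b ≠ 1 →
      classInner (fun y => 1 - a y) (fun y => 1 - b y) = if a = b then 2 else 1 := by
    intro a b ha hb
    have e1 : (fun y : C => 1 - a y) = ((1 : C →* ℂ) : C → ℂ) - (a : C → ℂ) := by ext; simp
    have e2 : (fun y : C => 1 - b y) = ((1 : C →* ℂ) : C → ℂ) - (b : C → ℂ) := by ext; simp
    rw [e1, e2, classInner_sub_left, classInner_sub_right, classInner_sub_right,
      classInner_hom_hom, classInner_hom_hom, classInner_hom_hom, classInner_hom_hom]
    rw [if_pos rfl, if_neg (fun h' => hb h'.symm), if_neg ha]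
    split_ifs <;> norm_num
  set S := Finset.univ.filter (fun x : N => lam ^ j = L x) with hSdef
  have hval : classInner (Cfsg.indFun C (fun y => 1 - lam y ^ j))
      (Cfsg.indFun C (fun y => 1 - lam y ^ k)) =
      (Nat.card C : ℂ)⁻¹ * ((Nat.card N : ℂ) + S.card) := by
    rw [classInner_indFun C _ (isClassFunction_indFun C _)]
    simp only [hind]
    rw [show (fun y : C => (Nat.card C : ℂ)⁻¹ * ∑ x : N, (1 - L x y)) =
      (Nat.card C : ℂ)⁻¹ • ∑ x : N, (fun y : C => 1 - L x y) from by
        funext y; simp [Finset.sum_apply],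
      classInner_smul_right, classInner_sum_right, map_inv₀, map_natCast]
    congr 1
    have : ∀ x : N, classInner (fun y : C => 1 - lam y ^ j) (fun y : C => 1 - L x y) =
        1 + if lam ^ j = L x then 1 else 0 := by
      intro x
      have h1 := hD (lam ^ j) (L x) hj (hL1 x)
      simp only [MonoidHom.pow_apply] at h1
      rw [h1]; split_ifs <;> norm_num
    rw [Finset.sum_congr rfl fun x _ => this x, Finset.sum_add_distrib, Finset.sum_boole]
    simp [hSdef]
  have hC0 : (Nat.card C : ℂ) ≠ 0 := by exact_mod_cast Nat.card_pos.ne'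
  have hN' : (Nat.card N : ℂ) = e * Nat.card C := by
    rw [hN, hC]; push_cast; ring
  rcases S.eq_empty_or_nonempty with hS | ⟨x₀, hx₀⟩
  · left
    refine ⟨?_, ?_⟩
    · rw [hval, hS, hN']; simp; field_simp
    · rintro ⟨x, hx, hxx⟩
      have : (⟨x, hx⟩ : N) ∈ S := by
        simp only [hSdef, Finset.mem_filter, Finset.mem_univ, true_and]
        ext y
        simpa [hLdef] using hxx y (conjX ⟨x, hx⟩ y) rfl
      simp [hS] at this
  · right
    have hx₀' : lam ^ j = L x₀ := (Finset.mem_filter.1 hx₀).2
    have hgen : ∃ y : C, (lam ^ k) y ≠ 1 := by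
      by_contra hcon; push Not at hcon; exact hk (MonoidHom.ext fun y => by simpa using hcon y)
    obtain ⟨y₀, hy₀⟩ := hgen
    have hy₁ : (y₀ : G) ^ h ≠ 1 := fun h1 => hy₀ (by simp [(hlam1 y₀).2 h1])
    have hSC : S.card = Nat.card C := by
      rw [← Nat.card_eq_finsetCard]
      refine Nat.card_congr ?_
      refine Equiv.ofBijective (fun x => (⟨(x₀ : G)⁻¹ * ((x : N) : G), ?_⟩ : C)) ⟨?_, ?_⟩
      · -- the quotient of two such elements centralizes `P`
        have hx' : lam ^ j = L x.1 := (Finset.mem_filter.1 x.2).2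
        have hLL : L x.1 = L x₀ := hx'.symm.trans hx₀'
        set g : N := x₀⁻¹ * (x : N) with hg
        obtain ⟨u, hu⟩ := exists_conj_pow hp P hP g.2
        -- `lam ^ k` is fixed by conjugation with `g`
        have hfix : ∀ y : C, (lam ^ k) (conjX g y) = (lam ^ k) y := by
          intro y
          obtain ⟨w, hw⟩ := hsurj x₀ y
          have := DFunLike.congr_fun hLL w
          simp only [hLdef, MonoidHom.comp_apply, hw] at this
          rw [← this]
          congr 1
          apply Subtype.ext
          rw [← hw]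
          show (g : G)⁻¹ * ((x₀ : G)⁻¹ * w * x₀) * g = ((x : N) : G)⁻¹ * w * (x : N)
          simp only [hg, Subgroup.coe_mul, InvMemClass.coe_inv]
          group
        have hcases : (g : G)⁻¹ * (y₀ : G) ^ h * g = (y₀ : G) ^ h := by
          have hf := hfix y₀
          simp only [MonoidHom.pow_apply] at hf
          set a := (⟨_, hconjC g g.2 y₀⟩ : C) * y₀⁻¹ with hadef
          have hpk : ¬ p ∣ k := by
            rintro ⟨c, rfl⟩
            apply hy₀
            rw [MonoidHom.pow_apply, pow_mul, ← map_pow, (hlam1 _).2, one_pow]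
            push_cast
            rw [← pow_mul, mul_comm p h, pow_mul]
            have := hpow y₀
            have h2 : (⟨_, this⟩ : P) ^ p = 1 := by rw [← hP]; exact pow_card_eq_one'
            simpa using congrArg Subtype.val h2
          have h1 : lam (a ^ k) = 1 := by
            rw [hadef, map_pow, map_mul, mul_pow, show lam (⟨_, hconjC g g.2 y₀⟩ : C) ^ k =
              lam y₀ ^ k from hf, ← mul_pow, ← map_mul, mul_inv_cancel, map_one, one_pow]
          rw [hlam1] at h1
          have h2 : (a : G) ^ h = 1 := by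
            have hh : ((⟨_, hpow a⟩ : P)) ^ k = 1 := Subtype.ext (by
              simp only [SubmonoidClass.coe_pow, OneMemClass.coe_one] at h1 ⊢
              rw [← pow_mul, mul_comm, pow_mul]; simpa using h1)
            have hd : orderOf (⟨_, hpow a⟩ : P) ∣ Nat.gcd p k :=
              Nat.dvd_gcd (hP ▸ orderOf_dvd_natCard _) (orderOf_dvd_of_pow_eq_one hh)
            rw [(hp.coprime_iff_not_dvd.2 hpk).gcd_eq_one, Nat.dvd_one, orderOf_eq_one_iff] at hd
            exact congrArg Subtype.val hd
          have h3 := mul_pow_of_mem_centralizer hp P hP hC'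
            (hmemC (hconjC g g.2 y₀)) (hmemC (C.inv_mem y₀.2))
          have h4 : ((g : G)⁻¹ * y₀ * g) ^ h = (g : G)⁻¹ * (y₀ : G) ^ h * g := by
            simpa using conj_pow (a := (g : G)⁻¹) (b := (y₀ : G)) (i := h)
          have h5 : ((g : G)⁻¹ * y₀ * g) ^ h * ((y₀ : G)⁻¹) ^ h = 1 := by
            rw [← h3]; simpa [hadef] using h2
          rw [inv_pow, mul_inv_eq_one, h4] at h5
          exact h5
        refine hmemC' (Subgroup.mem_centralizer_iff.2 fun b hb => ?_)
        obtain ⟨i, hi⟩ := Subgroup.mem_zpowers_iff.1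
          (mem_zpowers_of_prime_card (g := (⟨_, hpow y₀⟩ : P)) (g' := ⟨b, hb⟩) hP
            (fun h1 => hy₁ (congrArg Subtype.val h1)))
        have hi' : ((y₀ : G) ^ h) ^ i = b := by simpa using congrArg Subtype.val hi
        have hb2 : (g : G)⁻¹ * b * g = b := by
          rw [← hi']
          have := conj_zpow (a := (g : G)⁻¹) (b := (y₀ : G) ^ h) (i := i)
          simp only [inv_inv] at this
          rw [← this, hcases]
        have hb3 : b * g = g * b := by
          conv_rhs => rw [← hb2]
          group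
        simpa [hg] using hb3
      · intro a b hab
        have := congrArg Subtype.val hab
        simp only [mul_right_inj] at this
        exact Subtype.ext (Subtype.ext this)
      · intro c
        have hcN : (c : G) ∈ N := Subgroup.centralizer_le_normalizer _ (hmemC c.2)
        refine ⟨⟨⟨(x₀ : G) * c, N.mul_mem x₀.2 hcN⟩, ?_⟩, Subtype.ext (by simp)⟩
        simp only [hSdef, Finset.mem_filter, Finset.mem_univ, true_and]
        rw [hx₀']
        ext y
        simp only [hLdef, MonoidHom.comp_apply, MonoidHom.pow_apply]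
        have hw : conjX ⟨(x₀ : G) * c, N.mul_mem x₀.2 hcN⟩ y = c⁻¹ * conjX x₀ y * c := by
          apply Subtype.ext
          show ((x₀ : G) * c)⁻¹ * y * ((x₀ : G) * c) = (c : G)⁻¹ * ((x₀ : G)⁻¹ * y * x₀) * c
          group
        rw [hw, map_mul, map_mul, mul_right_comm, ← map_mul, inv_mul_cancel, map_one, one_mul]
    refine ⟨?_, (x₀ : G), x₀.2, fun y z hz => ?_⟩
    · rw [hval, hSC, hN']; field_simp
    · have h1 := DFunLike.congr_fun hx₀' y
      simp only [hLdef, MonoidHom.comp_apply, MonoidHom.pow_apply] at h1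
      rw [h1]
      exact congrArg (fun w => lam w ^ k) (Subtype.ext hz.symm)

end Cfsg.Agent.Lib.SylowCounting
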