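import Cfsg.Agent.Lib.SylowCounting.DegreeEquation

/-!
# The degree equation for a self-centralizing Sylow subgroup with inertial index three

If `P` has prime order `p`, `C(P) = P`, `|N(P) : P| = 3` and there are at least five classes of
`N(P)` on `P`, two irreducible degrees `d₁`, `d₂` are `± 1` modulo `p` and a third degree is
`| 1 ± d₁ ± d₂ |`.
-/

namespace Cfsg.Agent.Lib.SylowCounting

open Cfsg.Agent.Lib.Characters
open scoped ComplexConjugate

set_option linter.unusedSectionVars false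
set_option linter.style.haveILetI false

universe u

variable {ι : Type*} [Fintype ι]

/-- An integer vector of square sum three has three entries, all `± 1`. -/
theorem three_support [DecidableEq ι] (c : ι → ℤ) (h : ∑ i, c i ^ 2 = 3) :
    (∀ i, c i = -1 ∨ c i = 0 ∨ c i = 1) ∧ (Finset.univ.filter fun i => c i ≠ 0).card = 3 := by
  have hle : ∀ i, c i = -1 ∨ c i = 0 ∨ c i = 1 := by
    intro i
    have h1 : c i ^ 2 ≤ 3 := h ▸ Finset.single_le_sum (f := fun i => c i ^ 2)
      (fun j _ => sq_nonneg (c j)) (Finset.mem_univ i)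
    have h2 : -1 ≤ c i ∧ c i ≤ 1 := by constructor <;> nlinarith
    omega
  refine ⟨hle, ?_⟩
  have hval : ∀ i, c i ^ 2 = if c i ≠ 0 then 1 else 0 := by
    intro i
    rcases hle i with e | e | e <;> simp [e]
  rw [Finset.sum_congr rfl fun i _ => hval i, Finset.sum_boole] at h
  exact_mod_cast h

/-- Two sign vectors with three entries and inner product two or three. -/
theorem three_meet [DecidableEq ι] (c c' : ι → ℤ) (h : ∑ i, c i ^ 2 = 3) (h' : ∑ i, c' i ^ 2 = 3)
    (hd : (∑ i, c i * c' i) = 2 ∨ (∑ i, c i * c' i) = 3) :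
    (∀ i, c i ≠ 0 → c' i ≠ 0 → c' i = c i) ∧
    2 ≤ ((Finset.univ.filter fun i => c i ≠ 0) ∩ (Finset.univ.filter fun i => c' i ≠ 0)).card ∧
    ((∑ i, c i * c' i) = 2 →
      (Finset.univ.filter fun i => c i ≠ 0) ≠ (Finset.univ.filter fun i => c' i ≠ 0)) := by
  obtain ⟨hv, hc⟩ := three_support c h
  obtain ⟨hv', hc'⟩ := three_support c' h'
  set A := Finset.univ.filter fun i => c i ≠ 0 with hA
  set B := Finset.univ.filter fun i => c' i ≠ 0 with hB
  have hdot : ∑ i, c i * c' i = ∑ i ∈ A ∩ B, c i * c' i := by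
    refine (Finset.sum_subset (Finset.subset_univ _) fun i _ hi => ?_).symm
    simp only [Finset.mem_inter, hA, hB, Finset.mem_filter, Finset.mem_univ, true_and] at hi
    rw [not_and_or, not_not, not_not] at hi
    rcases hi with e | e <;> simp [e]
  have hone : ∀ i ∈ A ∩ B, c i * c' i ≤ 1 ∧ (c i * c' i = 1 ∨ c i * c' i = -1) := by
    intro i hi
    simp only [Finset.mem_inter, hA, hB, Finset.mem_filter, Finset.mem_univ, true_and] at hi
    rcases hv i with e | e | e <;> rcases hv' i with e' | e' | e' <;> simp_all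
  have hle : (∑ i ∈ A ∩ B, c i * c' i) ≤ ((A ∩ B).card : ℤ) := by
    have := Finset.sum_le_card_nsmul _ _ 1 fun i hi => (hone i hi).1
    simpa using this
  have hcard : (A ∩ B).card ≤ 3 := hc ▸ Finset.card_le_card Finset.inter_subset_left
  have h2 : 2 ≤ (A ∩ B).card := by omega
  have hall : ∀ i ∈ A ∩ B, c i * c' i = 1 := by
    intro i hi
    refine (hone i hi).2.resolve_right fun e => ?_
    rw [← Finset.add_sum_erase _ _ hi, e] at hdot
    have h3 := Finset.sum_le_card_nsmul ((A ∩ B).erase i) (fun i => c i * c' i) 1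
      fun j hj => (hone j (Finset.mem_of_mem_erase hj)).1
    rw [Finset.card_erase_of_mem hi] at h3
    simp only [nsmul_eq_mul, mul_one] at h3
    omega
  refine ⟨fun i hi hi' => ?_, h2, fun hd2 heq => ?_⟩
  · have := hall i (by simp [hA, hB, hi, hi'])
    rcases hv i with e | e | e <;> rcases hv' i with e' | e' | e' <;> simp_all
  · rw [hdot, Finset.sum_congr rfl hall, Finset.sum_const, ← heq, Finset.inter_self, hc] at hd2
    norm_num at hd2

/-- Five three-entry vectors meeting pairwise in two entries have two common entries, which are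
shared by every vector meeting all of them. -/
theorem exists_core [DecidableEq ι] {κ : Type*} [DecidableEq κ] (v : κ → ι → ℤ) (T : Finset κ)
    (hT : 5 ≤ T.card) (hnorm : ∀ k, ∑ i, v k i ^ 2 = 3)
    (hdot : ∀ j ∈ T, ∀ k, (∑ i, v j i * v k i) = 2 ∨ (∑ i, v j i * v k i) = 3)
    (hdist : ∀ j ∈ T, ∀ k ∈ T, j ≠ k → (∑ i, v j i * v k i) = 2) :
    ∃ k₁ ∈ T, ∃ a b, a ≠ b ∧ v k₁ a ^ 2 = 1 ∧ v k₁ b ^ 2 = 1 ∧
      ∀ k, v k a = v k₁ a ∧ v k b = v k₁ b := by
  obtain ⟨k₁, hk₁⟩ := Finset.card_pos.1 (by omega : 0 < T.card)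
  refine ⟨k₁, hk₁, ?_⟩
  set s : κ → Finset ι := fun k => Finset.univ.filter fun i => v k i ≠ 0 with hs
  have hmem : ∀ k i, i ∈ s k ↔ v k i ≠ 0 := fun k i => by simp [hs]
  have hs3 : ∀ k, (s k).card = 3 := fun k => (three_support _ (hnorm k)).2
  have hmeet := fun j (hj : j ∈ T) k => three_meet _ _ (hnorm j) (hnorm k) (hdot j hj k)
  -- each other vector misses an entry of the first
  have hmiss : ∀ k ∈ T.erase k₁, ∃ r, r ∈ s k₁ ∧ r ∉ s k := by
    intro k hk
    obtain ⟨hne, hkT⟩ := Finset.mem_erase.1 hk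
    by_contra hcon
    push Not at hcon
    exact (hmeet k₁ hk₁ k).2.2 (hdist k₁ hk₁ k hkT hne.symm)
      (Finset.eq_of_subset_of_card_le hcon (by rw [hs3, hs3]))
  haveI : Nonempty ι := by
    obtain ⟨i, -⟩ := Finset.card_pos.1 (show 0 < (s k₁).card by rw [hs3]; omega)
    exact ⟨i⟩
  choose! r hr using hmiss
  obtain ⟨k, hk, l, hl, hkl, hrkl⟩ :=
    Finset.exists_ne_map_eq_of_card_lt_of_maps_to (s := T.erase k₁) (t := s k₁) (f := r)
      (by rw [hs3, Finset.card_erase_of_mem hk₁]; omega) fun x hx => (hr x hx).1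
  obtain ⟨hr1, hrk⟩ := hr k hk
  have hrl : r k ∉ s l := hrkl ▸ (hr l hl).2
  obtain ⟨-, hkT⟩ := Finset.mem_erase.1 hk
  obtain ⟨-, hlT⟩ := Finset.mem_erase.1 hl
  -- the core
  have hKcard : ((s k₁).erase (r k)).card = 2 := by rw [Finset.card_erase_of_mem hr1, hs3]
  have hsub : ∀ q ∈ T.erase k₁, r k ∉ s q → (s k₁).erase (r k) ⊆ s q := by
    intro q hq hrq i hi
    have h1 : s k₁ ∩ s q ⊆ (s k₁).erase (r k) := fun j hj => Finset.mem_erase.2
      ⟨fun e => hrq (e ▸ (Finset.mem_inter.1 hj).2), (Finset.mem_inter.1 hj).1⟩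
    have h2 := (hmeet k₁ hk₁ q).2.1
    have heq := Finset.eq_of_subset_of_card_le h1 (by rw [hKcard]; exact h2)
    exact (Finset.mem_inter.1 (heq.symm ▸ hi : i ∈ s k₁ ∩ s q)).2
  have hKk := hsub k hk hrk
  have hKl := hsub l hl hrl
  have hall : ∀ w, (s k₁).erase (r k) ⊆ s w := by
    intro w i hi
    by_contra hiw
    -- then `w` contains the third entries of `k` and `l`
    have hall3 : ∀ q ∈ T, i ∈ s q → (s q).erase i ⊆ s w := by
      intro q hq hiq
      have h1 : s q ∩ s w ⊆ (s q).erase i := fun j hj => Finset.mem_erase.2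
        ⟨fun e => hiw (e ▸ (Finset.mem_inter.1 hj).2), (Finset.mem_inter.1 hj).1⟩
      have heq := Finset.eq_of_subset_of_card_le h1
        (by rw [Finset.card_erase_of_mem hiq, hs3]; exact (hmeet q hq w).2.1)
      exact fun j hj => (Finset.mem_inter.1 (heq.symm ▸ hj : j ∈ s q ∩ s w)).2
    have hi1 : i ∈ s k₁ := (Finset.mem_erase.1 hi).2
    have e1 := hall3 k₁ hk₁ hi1
    have e2 := hall3 k hkT (hKk hi)
    have e3 := hall3 l hlT (hKl hi)
    have hU : (s k₁).erase i ∪ ((s k).erase i ∪ (s l).erase i) ⊆ s w :=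
      Finset.union_subset e1 (Finset.union_subset e2 e3)
    have hc := Finset.card_le_card hU
    rw [hs3] at hc
    have hw : s w = (s k₁).erase i ∪ ((s k).erase i ∪ (s l).erase i) :=
      (Finset.eq_of_subset_of_card_le hU (by
        rw [hs3]
        have h4 : insert (r k) ((s k).erase i) ⊆
            (s k₁).erase i ∪ ((s k).erase i ∪ (s l).erase i) := by
          intro j hj
          rcases Finset.mem_insert.1 hj with rfl | hj
          · exact Finset.mem_union_left _ (Finset.mem_erase.2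
              ⟨(Finset.mem_erase.1 hi).1.symm, hr1⟩)
          · exact Finset.mem_union_right _ (Finset.mem_union_left _ hj)
        have h5 := Finset.card_le_card h4
        rwa [Finset.card_insert_of_notMem (fun h => hrk (Finset.mem_of_mem_erase h)),
          Finset.card_erase_of_mem (hKk hi), hs3] at h5)).symm
    -- `insert r` of both third entries gives at most three elements
    have h6 : insert (r k) ((s k).erase i ∪ (s l).erase i) ⊆ s w := by
      intro j hj
      rcases Finset.mem_insert.1 hj with rfl | hj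
      · exact e1 (Finset.mem_erase.2 ⟨(Finset.mem_erase.1 hi).1.symm, hr1⟩)
      · rcases Finset.mem_union.1 hj with hj | hj
        · exact e2 hj
        · exact e3 hj
    have h7 := Finset.card_le_card h6
    rw [hs3, Finset.card_insert_of_notMem (fun h => by
      rcases Finset.mem_union.1 h with h | h
      · exact hrk (Finset.mem_of_mem_erase h)
      · exact hrl (Finset.mem_of_mem_erase h))] at h7
    have h8 : (s k).erase i = (s k).erase i ∪ (s l).erase i :=
      Finset.eq_of_subset_of_card_le Finset.subset_union_left (by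
        rw [Finset.card_erase_of_mem (hKk hi), hs3]; omega)
    have h9 : s l ⊆ s k := by
      intro j hj
      by_cases hji : j = i
      · exact hji ▸ hKk hi
      · exact Finset.mem_of_mem_erase
          (h8.symm ▸ Finset.mem_union_right _ (Finset.mem_erase.2 ⟨hji, hj⟩) :
            j ∈ (s k).erase i)
    exact (hmeet l hlT k).2.2 (hdist l hlT k hkT hkl.symm)
      (Finset.eq_of_subset_of_card_le h9 (by rw [hs3, hs3]))
  obtain ⟨a, b, hab, hK⟩ := Finset.card_eq_two.1 hKcard
  have ha : a ∈ (s k₁).erase (r k) := by rw [hK]; simp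
  have hb : b ∈ (s k₁).erase (r k) := by rw [hK]; simp
  have hsq : ∀ i, i ∈ s k₁ → v k₁ i ^ 2 = 1 := by
    intro i hi
    rcases (three_support _ (hnorm k₁)).1 i with e | e | e
    · rw [e]; norm_num
    · exact absurd e ((hmem _ _).1 hi)
    · rw [e]; norm_num
  refine ⟨a, b, hab, hsq a (Finset.mem_of_mem_erase ha), hsq b (Finset.mem_of_mem_erase hb),
    fun w => ⟨?_, ?_⟩⟩
  · exact (hmeet k₁ hk₁ w).1 a ((hmem _ _).1 (Finset.mem_of_mem_erase ha))
      ((hmem _ _).1 (hall w ha))
  · exact (hmeet k₁ hk₁ w).1 b ((hmem _ _).1 (Finset.mem_of_mem_erase hb))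
      ((hmem _ _).1 (hall w hb))

section Group

variable {G : Type u} [Group G]

set_option maxHeartbeats 1000000 in
-- one long proof
/-- The degree equation for a Sylow subgroup `P` of prime order `p` with `C(P) = P` and
`|N(P) : P| = 3`, given exponents with five pairwise different cubes modulo `p`. -/
theorem degree_equation_three [Finite G] [IsSimpleGroup G] (hG : ¬ IsMulCommutative G) {p : ℕ}
    (hp : p.Prime) (P : Subgroup G) (hP : Nat.card P = p)
    (hC : Nat.card (Subgroup.centralizer (P : Set G)) = p)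
    (hN : Nat.card (Subgroup.normalizer (P : Set G)) = 3 * p)
    (T : Finset ℕ) (hT : 5 ≤ T.card) (hTp : ∀ k ∈ T, k % p ≠ 0)
    (hTcube : ∀ j ∈ T, ∀ k ∈ T, j ≠ k → j ^ 3 % p ≠ k ^ 3 % p) :
    ∃ d₁ d₂ f : ℕ, 1 < d₁ ∧ 1 < d₂ ∧ 1 < f ∧
      d₁ ∣ Nat.card G ∧ d₂ ∣ Nat.card G ∧ f ∣ Nat.card G ∧
      1 + d₁ ^ 2 + d₂ ^ 2 + f ^ 2 ≤ Nat.card G ∧
      ∃ ε₁ ε₂ : ℤ, ε₁ ^ 2 = 1 ∧ ε₂ ^ 2 = 1 ∧ (p : ℤ) ∣ (d₁ : ℤ) - ε₁ ∧ (p : ℤ) ∣ (d₂ : ℤ) - ε₂ ∧
        (ε₁ * d₁ + ε₂ * d₂ + 1).natAbs = f := by
  classical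
  haveI := Fintype.ofFinite G
  haveI := Fintype.ofFinite (IrrCharacter G)
  haveI := Fact.mk hp
  haveI : IsCyclic P := isCyclic_of_prime_card hP
  set C := Subgroup.centralizer (P : Set G) with hCdef
  set N := Subgroup.normalizer (P : Set G) with hNdef
  have hC1 : Nat.card C = p * 1 := by rw [mul_one, hC]
  obtain ⟨lam, hlam1, hlamp, hlamu⟩ :
      ∃ lam : C →* ℂ, (∀ y : C, lam y = 1 ↔ (y : G) ^ 1 = 1) ∧ (∀ y : C, lam y ^ p = 1) ∧
        ∀ y z : C, ∀ u : ℕ, (z : G) ^ 1 = ((y : G) ^ 1) ^ u → lam z = lam y ^ u :=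
    exists_lam hp P hP hC1
  have hPC : P ≤ C := fun a ha => Subgroup.mem_centralizer_iff.2 fun b hb =>
    congrArg Subtype.val ((IsCyclic.commGroup (α := P)).mul_comm ⟨b, hb⟩ ⟨a, ha⟩)
  have hCP : ∀ {z : G}, z ∈ C → z ∈ P := fun hz => by
    have := pow_mem_of_mem_centralizer hp P hP hC1 hz
    rwa [pow_one] at this
  have hlam1' : ∀ y : C, lam y = 1 ↔ y = 1 := fun y => by
    rw [hlam1, pow_one]; exact ⟨fun h => Subtype.ext h, fun h => by rw [h]; rfl⟩
  haveI : Nontrivial P := Finite.one_lt_card_iff_nontrivial.1 (hP ▸ hp.one_lt)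
  obtain ⟨g0, hg0⟩ := exists_ne (1 : P)
  set g : C := ⟨(g0 : G), hPC g0.2⟩ with hgdef
  have hgord : orderOf g = p := by
    rw [← Subgroup.orderOf_coe]
    show orderOf (g0 : G) = p
    rw [Subgroup.orderOf_coe]
    exact orderOf_eq_prime (by rw [← hP]; exact pow_card_eq_one') hg0
  have hlamne : ∀ k : ℕ, ¬ p ∣ k → lam ^ k ≠ 1 := fun k hk h1 => by
    have h2 := DFunLike.congr_fun h1 g
    rw [MonoidHom.pow_apply, MonoidHom.one_apply, ← map_pow, hlam1'] at h2
    exact hk (hgord ▸ orderOf_dvd_of_pow_eq_one h2)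
  set θ : ℕ → C → ℂ := fun k y => 1 - lam y ^ k with hθ
  have hθgen : ∀ k, IsGeneralizedCharacter C (θ k) := fun k =>
    ⟨((1 : C →* ℂ) : C → ℂ), ((lam ^ k : C →* ℂ) : C → ℂ),
      IsIrrCharacter.isCharacter (isIrrCharacter_monoidHom _),
      IsIrrCharacter.isCharacter (isIrrCharacter_monoidHom _),
      by funext y; simp [hθ]⟩
  set R : ℕ → G → ℂ := fun k => Cfsg.indFun C (θ k) with hR
  choose c hcR hc using fun k => IsGeneralizedCharacter.exists_int_decomp
    (IsGeneralizedCharacter.indFun C (hθgen k))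
  choose D hDpos hD hDdvd using fun χ : IrrCharacter G =>
    IsIrrCharacter.exists_degree_dvd χ.2
  set K := {k : ℕ // ¬ p ∣ k}
  have htriv : ∀ k : K, c k (trivIrr G) = 1 := by
    intro k
    have h1 : classInner (R k) ((trivIrr G : IrrCharacter G) : G → ℂ) = 1 := by
      show classInner (Cfsg.indFun C (θ k)) _ = 1
      rw [classInner_indFun C _ (irr_isClassFunction _)]
      have e1 : (fun h : C => ((trivIrr G : IrrCharacter G) : G → ℂ) h) =
          ((1 : C →* ℂ) : C → ℂ) := by funext y; simp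
      have e2 : θ k = ((1 : C →* ℂ) : C → ℂ) - ((lam ^ (k : ℕ) : C →* ℂ) : C → ℂ) := by
        funext y; simp [hθ]
      rw [e1, e2, classInner_sub_left, classInner_hom_hom, classInner_hom_hom, if_pos rfl,
        if_neg (hlamne k k.2), sub_zero]
    rw [hc] at h1
    exact_mod_cast h1
  set v : K → IrrCharacter G → ℤ := fun k χ => if χ = trivIrr G then 0 else c k χ with hv
  have hsplit : ∀ (k : K) (f : IrrCharacter G → ℤ),
      ∑ χ, c k χ * f χ = f (trivIrr G) + ∑ χ, v k χ * f χ := by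
    intro k f
    rw [← Finset.add_sum_erase Finset.univ _ (Finset.mem_univ (trivIrr G)), htriv, one_mul,
      ← Finset.add_sum_erase Finset.univ (fun χ => v k χ * f χ) (Finset.mem_univ (trivIrr G))]
    simp only [hv, if_pos rfl, zero_mul, zero_add]
    congr 1
    refine Finset.sum_congr rfl fun χ hχ => ?_
    rw [if_neg (Finset.ne_of_mem_erase hχ)]
  have hdeg : ∀ k : K, ∑ χ, v k χ * (D χ : ℤ) = -1 := by
    intro k
    have h1 := congrFun (hcR k) 1
    rw [indFun_one, Finset.sum_apply] at h1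
    simp only [one_pow, map_one, sub_self, mul_zero, hθ] at h1
    have h2 : ∑ χ, c k χ * (D χ : ℤ) = 0 := by
      have h3 : ((∑ χ, c k χ * (D χ : ℤ) : ℤ) : ℂ) = ((0 : ℤ) : ℂ) := by
        push_cast; rw [h1]
        exact Finset.sum_congr rfl fun χ _ => by rw [Pi.smul_apply, smul_eq_mul, hD]
      exact_mod_cast h3
    rw [hsplit] at h2
    have ht : D (trivIrr G) = 1 := by
      have := hD (trivIrr G); rw [trivIrr_apply] at this; exact_mod_cast this.symm
    rw [ht] at h2; push_cast at h2; omega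
  have hdotR : ∀ j k : K, classInner (R j) (R k) = ((1 + ∑ χ, v j χ * v k χ : ℤ) : ℂ) := by
    intro j k
    have h2 : classInner (R j) (R k) = ((∑ χ, c j χ * c k χ : ℤ) : ℂ) := by
      rw [classInner_eq_sum_irr (isClassFunction_indFun C _) (isClassFunction_indFun C _)]
      push_cast
      exact Finset.sum_congr rfl fun χ _ => by rw [hc, hc, map_intCast]
    rw [h2, hsplit, htriv]
    have : ∑ χ, v j χ * c k χ = ∑ χ, v j χ * v k χ := Finset.sum_congr rfl fun χ _ => by
      simp only [hv]; split_ifs <;> simp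
    rw [this]
  have hN3 : Nat.card N = 3 * (p * 1) := by rw [mul_one, hN]
  have hrel : ∀ j k : K, ((∑ χ, v j χ * v k χ) = 2 ∧
      ¬ ∃ x ∈ N, ∀ y z : C, (z : G) = x⁻¹ * y * x → lam y ^ (j : ℕ) = lam z ^ (k : ℕ)) ∨
      ((∑ χ, v j χ * v k χ) = 3 ∧
      ∃ x ∈ N, ∀ y z : C, (z : G) = x⁻¹ * y * x → lam y ^ (j : ℕ) = lam z ^ (k : ℕ)) := by
    intro j k
    rcases classInner_family hp P hP C rfl hC1 lam hlam1 hN3 j k
      (hlamne j j.2) (hlamne k k.2) with ⟨h1, h2⟩ | ⟨h1, h2⟩
    · refine Or.inl ⟨?_, h2⟩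
      have h3 : ((1 + ∑ χ, v j χ * v k χ : ℤ) : ℂ) = ((3 : ℤ) : ℂ) := by
        rw [← hdotR]; push_cast; exact_mod_cast h1
      have := Int.cast_injective h3
      omega
    · refine Or.inr ⟨?_, h2⟩
      have h3 : ((1 + ∑ χ, v j χ * v k χ : ℤ) : ℂ) = ((4 : ℤ) : ℂ) := by
        rw [← hdotR]; push_cast; rw [show (4 : ℂ) = ((3 : ℕ) : ℂ) + 1 by norm_num]; exact h1
      have := Int.cast_injective h3
      omega
  have hnorm : ∀ k : K, ∑ χ, v k χ ^ 2 = 3 := by
    intro k
    rcases hrel k k with ⟨-, h2⟩ | ⟨h1, -⟩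
    · exact absurd ⟨1, Subgroup.one_mem _, fun y z hz => by
        rw [show z = y from Subtype.ext (by simpa using hz)]⟩ h2
    · rw [← h1]; exact Finset.sum_congr rfl fun χ _ => sq _
  -- related exponents have equal cubes
  have hcube : ∀ j k : K, (∃ x ∈ N, ∀ y z : C, (z : G) = x⁻¹ * y * x →
      lam y ^ (j : ℕ) = lam z ^ (k : ℕ)) → (j : ℕ) ^ 3 % p = (k : ℕ) ^ 3 % p := by
    rintro j k ⟨x, hx, hxx⟩
    obtain ⟨u, hu⟩ := exists_conj_pow hp P hP hx
    have hconj : ∀ a ∈ P, x⁻¹ * a * x = a ^ u := hu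
    have hz : ((g ^ u : C) : G) = x⁻¹ * (g : G) * x := by
      rw [SubmonoidClass.coe_pow, hconj _ (hCP g.2)]
    have h1 := hxx g (g ^ u) hz
    rw [← map_pow, ← map_pow, ← pow_mul] at h1
    have h2 : lam (g ^ (j : ℕ) * (g ^ (u * (k : ℕ)))⁻¹) = 1 := by
      rw [map_mul, h1, ← map_mul, mul_inv_cancel, map_one]
    rw [hlam1', mul_inv_eq_one, pow_eq_pow_iff_modEq, hgord] at h2
    -- the cube of `x` centralizes `P`
    have hidx : ((P).subgroupOf N).index = 3 := by
      have h4 := (P.subgroupOf N).index_mul_card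
      rw [hN, Nat.card_congr (Subgroup.subgroupOfEquivOfLe Subgroup.le_normalizer).toEquiv,
        hP] at h4
      exact Nat.eq_of_mul_eq_mul_right hp.pos h4
    haveI : (P.subgroupOf N).Normal := Subgroup.normal_in_normalizer
    have hx3 : x ^ 3 ∈ P := by
      have h4 := Subgroup.pow_index_mem (P.subgroupOf N) (⟨x, hx⟩ : N)
      rw [hidx, Subgroup.mem_subgroupOf] at h4
      exact h4
    have hiter : ∀ a ∈ P, x⁻¹ * (x⁻¹ * (x⁻¹ * a * x) * x) * x = a := by
      intro a ha
      have h4 := Subgroup.mem_centralizer_iff.1 (hPC hx3) a ha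
      calc x⁻¹ * (x⁻¹ * (x⁻¹ * a * x) * x) * x = (x ^ 3)⁻¹ * (a * x ^ 3) := by
            rw [pow_three]; group
        _ = a := by rw [h4]; group
    have hgP := hCP g.2
    have h5 : (g : G) ^ (u * u * u) = (g : G) ^ 1 := by
      have hm : ∀ a ∈ P, x⁻¹ * a * x ∈ P := fun a ha => by
        rw [hconj a ha]; exact P.pow_mem ha u
      rw [pow_one, pow_mul, pow_mul, ← hconj _ hgP, ← hconj _ (hm _ hgP),
        ← hconj _ (hm _ (hm _ hgP))]
      exact hiter _ hgP
    rw [← SubmonoidClass.coe_pow, ← SubmonoidClass.coe_pow, Subtype.coe_inj, pow_eq_pow_iff_modEq,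
      hgord] at h5
    have h6 : (j : ℕ) ^ 3 ≡ (u * u * u) * (k : ℕ) ^ 3 [MOD p] := by
      have h7 := h2.pow 3
      rwa [mul_pow, show u ^ 3 = u * u * u by ring] at h7
    exact h6.trans (by simpa using h5.mul_right ((k : ℕ) ^ 3))
  set T' : Finset K := T.attach.image fun k => (⟨k.1, fun hd =>
    hTp k.1 k.2 (Nat.dvd_iff_mod_eq_zero.1 hd)⟩ : K) with hT'
  have hT'c : 5 ≤ T'.card := by
    rw [hT', Finset.card_image_of_injective, Finset.card_attach]
    · exact hT
    · intro a b hab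
      exact Subtype.ext (congrArg (fun z : K => (z : ℕ)) hab)
  have hT'mem : ∀ k ∈ T', (k : ℕ) ∈ T := by
    intro k hk
    obtain ⟨j, -, rfl⟩ := Finset.mem_image.1 hk
    exact j.2
  obtain ⟨k₁, hk₁, a, b, hab, ha, hb, hall⟩ := exists_core v T' hT'c hnorm
    (fun j _ k => (hrel j k).imp And.left And.left)
    (fun j hj k hk hne => ((hrel j k).resolve_right fun h => hTcube j (hT'mem j hj) k (hT'mem k hk)
      (fun e => hne (Subtype.ext e)) (hcube j k h.2)).1)
  have hat : a ≠ trivIrr G := by intro h; rw [h] at ha; simp [hv] at ha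
  have hbt : b ≠ trivIrr G := by intro h; rw [h] at hb; simp [hv] at hb
  -- congruences
  have hcong : ∀ a : IrrCharacter G, a ≠ trivIrr G → (∀ k, v k a = v k₁ a) →
      (p : ℤ) ∣ (D a : ℤ) - v k₁ a := by
    intro a hat hall
    obtain ⟨m, hm⟩ := IsCharacter.exists_classInner_nat
      (IsIrrCharacter.isCharacter (isIrrCharacter_monoidHom (1 : C →* ℂ)))
      (IsCharacter.restrict (irr_isCharacter a) C)
    have h1 : ((∑ k ∈ Finset.range p, c k a : ℤ) : ℂ) =
        classInner (fun y : C => ∑ k ∈ Finset.range p, θ k y) (fun y : C => (a : G → ℂ) y) := by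
      rw [show (fun y : C => ∑ k ∈ Finset.range p, θ k y) = ∑ k ∈ Finset.range p, θ k from by
        funext y; rw [Finset.sum_apply], classInner_sum_left]
      push_cast
      refine Finset.sum_congr rfl fun k _ => ?_
      rw [← hc, ← classInner_indFun C (θ k) (irr_isClassFunction a)]
    have h2 : (fun y : C => ∑ k ∈ Finset.range p, θ k y) =
        fun y : C => (p : ℂ) * (1 - if y = 1 then 1 else 0) := by
      funext y
      simp only [hθ, Finset.sum_sub_distrib, Finset.sum_const, Finset.card_range, nsmul_eq_mul,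
        mul_one]
      split_ifs with hy
      · subst hy; simp
      · rw [geom_sum_eq (fun h => hy ((hlam1' y).1 h)), hlamp y]; simp
    have h3 : ((∑ k ∈ Finset.range p, c k a : ℤ) : ℂ) = (((p : ℤ) * m - D a : ℤ) : ℂ) := by
      rw [h1, h2]
      push_cast
      rw [← hm]
      have hterm : ∀ y : C, ((p : ℂ) * (1 - if y = 1 then 1 else 0)) * conj ((a : G → ℂ) y) =
          (p : ℂ) * (conj ((a : G → ℂ) y) - if y = 1 then conj ((a : G → ℂ) y) else 0) := by
        intro y; split_ifs <;> ring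
      simp only [classInner, hterm, MonoidHom.one_apply, one_mul]
      rw [← Finset.mul_sum, Finset.sum_sub_distrib, Finset.sum_ite_eq',
        if_pos (Finset.mem_univ _), OneMemClass.coe_one, hD, map_natCast, hC]
      have hp0 : (p : ℂ) ≠ 0 := by exact_mod_cast hp.ne_zero
      field_simp
    have h4 : ∑ k ∈ Finset.range p, c k a = (p : ℤ) * m - D a := by exact_mod_cast h3
    have hc0 : c 0 a = 0 := by
      have h5 : classInner (R 0) (a : G → ℂ) = 0 := by
        show classInner (Cfsg.indFun C (θ 0)) _ = 0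
        rw [classInner_indFun C _ (irr_isClassFunction _)]
        simp [classInner, hθ]
      rw [hc] at h5
      exact_mod_cast h5
    have h6 : ∑ k ∈ Finset.range p, c k a = ((p : ℤ) - 1) * v k₁ a := by
      rw [← Finset.add_sum_erase _ _ (Finset.mem_range.2 hp.pos), hc0, zero_add]
      rw [Finset.sum_congr rfl (fun k hk => ?_ : ∀ k ∈ (Finset.range p).erase 0,
        c k a = v k₁ a)]
      · rw [Finset.sum_const, Finset.card_erase_of_mem (Finset.mem_range.2 hp.pos),
          Finset.card_range, nsmul_eq_mul, Nat.cast_sub hp.one_le, Nat.cast_one]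
      · rw [Finset.mem_erase, Finset.mem_range] at hk
        have hnd : ¬ p ∣ k := fun h => by
          have := Nat.le_of_dvd (Nat.pos_of_ne_zero hk.1) h; omega
        have := hall ⟨k, hnd⟩
        simpa [hv, hat] using this
    refine ⟨m - v k₁ a, ?_⟩
    rw [mul_sub]; linarith [h4, h6]
  have hD2 : ∀ χ, χ ≠ trivIrr G → 1 < D χ := by
    intro χ hχ
    rcases Nat.lt_or_ge 1 (D χ) with h | h
    · exact h
    exfalso
    have h1 : D χ = 1 := le_antisymm h (hDpos χ)
    obtain ⟨l, hl⟩ := IsCharacter.exists_hom_of_apply_one (irr_isCharacter χ)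
      (by rw [hD, h1, Nat.cast_one])
    rcases eq_or_ne l.ker ⊤ with h2 | h2
    · apply hχ
      apply Subtype.ext
      funext y
      have : l y = 1 := by rw [← MonoidHom.mem_ker, h2]; exact Subgroup.mem_top y
      rw [hl]; simp [this]
    · apply hG
      have hbot : l.ker = ⊥ := (IsSimpleGroup.eq_bot_or_eq_top_of_normal l.ker
        (MonoidHom.normal_ker l)).resolve_right h2
      exact ⟨⟨fun y z => (MonoidHom.ker_eq_bot_iff l).1 hbot (by simp [mul_comm])⟩⟩
  -- the third entry
  obtain ⟨hvals, hs3⟩ := three_support _ (hnorm k₁)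
  set s := Finset.univ.filter fun χ => v k₁ χ ≠ 0 with hs
  have has : a ∈ s := by
    simp only [hs, Finset.mem_filter, Finset.mem_univ, true_and]; intro h; rw [h] at ha; simp at ha
  have hbs : b ∈ s.erase a := Finset.mem_erase.2 ⟨hab.symm, by
    simp only [hs, Finset.mem_filter, Finset.mem_univ, true_and]; intro h; rw [h] at hb; simp at hb⟩
  obtain ⟨x, hx⟩ := Finset.card_eq_one.1 (show ((s.erase a).erase b).card = 1 by
    rw [Finset.card_erase_of_mem hbs, Finset.card_erase_of_mem has, hs3])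
  have hxmem : x ∈ (s.erase a).erase b := by rw [hx]; simp
  simp only [Finset.mem_erase, hs, Finset.mem_filter, Finset.mem_univ, true_and] at hxmem
  obtain ⟨hxb, hxa, hxv⟩ := hxmem
  have hxt : x ≠ trivIrr G := by intro h; rw [h] at hxv; simp [hv] at hxv
  have hsum3 : ∀ F : IrrCharacter G → ℤ, (∀ χ, χ ∉ s → F χ = 0) → ∑ χ, F χ = F a + F b + F x := by
    intro F hF
    rw [← Finset.sum_subset (Finset.subset_univ s) (fun χ _ hχ => hF χ hχ),
      ← Finset.add_sum_erase _ _ has, ← Finset.add_sum_erase _ _ hbs, hx, Finset.sum_singleton,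
      add_assoc]
  have heq := hdeg k₁
  rw [hsum3 _ (fun χ hχ => by simp [hs] at hχ; simp [hχ])] at heq
  refine ⟨D a, D b, D x, hD2 a hat, hD2 b hbt, hD2 x hxt, hDdvd a, hDdvd b, hDdvd x, ?_,
    v k₁ a, v k₁ b, ha, hb, hcong a hat fun k => (hall k).1, hcong b hbt fun k => (hall k).2, ?_⟩
  · have h1 : ∑ χ, D χ ^ 2 = Nat.card G := by
      have := sum_degree_sq (G := G)
      rw [Finset.sum_congr rfl (fun χ _ => by rw [hD χ] :
        ∀ χ ∈ Finset.univ, (χ : IrrCharacter G).1 1 ^ 2 = ((D χ : ℕ) : ℂ) ^ 2)] at this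
      exact_mod_cast this
    have h2 : ∑ χ ∈ insert (trivIrr G) (insert a (insert b {x})), D χ ^ 2 ≤ Nat.card G :=
      h1 ▸ Finset.sum_le_sum_of_subset (Finset.subset_univ _)
    rw [Finset.sum_insert (by simp [hat.symm, hbt.symm, hxt.symm]),
      Finset.sum_insert (by simp [hab, hxa.symm]), Finset.sum_insert (by simp [hxb.symm]),
      Finset.sum_singleton,
      show D (trivIrr G) = 1 from by
        have := hD (trivIrr G); rw [trivIrr_apply] at this; exact_mod_cast this.symm] at h2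
    omega
  · rcases hvals x with e | e | e
    · rw [e] at heq; omega
    · exact absurd e hxv
    · rw [e] at heq; omega

end Group

end Cfsg.Agent.Lib.SylowCounting
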