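import Cfsg.Agent.Lib.SylowCounting.DegreeFamily

/-!
# Inner products of functions induced from the centralizer of a Sylow subgroup of prime order
-/

namespace Cfsg.Agent.Lib.SylowCounting

open Cfsg.Agent.Lib.Characters
open scoped ComplexConjugate

set_option linter.unusedSectionVars false
set_option linter.style.haveILetI false

universe u

variable {G : Type u} [Group G]

/-- Conjugation by `x ∈ N(P)` as an automorphism of `C(P)`. -/
noncomputable def conjC (P C : Subgroup G) (hCdef : C = Subgroup.centralizer (P : Set G))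
    (x : Subgroup.normalizer (P : Set G)) : C ≃* C where
  toFun y := ⟨(x : G)⁻¹ * y * x, by
    subst hCdef
    refine Subgroup.mem_centralizer_iff.2 fun b hb => ?_
    have hb' := (Subgroup.mem_normalizer_iff.1 x.2 b).1 hb
    have hc := Subgroup.mem_centralizer_iff.1 y.2 _ hb'
    calc b * ((x : G)⁻¹ * y * x) = (x : G)⁻¹ * (((x : G) * b * (x : G)⁻¹) * y) * x := by group
      _ = (x : G)⁻¹ * ((y : G) * ((x : G) * b * (x : G)⁻¹)) * x := by rw [hc]
      _ = ((x : G)⁻¹ * y * x) * b := by group⟩
  invFun y := ⟨(x : G) * y * (x : G)⁻¹, by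
    subst hCdef
    refine Subgroup.mem_centralizer_iff.2 fun b hb => ?_
    have hb' := (Subgroup.mem_normalizer_iff.1
      ((Subgroup.normalizer (P : Set G)).inv_mem x.2) b).1 hb
    rw [inv_inv] at hb'
    have hc := Subgroup.mem_centralizer_iff.1 y.2 _ hb'
    calc b * ((x : G) * y * (x : G)⁻¹) = (x : G) * (((x : G)⁻¹ * b * x) * y) * (x : G)⁻¹ := by group
      _ = (x : G) * ((y : G) * ((x : G)⁻¹ * b * x)) * (x : G)⁻¹ := by rw [hc]
      _ = ((x : G) * y * (x : G)⁻¹) * b := by group⟩
  left_inv y := Subtype.ext (by show (x : G) * ((x : G)⁻¹ * y * x) * (x : G)⁻¹ = y; group)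
  right_inv y := Subtype.ext (by show (x : G)⁻¹ * ((x : G) * y * (x : G)⁻¹) * x = y; group)
  map_mul' y z := Subtype.ext (by
    show (x : G)⁻¹ * ((y : G) * z) * x = ((x : G)⁻¹ * y * x) * ((x : G)⁻¹ * z * x)
    group)

@[simp] theorem conjC_coe (P C : Subgroup G) (hCdef : C = Subgroup.centralizer (P : Set G))
    (x : Subgroup.normalizer (P : Set G)) (y : C) :
    ((conjC P C hCdef x y : C) : G) = (x : G)⁻¹ * y * x := rfl

variable [Fintype G] {p h : ℕ}

/-- The inner product of two induced functions, the second one supported on elements whose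
`p`-part is nontrivial. -/
theorem classInner_ind_ind (hp : p.Prime) (P : Subgroup G) (hP : Nat.card P = p) (C : Subgroup G)
    [Fintype C] [Fintype (Subgroup.normalizer (P : Set G))]
    (hCdef : C = Subgroup.centralizer (P : Set G)) (hC : Nat.card C = p * h)
    (f f' : C → ℂ) (hf' : ∀ y : C, (y : G) ^ h = 1 → f' y = 0) :
    classInner (Cfsg.indFun C f) (Cfsg.indFun C f') =
      (Nat.card C : ℂ)⁻¹ * ∑ x : Subgroup.normalizer (P : Set G),
        classInner f (fun y => f' (conjC P C hCdef x y)) := by
  classical
  haveI := Fact.mk hp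
  have hC' : Nat.card (Subgroup.centralizer (P : Set G)) = p * h := by rw [← hCdef, hC]
  have hpow : ∀ y : C, (y : G) ^ h ∈ P := fun y =>
    pow_mem_of_mem_centralizer hp P hP hC' (hCdef ▸ y.2)
  set N := Subgroup.normalizer (P : Set G) with hNdef
  have hind : ∀ y : C, Cfsg.indFun C f' (y : G) =
      (Nat.card C : ℂ)⁻¹ * ∑ x : N, f' (conjC P C hCdef x y) := by
    intro y
    rw [indFun_apply]
    congr 1
    have hout : ∀ x : G, x ∉ N → extendByZero C f' (x⁻¹ * (y : G) * x) = 0 := by
      intro x hx
      by_cases hmem : x⁻¹ * (y : G) * x ∈ C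
      · rw [extendByZero_of_mem _ _ hmem]
        refine hf' _ ?_
        show (x⁻¹ * (y : G) * x) ^ h = 1
        by_contra hne
        apply hx
        have hzP : (x⁻¹ * (y : G) * x) ^ h ∈ P := hpow ⟨_, hmem⟩
        have hconj : (x⁻¹ * (y : G) * x) ^ h = x⁻¹ * (y : G) ^ h * x := by
          simpa using conj_pow (a := x⁻¹) (b := (y : G)) (i := h)
        rw [hconj] at hzP hne
        have hy1 : (y : G) ^ h ≠ 1 := fun h1 => hne (by rw [h1]; group)
        refine Subgroup.mem_normalizer_iff.2 fun a => ⟨fun ha => ?_, fun ha => ?_⟩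
        · obtain ⟨i, hi⟩ := Subgroup.mem_zpowers_iff.1
            (mem_zpowers_of_prime_card (g := (⟨_, hzP⟩ : P)) (g' := ⟨a, ha⟩) hP
              (fun h1 => hne (congrArg Subtype.val h1)))
          have hi' : (x⁻¹ * (y : G) ^ h * x) ^ i = a := by simpa using congrArg Subtype.val hi
          have hii : x * a * x⁻¹ = ((y : G) ^ h) ^ i := by
            rw [← hi']
            have := conj_zpow (a := x⁻¹) (b := (y : G) ^ h) (i := i)
            simp only [inv_inv] at this
            rw [this]; group
          rw [hii]; exact P.zpow_mem (hpow y) i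
        · obtain ⟨i, hi⟩ := Subgroup.mem_zpowers_iff.1
            (mem_zpowers_of_prime_card (g := (⟨_, hpow y⟩ : P)) (g' := ⟨x * a * x⁻¹, ha⟩) hP
              (fun h1 => hy1 (congrArg Subtype.val h1)))
          have hi' : ((y : G) ^ h) ^ i = x * a * x⁻¹ := by simpa using congrArg Subtype.val hi
          have hii : a = (x⁻¹ * (y : G) ^ h * x) ^ i := by
            have := conj_zpow (a := x⁻¹) (b := (y : G) ^ h) (i := i)
            simp only [inv_inv] at this
            rw [this, hi']; group
          rw [hii]; exact P.zpow_mem hzP i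
      · exact extendByZero_of_not_mem _ _ hmem
    rw [← Finset.sum_filter_add_sum_filter_not Finset.univ (fun x => x ∈ N),
      Finset.sum_eq_zero (s := Finset.univ.filter fun x => x ∉ N)
        (fun x hx => hout x (Finset.mem_filter.1 hx).2), add_zero,
      Finset.sum_subtype (p := fun x => x ∈ N) _ (by simp)]
    refine Finset.sum_congr rfl fun x _ => ?_
    exact extendByZero_coe C f' (conjC P C hCdef x y)
  rw [classInner_indFun C _ (isClassFunction_indFun C _)]
  simp only [hind]
  rw [show (fun y : C => (Nat.card C : ℂ)⁻¹ * ∑ x : N, f' (conjC P C hCdef x y)) =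
    (Nat.card C : ℂ)⁻¹ • ∑ x : N, (fun y : C => f' (conjC P C hCdef x y)) from by
      funext y; simp [Finset.sum_apply],
    classInner_smul_right, classInner_sum_right, map_inv₀, map_natCast]
  congr! 3

omit [Fintype G] in
/-- A linear character times an irreducible character is irreducible. -/
theorem isIrr_hom_mul {K : Type u} [Group K] [Fintype K] (L : K →* ℂ) {η : K → ℂ}
    (hη : IsIrrCharacter K η) : IsIrrCharacter K (fun y => L y * η y) := by
  have hLc := IsIrrCharacter.isCharacter (isIrrCharacter_monoidHom L)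
  refine (IsCharacter.isIrr_iff (IsCharacter.mul hLc (IsIrrCharacter.isCharacter hη))).2 ?_
  rw [← IsIrrCharacter.classInner_self hη]
  simp only [classInner]
  congr 1
  refine Finset.sum_congr rfl fun y _ => ?_
  have h1 : L y * conj (L y) = 1 := by
    rw [← IsCharacter.apply_inv hLc, ← map_mul, mul_inv_cancel, map_one]
  simp only [Pi.mul_apply, map_mul]
  linear_combination (η y * conj (η y)) * h1

omit [Fintype G] in
/-- The inner product of `(1 - A) η` and `(1 - B) η'` when `η`, `η'` are constant on `g`-cosets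
and `A`, `B` are nontrivial at `g`. -/
theorem classInner_twist {K : Type u} [Group K] [Fintype K] (g : K) (A B : K →* ℂ) {η η' : K → ℂ}
    (hA : A g ≠ 1) (hB : B g ≠ 1) (hη : IsIrrCharacter K η) (hη' : IsIrrCharacter K η')
    (hg : η g = η 1) (hg' : η' g = η' 1) [Decidable (η = η')]
    [Decidable ((fun y => A y * η y) = fun y => B y * η' y)] :
    classInner (fun y => (1 - A y) * η y) (fun y => (1 - B y) * η' y) =
      (if η = η' then 1 else 0) +
        (if (fun y => A y * η y) = (fun y => B y * η' y) then 1 else 0) := by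
  have e1 : (fun y => (1 - A y) * η y) = η - (fun y => A y * η y) := by funext y; simp; ring
  have e2 : (fun y => (1 - B y) * η' y) = η' - (fun y => B y * η' y) := by funext y; simp; ring
  have hAη := isIrr_hom_mul A hη
  have hBη := isIrr_hom_mul B hη'
  have hne : ∀ (L : K →* ℂ) {φ φ' : K → ℂ}, L g ≠ 1 → IsIrrCharacter K φ' → φ g = φ 1 →
      φ' g = φ' 1 → φ ≠ fun y => L y * φ' y := by
    intro L φ φ' hL hφ' h1 h2 heq
    have hg1 := congrFun heq g
    have h11 := congrFun heq 1
    simp only [map_one, one_mul] at h11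
    simp only [h2] at hg1
    rw [h1, h11] at hg1
    exact hL (mul_right_cancel₀ (IsIrrCharacter.apply_one_ne_zero hφ') (by rw [← hg1, one_mul]))
  rw [e1, e2, classInner_sub_left, classInner_sub_right, classInner_sub_right,
    IsIrrCharacter.classInner_ne hη hBη (hne B hB hη' hg hg'),
    IsIrrCharacter.classInner_ne hAη hη' (fun h' => hne A hA hη hg' hg h'.symm)]
  split_ifs with h1 h2 h3
  · subst h1
    rw [h2, IsIrrCharacter.classInner_self hη, IsIrrCharacter.classInner_self hBη]; ring
  · subst h1
    rw [IsIrrCharacter.classInner_self hη, IsIrrCharacter.classInner_ne hAη hBη h2]; ring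
  · rw [h3, IsIrrCharacter.classInner_ne hη hη' h1, IsIrrCharacter.classInner_self hBη]; ring
  · rw [IsIrrCharacter.classInner_ne hη hη' h1, IsIrrCharacter.classInner_ne hAη hBη h3]; ring

end Cfsg.Agent.Lib.SylowCounting
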