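import Cfsg.Prelude.Def_SporadicB
import Mathlib.GroupTheory.SpecificGroups.Alternating
import Mathlib.Tactic

/-!
A non-split double cover of `A_8` inside `GL_8(3) × GL_8(3)`, from the octonion multiplication matrices.
-/

set_option autoImplicit false

namespace Cfsg.Agent.Lib.SylowCounting.SpinEight

open Equiv

abbrev M8 := Matrix (Fin 8) (Fin 8) (ZMod 3)

def signs : List (List (ZMod 3)) :=
  [[1, 1, 1, 1, 1, 1, 1, 1], [1, -1, 1, -1, 1, -1, -1, 1], [1, -1, -1, 1, 1, 1, -1, -1],
    [1, 1, -1, -1, 1, -1, 1, -1], [1, -1, -1, -1, -1, 1, 1, 1], [1, 1, -1, 1, -1, -1, -1, 1],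
    [1, 1, 1, -1, -1, 1, -1, -1], [1, -1, 1, 1, -1, -1, 1, -1]]

/-- Left multiplication by the `i`-th basis octonion. -/
def C (i : Fin 8) : M8 :=
  Matrix.of fun r c => if r.val = Nat.xor i.val c.val then (signs.getD i.val []).getD c.val 0 else 0

theorem C_col_zero (i r : Fin 8) : C i r 0 = if r = i then 1 else 0 := by
  revert i r; decide +kernel

theorem C_zero : C 0 = 1 := by decide +kernel

theorem C_injective : Function.Injective C := by
  intro i j h
  have h1 := congrFun (congrFun h i) 0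
  rw [C_col_zero, C_col_zero, if_pos rfl] at h1
  by_contra hne
  rw [if_neg hne] at h1
  exact absurd h1 (by decide)

/-- Pairs intertwining the matrices `C i` according to a permutation. -/
def Rel (u : (M8 × M8)ˣ) (σ : Equiv.Perm (Fin 8)) : Prop :=
  ∀ i, (u : M8 × M8).1 * C i = C (σ i) * (u : M8 × M8).2

def Orth (u : (M8 × M8)ˣ) : Prop :=
  (u : M8 × M8).1.transpose * (u : M8 × M8).1 = 1 ∧ (u : M8 × M8).2.transpose * (u : M8 × M8).2 = 1

theorem Orth.mul {u v : (M8 × M8)ˣ} (hu : Orth u) (hv : Orth v) : Orth (u * v) := by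
  constructor
  · rw [Units.val_mul, Prod.fst_mul, Matrix.transpose_mul, Matrix.mul_assoc,
      ← Matrix.mul_assoc (u : M8 × M8).1.transpose, hu.1, Matrix.one_mul, hv.1]
  · rw [Units.val_mul, Prod.snd_mul, Matrix.transpose_mul, Matrix.mul_assoc,
      ← Matrix.mul_assoc (u : M8 × M8).2.transpose, hu.2, Matrix.one_mul, hv.2]

theorem Rel.mul {u v : (M8 × M8)ˣ} {σ τ : Equiv.Perm (Fin 8)} (hu : Rel u σ) (hv : Rel v τ) :
    Rel (u * v) (σ * τ) := fun i => by
  rw [Units.val_mul, Prod.fst_mul, Prod.snd_mul, Matrix.mul_assoc, hv i, ← Matrix.mul_assoc, hu,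
    Matrix.mul_assoc]
  rfl

theorem Rel.inv {u : (M8 × M8)ˣ} {σ : Equiv.Perm (Fin 8)} (hu : Rel u σ) : Rel u⁻¹ σ⁻¹ := fun i => by
  have h := hu (σ⁻¹ i)
  rw [show σ (σ⁻¹ i) = i from σ.apply_symm_apply i] at h
  have e1 : ((u⁻¹ : (M8 × M8)ˣ) : M8 × M8).1 * (u : M8 × M8).1 = 1 := congrArg Prod.fst u.inv_mul
  have e2 : (u : M8 × M8).2 * ((u⁻¹ : (M8 × M8)ˣ) : M8 × M8).2 = 1 := congrArg Prod.snd u.mul_inv
  calc ((u⁻¹ : (M8 × M8)ˣ) : M8 × M8).1 * C i
      = ((u⁻¹ : (M8 × M8)ˣ) : M8 × M8).1 * (C i * (u : M8 × M8).2) * ((u⁻¹ : (M8 × M8)ˣ) : M8 × M8).2 := by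
        rw [← Matrix.mul_assoc _ (C i), Matrix.mul_assoc _ _ ((u⁻¹ : (M8 × M8)ˣ) : M8 × M8).2, e2, Matrix.mul_one]
    _ = C (σ⁻¹ i) * ((u⁻¹ : (M8 × M8)ˣ) : M8 × M8).2 := by
        rw [← h, ← Matrix.mul_assoc _ (u : M8 × M8).1, e1, Matrix.one_mul]

theorem Orth.inv {u : (M8 × M8)ˣ} (hu : Orth u) : Orth u⁻¹ := by
  have a1 : (u : M8 × M8).1.transpose = ((u⁻¹ : (M8 × M8)ˣ) : M8 × M8).1 :=
    left_inv_eq_right_inv hu.1 (congrArg Prod.fst u.mul_inv)
  have a2 : (u : M8 × M8).2.transpose = ((u⁻¹ : (M8 × M8)ˣ) : M8 × M8).2 :=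
    left_inv_eq_right_inv hu.2 (congrArg Prod.snd u.mul_inv)
  refine ⟨?_, ?_⟩
  · rw [← a1, Matrix.transpose_transpose, a1]; exact congrArg Prod.fst u.mul_inv
  · rw [← a2, Matrix.transpose_transpose, a2]; exact congrArg Prod.snd u.mul_inv

/-- The spin double cover. -/
def Spin : Subgroup (M8 × M8)ˣ where
  carrier := {u | Orth u ∧ ∃ σ : alternatingGroup (Fin 8), Rel u σ}
  one_mem' := ⟨⟨by simp, by simp⟩, 1, fun i => by simp⟩
  mul_mem' := fun {u v} ⟨hu, σ, hσ⟩ ⟨hv, τ, hτ⟩ => ⟨hu.mul hv, σ * τ, hσ.mul hτ⟩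
  inv_mem' := fun {u} ⟨hu, σ, hσ⟩ => ⟨hu.inv, σ⁻¹, hσ.inv⟩

theorem Rel.unique {u : (M8 × M8)ˣ} {σ τ : Equiv.Perm (Fin 8)} (hσ : Rel u σ) (hτ : Rel u τ) : σ = τ := by
  refine Equiv.ext fun i => C_injective ?_
  have e2 : (u : M8 × M8).2 * ((u⁻¹ : (M8 × M8)ˣ) : M8 × M8).2 = 1 := congrArg Prod.snd u.mul_inv
  calc C (σ i) = C (σ i) * (u : M8 × M8).2 * ((u⁻¹ : (M8 × M8)ˣ) : M8 × M8).2 := by
        rw [Matrix.mul_assoc, e2, Matrix.mul_one]
    _ = C (τ i) := by rw [← hσ i, hτ i, Matrix.mul_assoc, e2, Matrix.mul_one]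

noncomputable def permHom : Spin →* alternatingGroup (Fin 8) :=
  MonoidHom.mk' (fun u => u.2.2.choose) fun u v =>
    Subtype.ext ((u * v).2.2.choose_spec.unique (u.2.2.choose_spec.mul v.2.2.choose_spec))

theorem permHom_spec (u : Spin) : Rel u.1 (permHom u : Equiv.Perm (Fin 8)) := u.2.2.choose_spec

theorem permHom_eq (u : Spin) (σ : alternatingGroup (Fin 8)) (h : Rel u.1 σ) : permHom u = σ :=
  Subtype.ext ((permHom_spec u).unique h)

/-- The lift of `(a b)(c d)`. -/
def liftG (a b c d : Fin 8) : M8 := (2 : ZMod 3) • ((C a - C b) * (C c - C d).transpose)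
def liftH (a b c d : Fin 8) : M8 := (2 : ZMod 3) • ((C a - C b).transpose * (C c - C d))

attribute [local irreducible] C liftG liftH

/-- Decidable correctness of a lift. -/
def LiftOK (a b c d : Fin 8) : Prop :=
  liftG a b c d * (liftG a b c d).transpose = 1 ∧ (liftG a b c d).transpose * liftG a b c d = 1 ∧
  liftH a b c d * (liftH a b c d).transpose = 1 ∧ (liftH a b c d).transpose * liftH a b c d = 1 ∧
  Equiv.Perm.sign (Equiv.swap a b * Equiv.swap c d) = 1 ∧
  ∀ i, liftG a b c d * C i = C ((Equiv.swap a b * Equiv.swap c d) i) * liftH a b c d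

instance instDecidableLiftOK (a b c d : Fin 8) : Decidable (LiftOK a b c d) := by
  unfold LiftOK; infer_instance

def liftUnit (a b c d : Fin 8) (h : LiftOK a b c d) : (M8 × M8)ˣ where
  val := (liftG a b c d, liftH a b c d)
  inv := ((liftG a b c d).transpose, (liftH a b c d).transpose)
  val_inv := Prod.ext h.1 h.2.2.1
  inv_val := Prod.ext h.2.1 h.2.2.2.1

def lift (a b c d : Fin 8) (h : LiftOK a b c d) : Spin :=
  ⟨liftUnit a b c d h, ⟨h.2.1, h.2.2.2.1⟩,
    ⟨⟨Equiv.swap a b * Equiv.swap c d, Equiv.Perm.mem_alternatingGroup.2 h.2.2.2.2.1⟩, h.2.2.2.2.2⟩⟩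

theorem permHom_lift (a b c d : Fin 8) (h : LiftOK a b c d) :
    (permHom (lift a b c d h) : Equiv.Perm (Fin 8)) = Equiv.swap a b * Equiv.swap c d :=
  congrArg Subtype.val (permHom_eq (lift a b c d h) ⟨_, Equiv.Perm.mem_alternatingGroup.2 h.2.2.2.2.1⟩ h.2.2.2.2.2)

/-- A subgroup of `S_8` containing all `(0 1)(i i+1)` contains `A_8`. -/
theorem alt_le_of_generators (K : Subgroup (Equiv.Perm (Fin 8)))
    (hK : ∀ i : Fin 7, Equiv.swap 0 1 * Equiv.swap i.castSucc i.succ ∈ K)
    (hKsub : K ≤ alternatingGroup (Fin 8)) : alternatingGroup (Fin 8) ≤ K := by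
  set s : Equiv.Perm (Fin 8) := Equiv.swap 0 1 with hs
  have hss : s * s = 1 := Equiv.swap_mul_self 0 1
  set L := Subgroup.closure (Set.range fun i : Fin 7 => s * Equiv.swap i.castSucc i.succ) with hL
  have hLK : L ≤ K := (Subgroup.closure_le K).2 (by rintro _ ⟨i, rfl⟩; exact hK i)
  have hnorm : ∀ x ∈ L, s * x * s ∈ L := by
    intro x hx
    induction hx using Subgroup.closure_induction with
    | mem x hx =>
      obtain ⟨i, rfl⟩ := hx
      have : s * (s * Equiv.swap i.castSucc i.succ) * s = (s * Equiv.swap i.castSucc i.succ)⁻¹ := by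
        rw [← mul_assoc s s, hss, one_mul, mul_inv_rev, Equiv.swap_inv, hs, Equiv.swap_inv]
      rw [this]
      exact inv_mem (Subgroup.subset_closure ⟨i, rfl⟩)
    | one => rw [mul_one, hss]; exact one_mem _
    | mul x y _ _ ihx ihy =>
      have : s * (x * y) * s = (s * x * s) * (s * y * s) := by
        simp only [mul_assoc]; rw [← mul_assoc s s, hss, one_mul]
      rw [this]; exact mul_mem ihx ihy
    | inv x _ ih =>
      have : s * x⁻¹ * s = (s * x * s)⁻¹ := by
        rw [mul_inv_rev, mul_inv_rev, hs, Equiv.swap_inv, mul_assoc]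
      rw [this]; exact inv_mem ih
  have hall : ∀ σ : Equiv.Perm (Fin 8), σ ∈ L ∨ σ * s ∈ L := by
    intro σ
    have hmem : σ ∈ Submonoid.closure (Set.range fun i : Fin 7 => Equiv.swap i.castSucc i.succ) := by
      rw [Equiv.Perm.mclosure_swap_castSucc_succ]; trivial
    induction hmem using Submonoid.closure_induction with
    | mem x hx =>
      obtain ⟨i, rfl⟩ := hx
      right
      have : Equiv.swap i.castSucc i.succ * s = (s * Equiv.swap i.castSucc i.succ)⁻¹ := by
        rw [mul_inv_rev, hs, Equiv.swap_inv, Equiv.swap_inv]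
      rw [this]
      exact inv_mem (Subgroup.subset_closure ⟨i, rfl⟩)
    | one => exact Or.inl (one_mem _)
    | mul x y _ _ ihx ihy =>
      rcases ihx with hx | hx <;> rcases ihy with hy | hy
      · exact Or.inl (mul_mem hx hy)
      · exact Or.inr (by rw [mul_assoc]; exact mul_mem hx hy)
      · right
        have : x * y * s = (x * s) * (s * y * s) := by
          simp only [mul_assoc]; rw [← mul_assoc s s, hss, one_mul]
        rw [this]; exact mul_mem hx (hnorm y hy)
      · left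
        have : x * y = (x * s) * (s * (y * s) * s) := by
          simp only [mul_assoc]; rw [← mul_assoc s s, hss, one_mul, mul_one]
        rw [this]; exact mul_mem hx (hnorm _ hy)
  intro σ hσ
  refine hLK ((hall σ).resolve_right fun h => ?_)
  have := hKsub (hLK h)
  rw [Equiv.Perm.mem_alternatingGroup] at hσ this
  rw [map_mul, hσ, one_mul, hs, Equiv.Perm.sign_swap (by decide)] at this
  exact absurd this (by decide)

theorem liftOK_gen : ∀ i : Fin 7, LiftOK 0 1 i.castSucc i.succ := by decide +kernel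

theorem permHom_surjective : Function.Surjective permHom := by
  intro τ
  set K := ((alternatingGroup (Fin 8)).subtype.comp permHom).range
  have h : (τ : Equiv.Perm (Fin 8)) ∈ K := alt_le_of_generators K
    (fun i => ⟨lift 0 1 i.castSucc i.succ (liftOK_gen i), permHom_lift _ _ _ _ _⟩)
    (by rintro _ ⟨u, rfl⟩; exact (permHom u).2) τ.2
  obtain ⟨u, hu⟩ := h
  exact ⟨u, Subtype.ext hu⟩

theorem negOne_mem : (-1 : (M8 × M8)ˣ) ∈ Spin :=
  ⟨⟨by simp, by simp⟩, 1, fun i => by simp⟩

def negOne : Spin := ⟨-1, negOne_mem⟩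

/-- Sign data: `C a C b C (a xor b)` separates `e_k` from `e_0`. -/
theorem separating : ∀ k : Fin 8, k ≠ 0 → ∃ p ∈ [((2 : Fin 8), (4 : Fin 8), (6 : Fin 8)), (1, 4, 5), (1, 2, 3)],
    (∀ r c, r ≠ c → (C p.1 * C p.2.1 * C p.2.2) r c = 0) ∧
    (C p.1 * C p.2.1 * C p.2.2) k k ≠ (C p.1 * C p.2.1 * C p.2.2) 0 0 := by
  decide +kernel

theorem C_mul_col (g : M8) (i r : Fin 8) : (g * C i) r 0 = g r i := by
  simp [Matrix.mul_apply, C_col_zero]

theorem commutant_scalar (g : M8) (h : ∀ i, g * C i = C i * g) :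
    g = g 0 0 • (1 : M8) := by
  have hcol : ∀ r, r ≠ 0 → g r 0 = 0 := by
    intro r hr
    obtain ⟨p, -, hd, hne⟩ := separating r hr
    set M := C p.1 * C p.2.1 * C p.2.2
    have hM : g * M = M * g := by
      simp only [M, ← Matrix.mul_assoc]
      rw [h p.1, Matrix.mul_assoc (C p.1), h p.2.1, ← Matrix.mul_assoc, Matrix.mul_assoc (C p.1 * C p.2.1), h p.2.2,
        ← Matrix.mul_assoc]
    have h1 := congrFun (congrFun hM r) 0
    rw [Matrix.mul_apply, Matrix.mul_apply,
      Finset.sum_eq_single 0 (fun b _ hb => by rw [hd b 0 hb, mul_zero]) (by simp),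
      Finset.sum_eq_single r (fun b _ hb => by rw [hd r b (Ne.symm hb), zero_mul]) (by simp)] at h1
    have h2 : g r 0 * (M 0 0 - M r r) = 0 := by rw [mul_sub, h1, mul_comm (M r r), sub_self]
    haveI : Fact (Nat.Prime 3) := ⟨Nat.prime_three⟩
    exact (mul_eq_zero.1 h2).resolve_right (sub_ne_zero.2 (Ne.symm hne))
  ext r i
  have h1 := C_mul_col g i r
  rw [h i, Matrix.mul_apply, Finset.sum_eq_single 0 (fun b _ hb => by rw [hcol b hb, mul_zero]) (by simp),
    C_col_zero] at h1
  rw [← h1, Matrix.smul_apply, Matrix.one_apply, smul_eq_mul]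
  split_ifs <;> ring

theorem ker_permHom (u : Spin) (hu : permHom u = 1) : u = 1 ∨ u = negOne := by
  have h := permHom_spec u
  rw [hu] at h
  have h0 := h 0
  simp only [OneMemClass.coe_one, Equiv.Perm.coe_one, id_eq, C_zero, Matrix.mul_one, Matrix.one_mul] at h0
  set g := (u.1 : M8 × M8).1
  have hg : ∀ i, g * C i = C i * g := fun i => by
    have hi := h i
    simp only [OneMemClass.coe_one, Equiv.Perm.coe_one, id_eq] at hi
    rw [← h0] at hi
    exact hi
  have hs := commutant_scalar g hg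
  have ho := u.2.1.1
  change g.transpose * g = 1 at ho
  rw [hs, Matrix.transpose_smul, Matrix.transpose_one, Matrix.smul_mul, Matrix.one_mul, smul_smul] at ho
  have hsq : g 0 0 * g 0 0 = 1 := by
    have := congrFun (congrFun ho 0) 0
    simpa using this
  have hpm : g 0 0 = 1 ∨ g 0 0 = -1 := by
    revert hsq; generalize g 0 0 = x; revert x; decide
  rcases hpm with e | e <;> [left; right] <;> apply Subtype.ext <;> apply Units.ext <;>
    refine Prod.ext ?_ (h0.symm.trans ?_) <;> simp [g, negOne] at * <;> rw [hs, e] <;> simp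

theorem lift_val (a b c d : Fin 8) (h : LiftOK a b c d) :
    ((lift a b c d h).1 : M8 × M8) = (liftG a b c d, liftH a b c d) := rfl

theorem negOne_val : (negOne.1 : M8 × M8) = (-1, -1) := rfl

theorem spin_mul_val (u v : Spin) : ((u * v).1 : M8 × M8) = (u.1 : M8 × M8) * (v.1 : M8 × M8) := rfl

theorem spin_ext {u v : Spin} (h : (u.1 : M8 × M8) = (v.1 : M8 × M8)) : u = v :=
  Subtype.ext (Units.ext h)

theorem negOne_ne_one : negOne ≠ 1 := by
  intro h
  have h1 := congrArg (fun u : Spin => (u.1 : M8 × M8).1 0 0) h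
  simp [negOne] at h1
  exact absurd h1 (by decide)

theorem negOne_central : negOne ∈ Subgroup.center Spin :=
  Subgroup.mem_center_iff.2 fun u => Subtype.ext (Units.ext (Prod.ext (by simp [negOne]) (by simp [negOne])))

theorem center_eq : ∀ u : Spin, u ∈ Subgroup.center Spin ↔ permHom u = 1 := by
  intro u
  constructor
  · intro hu
    have h : permHom u ∈ Subgroup.center (alternatingGroup (Fin 8)) := by
      rw [Subgroup.mem_center_iff]
      intro x
      obtain ⟨v, rfl⟩ := permHom_surjective x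
      rw [← map_mul, ← map_mul, Subgroup.mem_center_iff.1 hu v]
    rwa [alternatingGroup.center_eq_bot (by simp), Subgroup.mem_bot] at h
  · intro hu
    rcases ker_permHom u hu with rfl | rfl
    · exact one_mem _
    · exact negOne_central

theorem anticommute : liftG 0 1 2 3 * liftG 0 2 1 3 = -(liftG 0 2 1 3 * liftG 0 1 2 3) ∧
    liftH 0 1 2 3 * liftH 0 2 1 3 = -(liftH 0 2 1 3 * liftH 0 1 2 3) := by decide +kernel

theorem ok_a : LiftOK 0 1 2 3 := by decide +kernel
theorem ok_b : LiftOK 0 2 1 3 := by decide +kernel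
theorem ok_c : LiftOK 4 5 6 7 := by decide +kernel

theorem involution_pair : (liftG 0 1 2 3 * liftG 4 5 6 7) * (liftG 0 1 2 3 * liftG 4 5 6 7) = 1 ∧
    (liftH 0 1 2 3 * liftH 4 5 6 7) * (liftH 0 1 2 3 * liftH 4 5 6 7) = 1 := by decide +kernel

theorem mem_of_commutator {G : Type*} [Group G] (L : Subgroup G) (n : G) (hn : n ∈ Subgroup.center G)
    (hdec : ∀ u : G, u ∈ L ∨ u * n ∈ L) (a b : G) (hab : a * b = b * a * n) : n ∈ L := by
  have hc : ∀ u : G, u * n = n * u := Subgroup.mem_center_iff.1 hn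
  have key : ∀ a' b' : G, a' ∈ L → b' ∈ L → a' * b' = b' * a' * n → n ∈ L := by
    intro a' b' ha hb h
    have : n = (b' * a')⁻¹ * (a' * b') := by rw [h, inv_mul_cancel_left]
    rw [this]
    exact mul_mem (inv_mem (mul_mem hb ha)) (mul_mem ha hb)
  rcases hdec a with ha | ha <;> rcases hdec b with hb | hb
  · exact key a b ha hb hab
  · refine key a (b * n) ha hb ?_
    calc a * (b * n) = a * b * n := (mul_assoc _ _ _).symm
      _ = b * a * n * n := by rw [hab]
      _ = b * (n * a) * n := by rw [← hc a]; simp only [mul_assoc]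
      _ = b * n * a * n := by simp only [mul_assoc]
  · refine key (a * n) b ha hb ?_
    calc a * n * b = a * b * n := by rw [mul_assoc, ← hc b, mul_assoc]
      _ = b * (a * n) * n := by rw [hab]; simp only [mul_assoc]
  · refine key (a * n) (b * n) ha hb ?_
    calc a * n * (b * n) = a * b * n * n := by rw [mul_assoc a n, ← mul_assoc n b, ← hc b]; simp only [mul_assoc]
      _ = b * a * n * n * n := by rw [hab]
      _ = b * n * (a * n) * n := by rw [mul_assoc b n, ← mul_assoc n a, ← hc a]; simp only [mul_assoc]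

theorem exists_double_cover : ∃ (H : Type) (_ : Group H) (_ : Finite H),
    Cfsg.IsNonsplitDoubleCover H (alternatingGroup (Fin 8)) ∧
      ∃ x y : H, x ≠ y ∧ orderOf x = 2 ∧ orderOf y = 2 := by
  refine ⟨Spin, inferInstance, inferInstance, ⟨?_, ?_, ?_⟩, ?_⟩
  · rw [Nat.card_eq_two_iff' (1 : Subgroup.center Spin)]
    refine ⟨⟨negOne, negOne_central⟩, fun h => negOne_ne_one (congrArg Subtype.val h), fun v hv => Subtype.ext ?_⟩
    exact (ker_permHom v.1 ((center_eq v.1).1 v.2)).resolve_left (fun h => hv (Subtype.ext h))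
  · have : permHom.ker = Subgroup.center Spin := Subgroup.ext fun u => (center_eq u).symm
    exact ⟨(QuotientGroup.quotientMulEquivOfEq this.symm).trans
      (QuotientGroup.quotientKerEquivOfSurjective _ permHom_surjective)⟩
  · intro L hL
    have hdec : ∀ u : Spin, u ∈ L ∨ u * negOne ∈ L := by
      intro u
      obtain ⟨⟨z, l⟩, hzl⟩ := hL.2 u
      have e : (z : Spin) * l = u := hzl
      rcases ker_permHom z.1 ((center_eq z.1).1 z.2) with hz | hz
      · rw [hz, one_mul] at e; exact Or.inl (e ▸ l.2)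
      · right
        have hn : negOne * negOne = 1 := Subtype.ext (Units.ext (Prod.ext (by simp [negOne]) (by simp [negOne])))
        rw [hz] at e
        rw [← e, mul_assoc, Subgroup.mem_center_iff.1 negOne_central (l : Spin), ← mul_assoc, hn, one_mul]
        exact l.2
    set a := lift 0 1 2 3 ok_a
    set b := lift 0 2 1 3 ok_b
    have hab : a * b = b * a * negOne := by
      apply spin_ext
      rw [spin_mul_val, spin_mul_val, spin_mul_val]
      simp only [a, b, lift_val, negOne_val, Prod.mk_mul_mk]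
      rw [anticommute.1, anticommute.2, Matrix.mul_neg, Matrix.mul_one, Matrix.mul_neg, Matrix.mul_one]
    have hneg : negOne ∈ L := mem_of_commutator L negOne negOne_central hdec a b hab
    exact negOne_ne_one (Subgroup.disjoint_def.1 hL.disjoint negOne_central hneg)
  · haveI : Fact (Nat.Prime 2) := ⟨Nat.prime_two⟩
    set x := lift 0 1 2 3 ok_a * lift 4 5 6 7 ok_c with hx
    have hπ : (permHom x : Equiv.Perm (Fin 8)) ≠ 1 := by
      rw [hx, map_mul, Subgroup.coe_mul, permHom_lift, permHom_lift]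
      decide
    refine ⟨negOne, x, ?_, orderOf_eq_prime ?_ negOne_ne_one, orderOf_eq_prime ?_ ?_⟩
    · intro e
      apply hπ
      rw [← e, (center_eq negOne).1 negOne_central]
      rfl
    · rw [pow_two]
      exact Subtype.ext (Units.ext (Prod.ext (by simp [negOne]) (by simp [negOne])))
    · rw [pow_two]
      apply spin_ext
      rw [spin_mul_val, hx, spin_mul_val]
      simp only [lift_val, Prod.mk_mul_mk]
      rw [involution_pair.1, involution_pair.2]
      rfl
    · intro e
      apply hπ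
      rw [e, map_one]
      rfl

end Cfsg.Agent.Lib.SylowCounting.SpinEight
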