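import Cfsg.Agent.Lib.SylowCounting.SignTrick
import Cfsg.Agent.Lib.SylowCounting.DegreeFamily
import Cfsg.Agent.Lib.SylowCounting.Tools
import Cfsg.Agent.Lib.SylowCounting.IndexNormalizer
import Cfsg.Agent.Lib.SylowCounting.Counting
import Mathlib.Algebra.Field.ZMod
import Mathlib.Tactic

/-!
# Normalizers of a Sylow five-subgroup of order five

The ordered pairs of conjugate involutions whose product has order five give lower bounds for a
class of involutions. With thirty-six Sylow five-subgroups this excludes an automizer of order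
four.
-/

namespace Cfsg.Agent.Lib.SylowCounting.Five

open Cfsg.Agent.Lib.SylowCounting

set_option linter.unusedSectionVars false
set_option linter.style.haveILetI false

universe u

variable {G : Type u} [Group G] [Finite G]

theorem pow_five_of_mem {P : Subgroup G} (hP : Nat.card P = 5) {a : G} (ha : a ∈ P) : a ^ 5 = 1 := by
  have := congrArg Subtype.val (pow_card_eq_one' (x := (⟨a, ha⟩ : P)))
  rwa [hP, SubmonoidClass.coe_pow, OneMemClass.coe_one] at this

theorem le_centralizer_five [Fact (Nat.Prime 5)] {P : Subgroup G} (hP : Nat.card P = 5) :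
    P ≤ Subgroup.centralizer (P : Set G) := by
  haveI : IsCyclic P := isCyclic_of_prime_card hP
  exact fun a ha => Subgroup.mem_centralizer_iff.2 fun b hb =>
    congrArg Subtype.val ((IsCyclic.commGroup (α := P)).mul_comm ⟨b, hb⟩ ⟨a, ha⟩)

theorem conj_inv_of_involution [Fact (Nat.Prime 5)] {P : Subgroup G} (hP : Nat.card P = 5) {t : G}
    (ht : t ∈ Subgroup.normalizer (P : Set G)) (htC : t ∉ Subgroup.centralizer (P : Set G))
    (htt : t * t = 1) : ∀ a ∈ P, t * a * t⁻¹ = a⁻¹ := by
  have hordP : ∀ a ∈ P, a ^ 5 = 1 := fun a ha => pow_five_of_mem hP ha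
  haveI : Nontrivial P := Finite.one_lt_card_iff_nontrivial.1 (by rw [hP]; norm_num)
  obtain ⟨g0, hg0⟩ := exists_ne (1 : P)
  have hg0ord : orderOf (g0 : G) = 5 := orderOf_of_mem hP g0.2 fun h => hg0 (Subtype.ext h)
  obtain ⟨u, hu⟩ := exists_conj_pow (by norm_num : Nat.Prime 5) P hP
    ((Subgroup.normalizer (P : Set G)).inv_mem ht)
  simp only [inv_inv] at hu
  have h2 : (g0 : G) ^ (u * u) = (g0 : G) ^ 1 := by
    rw [pow_mul, ← hu _ g0.2, ← hu _ (hu _ g0.2 ▸ P.pow_mem g0.2 u), pow_one]
    calc t * (t * (g0 : G) * t⁻¹) * t⁻¹ = (t * t) * g0 * (t * t)⁻¹ := by group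
      _ = g0 := by rw [htt]; simp
  rw [pow_eq_pow_iff_modEq, hg0ord] at h2
  have h3 : ((u : ZMod 5)) ^ 2 = 1 := by
    rw [sq, ← Nat.cast_mul, (ZMod.natCast_eq_natCast_iff _ _ _).2 h2, Nat.cast_one]
  rcases sq_eq_one_iff.1 h3 with h4 | h4
  · refine absurd (Subgroup.mem_centralizer_iff.2 fun b hb => ?_) htC
    rw [← Nat.cast_one, ZMod.natCast_eq_natCast_iff'] at h4
    have hb2 : t * b * t⁻¹ = b := by
      rw [hu b hb, pow_eq_pow_mod u (hordP b hb), h4]; simp
    exact (mul_inv_eq_iff_eq_mul.1 hb2).symm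
  · intro a ha
    rw [hu a ha]
    apply eq_inv_of_mul_eq_one_left
    rw [← pow_succ]
    obtain ⟨r, hr⟩ : 5 ∣ u + 1 := by
      rw [← ZMod.natCast_eq_zero_iff, Nat.cast_add, h4]; simp
    rw [hr, pow_mul, hordP a ha, one_pow]

theorem isConj_mul_of_involution [Fact (Nat.Prime 5)] {P : Subgroup G} (hP : Nat.card P = 5)
    {t : G} (ht : t ∈ Subgroup.normalizer (P : Set G))
    (htC : t ∉ Subgroup.centralizer (P : Set G)) (htt : t * t = 1) {a : G} (ha : a ∈ P) :
    IsConj t (t * a) := by
  refine isConj_iff.2 ⟨a ^ 2, ?_⟩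
  have h1 := conj_inv_of_involution hP ht htC htt (a ^ 2) (pow_mem ha 2)
  have htinv : t⁻¹ = t := inv_eq_of_mul_eq_one_right htt
  calc a ^ 2 * t * (a ^ 2)⁻¹ = (t * t) * a ^ 2 * t * (a ^ 2)⁻¹ := by rw [htt, one_mul]
    _ = t * (t * a ^ 2 * t⁻¹) * (a ^ 2)⁻¹ := by rw [htinv]; group
    _ = t * ((a ^ 2)⁻¹ * (a ^ 2)⁻¹) := by rw [h1]; group
    _ = t * a := by
      congr 1
      rw [← mul_inv_rev, inv_eq_iff_mul_eq_one, ← pow_add, ← pow_succ]
      exact pow_five_of_mem hP ha

theorem sq_one_of_isConj {z g : G} (hz : z * z = 1) (h : IsConj z g) : g * g = 1 := by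
  obtain ⟨w, rfl⟩ := isConj_iff.1 h
  calc w * z * w⁻¹ * (w * z * w⁻¹) = w * (z * z) * w⁻¹ := by group
    _ = 1 := by rw [hz]; group

/-- The conjugates of `z` inverting `P`. -/
def invSet (P : Subgroup G) (z : G) : Set G :=
  {g | IsConj z g ∧ g ∈ Subgroup.normalizer (P : Set G) ∧ g ∉ Subgroup.centralizer (P : Set G)}

theorem five_dvd_invSet [Fact (Nat.Prime 5)] {P : Subgroup G} (hP : Nat.card P = 5) {z : G}
    (hz : z * z = 1) : 5 ∣ Nat.card (invSet P z) := by
  have h1 := card_dvd_of_mul_right P (invSet P z) ?_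
  · rwa [hP] at h1
  rintro x ⟨hx1, hx2, hx3⟩ a ha
  have haC := le_centralizer_five hP ha
  exact ⟨hx1.trans (isConj_mul_of_involution hP hx2 hx3 (sq_one_of_isConj hz hx1) ha),
    (Subgroup.normalizer _).mul_mem hx2 (Subgroup.le_normalizer ha),
    fun h => hx3 (by
      have := (Subgroup.centralizer _).mul_mem h ((Subgroup.centralizer _).inv_mem haC)
      simpa using this)⟩

theorem invSet_le_card_centralizer [Fact (Nat.Prime 5)] {P : Subgroup G} (hP : Nat.card P = 5)
    {z : G} (hz : z * z = 1) :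
    Nat.card (invSet P z) ≤ Nat.card (Subgroup.centralizer (P : Set G)) := by
  rcases (invSet P z).eq_empty_or_nonempty with h | ⟨t, htc, htN, htC⟩
  · rw [h]; simp
  refine Nat.card_le_card_of_injective
    (fun g => (⟨t * g.1, ?_⟩ : Subgroup.centralizer (P : Set G))) ?_
  · obtain ⟨hg1, hg2, hg3⟩ := g.2
    refine Subgroup.mem_centralizer_iff.2 fun b hb => ?_
    have i1 := conj_inv_of_involution hP htN htC (sq_one_of_isConj hz htc) b⁻¹ (P.inv_mem hb)
    have i2 := conj_inv_of_involution hP hg2 hg3 (sq_one_of_isConj hz hg1) b hb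
    rw [inv_inv] at i1
    calc b * (t * g.1) = t * b⁻¹ * t⁻¹ * (t * g.1) := by rw [i1]
      _ = t * (g.1 * b * g.1⁻¹) * g.1 := by rw [i2]; group
      _ = (t * g.1) * b := by group
  · intro a b hab
    exact Subtype.ext (mul_left_cancel (congrArg Subtype.val hab))

/-- Each of the `n₅` subgroups of order five gives `4 |I|` pairs of conjugates of `z`. -/
theorem pairs_le [Fact (Nat.Prime 5)] (P : Sylow 5 G) (hP : Nat.card (P : Subgroup G) = 5) {z : G}
    (hz : z * z = 1) :
    Nat.card (Sylow 5 G) * 4 * Nat.card (invSet (P : Subgroup G) z) ≤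
      Nat.card {g : G // IsConj z g} ^ 2 := by
  classical
  set N := Subgroup.normalizer ((P : Subgroup G) : Set G) with hN
  have h4 : Nat.card {a : (P : Subgroup G) // a ≠ 1} = 4 := by
    haveI := Fintype.ofFinite (P : Subgroup G)
    rw [Nat.card_eq_fintype_card, Fintype.card_subtype_compl, Fintype.card_subtype_eq,
      ← Nat.card_eq_fintype_card, hP]
  rw [Sylow.card_eq_index_normalizer P, Subgroup.index, ← h4, ← Nat.card_prod, ← Nat.card_prod,
    sq, ← Nat.card_prod]
  let f : ((G ⧸ N) × {a : (P : Subgroup G) // a ≠ 1}) × invSet (P : Subgroup G) z →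
      {g : G // IsConj z g} × {g : G // IsConj z g} := fun x =>
    (⟨x.1.1.out * x.2.1 * x.1.1.out⁻¹, x.2.2.1.trans (isConj_iff.2 ⟨x.1.1.out, rfl⟩)⟩,
      ⟨x.1.1.out * (x.2.1 * x.1.2.1) * x.1.1.out⁻¹,
        (x.2.2.1.trans (isConj_mul_of_involution hP x.2.2.2.1 x.2.2.2.2
          (sq_one_of_isConj hz x.2.2.1) x.1.2.1.2)).trans (isConj_iff.2 ⟨x.1.1.out, rfl⟩)⟩)
  refine Nat.card_le_card_of_injective f ?_
  rintro ⟨⟨q, a⟩, u⟩ ⟨⟨q', a'⟩, u'⟩ h
  simp only [f, Prod.mk.injEq, Subtype.mk.injEq] at h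
  obtain ⟨h1, h2⟩ := h
  have key : ∀ (g : G) (u : invSet (P : Subgroup G) z) (a : G),
      (g * u.1 * g⁻¹) * (g * (u.1 * a) * g⁻¹) = g * a * g⁻¹ := fun g u a => by
    calc (g * u.1 * g⁻¹) * (g * (u.1 * a) * g⁻¹) = g * ((u.1 * u.1) * a) * g⁻¹ := by group
      _ = g * a * g⁻¹ := by rw [sq_one_of_isConj hz u.2.1, one_mul]
  have h3 : q.out * (a.1 : G) * q.out⁻¹ = q'.out * (a'.1 : G) * q'.out⁻¹ := by
    rw [← key q.out u, ← key q'.out u', h1, h2]
  have hq : q = q' := by
    rw [← QuotientGroup.out_eq' q, ← QuotientGroup.out_eq' q', QuotientGroup.eq]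
    have hm : q.out⁻¹ * q'.out * (a'.1 : G) * (q.out⁻¹ * q'.out)⁻¹ = (a.1 : G) := by
      calc _ = q.out⁻¹ * (q'.out * (a'.1 : G) * q'.out⁻¹) * q.out := by group
        _ = q.out⁻¹ * (q.out * (a.1 : G) * q.out⁻¹) * q.out := by rw [h3]
        _ = (a.1 : G) := by group
    haveI : IsCyclic (P : Subgroup G) := isCyclic_of_prime_card hP
    refine (Subgroup.mem_normalizer_iff (H := (P : Subgroup G))).2 ?_
    set g := q.out⁻¹ * q'.out
    have hgen : ∀ b ∈ (P : Subgroup G), ∃ i : ℤ, (a'.1 : G) ^ i = b := fun b hb => by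
      obtain ⟨i, hi⟩ := Subgroup.mem_zpowers_iff.1
        (mem_zpowers_of_prime_card (g := a'.1) (g' := ⟨b, hb⟩) hP a'.2)
      exact ⟨i, by simpa using congrArg Subtype.val hi⟩
    intro b
    constructor
    · intro hb
      obtain ⟨i, rfl⟩ := hgen b hb
      rw [← conj_zpow, hm]
      exact (P : Subgroup G).zpow_mem a.1.2 i
    · intro hb
      obtain ⟨i, hi⟩ := Subgroup.mem_zpowers_iff.1
        (mem_zpowers_of_prime_card (g := a.1) (g' := ⟨_, hb⟩) hP a.2)
      have hi' : (a.1 : G) ^ i = g * b * g⁻¹ := by simpa using congrArg Subtype.val hi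
      rw [← hm, conj_zpow] at hi'
      rw [← mul_left_cancel (mul_right_cancel hi')]
      exact (P : Subgroup G).zpow_mem a'.1.2 i
  subst hq
  have ha : a = a' := Subtype.ext (Subtype.ext (mul_left_cancel (mul_right_cancel h3)))
  subst ha
  have hu : u = u' := Subtype.ext (mul_left_cancel (mul_right_cancel h1))
  rw [hu]

/-- An even group has an odd number of involutions. -/
theorem odd_involutions (C : Subgroup G) (hC : 2 ∣ Nat.card C) :
    Odd (Nat.card {y : C // y * y = 1 ∧ y ≠ 1}) := by
  classical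
  haveI := Fintype.ofFinite C
  haveI := Fact.mk Nat.prime_two
  let σ : Equiv.Perm C := Equiv.inv C
  have hσ : σ ^ 2 ^ 1 = 1 := by
    ext y; simp [σ, pow_two, Equiv.Perm.mul_apply]
  have h1 := Equiv.Perm.card_compl_support_modEq (p := 2) (n := 1) hσ
  have h2 : σ.supportᶜ = insert 1 (Finset.univ.filter fun y : C => y * y = 1 ∧ y ≠ 1) := by
    ext y
    have hiff : y⁻¹ = y ↔ y * y = 1 := by rw [inv_eq_iff_mul_eq_one]
    by_cases hy : y = 1
    · subst hy; simp [σ, Equiv.Perm.mem_support]
    · simp [σ, Equiv.Perm.mem_support, hy, hiff]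
  rw [h2, Finset.card_insert_of_notMem (by simp), ← Fintype.card_subtype,
    ← Nat.card_eq_fintype_card, ← Nat.card_eq_fintype_card] at h1
  rw [Nat.odd_iff]
  have h3 : (Nat.card {y : C // y * y = 1 ∧ y ≠ 1} + 1) % 2 = Nat.card C % 2 := h1
  omega

/-- An involution of `C(P)` whose centralizer contains `P` and a Sylow two-subgroup of `N(P)`. -/
theorem exists_good_involution [Fact (Nat.Prime 5)] {P : Subgroup G} (hP : Nat.card P = 5)
    {v w : ℕ} (hN : Nat.card (Subgroup.normalizer (P : Set G)) = 2 ^ v * w) (hw : ¬ 2 ∣ w)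
    (hC : 2 ∣ Nat.card (Subgroup.centralizer (P : Set G))) :
    ∃ z ∈ Subgroup.centralizer (P : Set G), z * z = 1 ∧ z ≠ 1 ∧
      2 ^ v * 5 ∣ Nat.card (Subgroup.normalizer (P : Set G) ⊓ Subgroup.centralizer ({z} : Set G) :
        Subgroup G) := by
  classical
  haveI := Fact.mk Nat.prime_two
  set N := Subgroup.normalizer (P : Set G) with hNdef
  set C := Subgroup.centralizer (P : Set G) with hCdef
  let T : Sylow 2 N := default
  have hT : Nat.card (T : Subgroup N) = 2 ^ v := sylow_card hN hw T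
  have hconj : ∀ n ∈ N, ∀ x ∈ C, n * x * n⁻¹ ∈ C := by
    intro n hn x hx
    refine Subgroup.mem_centralizer_iff.2 fun b hb => ?_
    have hb' : n⁻¹ * b * n ∈ P := by
      simpa using (Subgroup.mem_normalizer_iff.1 (N.inv_mem hn) b).1 hb
    have := Subgroup.mem_centralizer_iff.1 hx _ hb'
    calc b * (n * x * n⁻¹) = n * ((n⁻¹ * b * n) * x) * n⁻¹ := by group
      _ = n * (x * (n⁻¹ * b * n)) * n⁻¹ := by rw [this]
      _ = (n * x * n⁻¹) * b := by group
  let X := {y : G // y ∈ C ∧ y * y = 1 ∧ y ≠ 1}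
  letI : MulAction (T : Subgroup N) X :=
    { smul := fun t y => ⟨(t : G) * y.1 * (t : G)⁻¹, hconj _ t.1.2 _ y.2.1,
        sq_one_of_isConj y.2.2.1 (isConj_iff.2 ⟨_, rfl⟩),
        fun h => y.2.2.2 (conj_eq_one_iff.1 h)⟩
      one_smul := fun y => Subtype.ext (by
        show ((1 : (T : Subgroup N)) : G) * y.1 * ((1 : (T : Subgroup N)) : G)⁻¹ = y.1
        simp)
      mul_smul := fun s t y => Subtype.ext (by
        show ((s * t : (T : Subgroup N)) : G) * y.1 * ((s * t : (T : Subgroup N)) : G)⁻¹ =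
          (s : G) * ((t : G) * y.1 * (t : G)⁻¹) * (s : G)⁻¹
        simp [mul_assoc]) }
  have hodd : Odd (Nat.card X) := by
    refine (Nat.card_congr ?_) ▸ odd_involutions C hC
    exact
      { toFun := fun y => ⟨y.1.1, y.1.2, congrArg Subtype.val y.2.1,
          fun h => y.2.2 (Subtype.ext h)⟩
        invFun := fun y => ⟨⟨y.1, y.2.1⟩, Subtype.ext y.2.2.1,
          fun h => y.2.2.2 (congrArg Subtype.val h)⟩
        left_inv := fun y => rfl
        right_inv := fun y => rfl }
  obtain ⟨⟨z, hzC, hzz, hz1⟩, hfix⟩ :=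
    T.isPGroup'.nonempty_fixed_point_of_prime_not_dvd_card X (by
      rw [Nat.odd_iff] at hodd; omega)
  refine ⟨z, hzC, hzz, hz1, ?_⟩
  set K := N ⊓ Subgroup.centralizer ({z} : Set G)
  refine Nat.Coprime.mul_dvd_of_dvd_of_dvd ?_ ?_ ?_
  · exact Nat.Coprime.pow_left v (by norm_num)
  · rw [← hT, Nat.card_congr ((T : Subgroup N).equivMapOfInjective N.subtype
      Subtype.val_injective).toEquiv]
    refine Subgroup.card_dvd_of_le ?_
    rintro x ⟨t, ht, rfl⟩
    refine ⟨t.2, Subgroup.mem_centralizer_singleton_iff.2 ?_⟩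
    have h1 := congrArg Subtype.val (hfix (⟨t, ht⟩ : (T : Subgroup N)))
    exact mul_inv_eq_iff_eq_mul.1 h1
  · rw [← hP]
    exact Subgroup.card_dvd_of_le (le_inf Subgroup.le_normalizer fun a ha =>
      Subgroup.mem_centralizer_singleton_iff.2 (Subgroup.mem_centralizer_iff.1 hzC _ ha))

set_option maxHeartbeats 1000000 in
-- one long proof
/-- Thirty-six Sylow five-subgroups do not have normalizers of order `20 k`, `k ∈ {6, 8}`, with
centralizers of order `5 k`. -/
theorem not_thirtysix [IsSimpleGroup G] (hG : ¬ IsMulCommutative G) [Fact (Nat.Prime 5)]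
    (P : Sylow 5 G) (hP : Nat.card (P : Subgroup G) = 5) {k : ℕ} (hk : k = 6 ∨ k = 8)
    (hcard : Nat.card G = 36 * (20 * k)) (hr : Nat.card (Sylow 5 G) = 36)
    (hN : Nat.card (Subgroup.normalizer ((P : Subgroup G) : Set G)) = 20 * k)
    (hC : Nat.card (Subgroup.centralizer ((P : Subgroup G) : Set G)) = 5 * k) : False := by
  classical
  set N := Subgroup.normalizer ((P : Subgroup G) : Set G) with hNdef
  set C := Subgroup.centralizer ((P : Subgroup G) : Set G) with hCdef
  obtain ⟨z, hzC, hzz, hz1, hM⟩ : ∃ z ∈ C, z * z = 1 ∧ z ≠ 1 ∧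
      (if k = 6 then 40 else 160) ∣ Nat.card (N ⊓ Subgroup.centralizer ({z} : Set G) : Subgroup G) := by
    rcases hk with rfl | rfl
    · simpa [hNdef, hCdef] using exists_good_involution hP (v := 3) (w := 15) (by rw [hN]; norm_num) (by norm_num)
        (by rw [hC]; norm_num)
    · simpa [hNdef, hCdef] using exists_good_involution hP (v := 5) (w := 5) (by rw [hN]; norm_num) (by norm_num)
        (by rw [hC]; norm_num)
  set K := Subgroup.centralizer ({z} : Set G) with hKdef
  set M := Nat.card (N ⊓ K : Subgroup G) with hMdef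
  have hM20 : M ∣ 20 * k := hN ▸ Subgroup.card_dvd_of_le inf_le_left
  have hKt : K ≠ ⊤ := by
    intro hK
    have hz : z ∈ Subgroup.center G := Subgroup.mem_center_iff.2 fun g =>
      Subgroup.mem_centralizer_singleton_iff.1 (show g ∈ K by rw [hK]; exact Subgroup.mem_top g)
    rcases IsSimpleGroup.eq_bot_or_eq_top_of_normal (Subgroup.center G) inferInstance with e | e
    · exact hz1 (by rwa [e, Subgroup.mem_bot] at hz)
    · exact hG ⟨⟨fun a b => (Subgroup.mem_center_iff.1 (e ▸ Subgroup.mem_top b) a)⟩⟩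
  have hPK : (P : Subgroup G) ≤ K := fun a ha =>
    Subgroup.mem_centralizer_singleton_iff.2 (Subgroup.mem_centralizer_iff.1 hzC _ ha)
  -- Sylow subgroups of `C(z)`
  have hK5 : Nat.card (Sylow 5 K) * M = Nat.card K := by
    let PK : Sylow 5 K := P.subtype hPK
    have hNN : Subgroup.normalizer ((PK : Subgroup K) : Set K) = N.subgroupOf K := by
      rw [Sylow.coe_subtype, Subgroup.subgroupOf_normalizer_eq hPK]
    have h1 := PK.card_eq_index_normalizer
    rw [← Sylow.coe_coe, hNN] at h1
    have h2 := (N.subgroupOf K).index_mul_card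
    rw [← h1, Nat.card_congr (Subgroup.equivMapOfInjective (N.subgroupOf K) K.subtype
      Subtype.val_injective).toEquiv, Subgroup.subgroupOf_map_subtype] at h2
    exact h2
  set m := Nat.card (Sylow 5 K) with hm
  have hmod : m % 5 = 1 := sylow_count_mod (G := K) 5
  set cl := Nat.card {g : G // IsConj z g} with hcl
  have hclK : cl = K.index := by
    have h1 := card_conjClass_mul_card_centralizer z
    rw [← hKdef, ← K.index_mul_card] at h1
    exact Nat.eq_of_mul_eq_mul_right Nat.card_pos h1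
  have hclm : cl * (m * M) = 36 * (20 * k) := by
    rw [hclK, hK5, ← hcard, K.index_mul_card]
  have hbig : 7 ≤ cl := by
    by_contra hlt
    have h1 := two_card_dvd_factorial hG K hKt
    rw [← hclK, hcard] at h1
    have h3 : cl < 7 := not_le.1 hlt
    interval_cases cl <;> rcases hk with rfl | rfl <;> norm_num [Nat.factorial] at h1
  -- fixed points on the thirty-six cosets
  set f := Nat.card (MulAction.fixedBy (G ⧸ N) z) with hf
  have hidx : N.index = 36 := by
    rw [hNdef, P.coe_coe, ← P.card_eq_index_normalizer, hr]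
  have hfix := fixedBy_mul_class N z
  rw [← hcl, hidx] at hfix
  set L := Nat.card {g : G // IsConj z g ∧ g ∈ N} with hL
  have hf4 : 4 ∣ 36 - f := hidx ▸ four_dvd_index_sub_fixedBy hG N z hzz
  have hf36 : f < 36 := by
    have h1 : Nat.card (G ⧸ N) = 36 := hidx
    rw [← h1]
    refine Finite.card_subtype_lt (x := ?_) ?_
    · exact Classical.choose (show ∃ a : G ⧸ N, z • a ≠ a from by
        by_contra hall
        push Not at hall
        apply hz1
        apply toPermHom_injective N (fun h => by rw [h, Subgroup.index_top] at hidx; norm_num at hidx)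
        rw [map_one]
        exact Equiv.ext hall)
    · exact fun h => Classical.choose_spec (show ∃ a : G ⧸ N, z • a ≠ a from by
        by_contra hall
        push Not at hall
        apply hz1
        apply toPermHom_injective N (fun h => by rw [h, Subgroup.index_top] at hidx; norm_num at hidx)
        rw [map_one]
        exact Equiv.ext hall) h
  have hf5 : f % 5 = 1 := by
    have hinv : ∀ (a : (P : Subgroup G)) (x : G ⧸ N), z • x = x → z • ((a : G) • x) = (a : G) • x := by
      intro a x hx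
      rw [smul_smul, ← Subgroup.mem_centralizer_iff.1 hzC _ a.2, ← smul_smul, hx]
    let F := MulAction.fixedBy (G ⧸ N) z
    letI : MulAction (P : Subgroup G) F :=
      { smul := fun a x => ⟨(a : G) • x.1, hinv a x.1 x.2⟩
        one_smul := fun x => Subtype.ext (one_smul G x.1)
        mul_smul := fun a b x => Subtype.ext (mul_smul (a : G) (b : G) x.1) }
    have h1 := P.isPGroup'.card_modEq_card_fixedPoints F
    obtain ⟨g0, hg0, hg01⟩ : ∃ a ∈ (P : Subgroup G), a ≠ 1 := by
      by_contra hall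
      push Not at hall
      have : (P : Subgroup G) = ⊥ := (Subgroup.eq_bot_iff_forall _).2 hall
      rw [this, Subgroup.card_bot] at hP
      norm_num at hP
    have hord := orderOf_of_mem hP hg0 hg01
    have hbase : z • ((1 : G) : G ⧸ N) = ((1 : G) : G ⧸ N) := by
      rw [MulAction.Quotient.smul_mk, QuotientGroup.eq]
      simp only [smul_eq_mul, mul_one]
      exact N.inv_mem (Subgroup.centralizer_le_normalizer _ hzC)
    have hbfix : (⟨_, hbase⟩ : F) ∈ MulAction.fixedPoints (P : Subgroup G) F := by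
      intro a
      refine Subtype.ext ?_
      show (a : G) • ((1 : G) : G ⧸ N) = _
      rw [MulAction.Quotient.smul_mk, QuotientGroup.eq]
      simp only [smul_eq_mul, mul_one]
      exact N.inv_mem (Subgroup.le_normalizer a.2)
    have h2 : Nat.card (MulAction.fixedPoints (P : Subgroup G) F) = 1 := by
      have hone := card_fixedBy_eq_one P hP g0 hord
      obtain ⟨hss, -⟩ := Nat.card_eq_one_iff_unique.1 hone
      refine Nat.card_eq_one_iff_unique.2 ⟨⟨fun x y => ?_⟩, ⟨⟨_, hbfix⟩⟩⟩
      have hx : g0 • (x.1.1 : G ⧸ N) = x.1.1 := congrArg Subtype.val (x.2 ⟨g0, hg0⟩)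
      have hy : g0 • (y.1.1 : G ⧸ N) = y.1.1 := congrArg Subtype.val (y.2 ⟨g0, hg0⟩)
      have heq : (⟨x.1.1, hx⟩ : MulAction.fixedBy (G ⧸ N) g0) = ⟨y.1.1, hy⟩ := hss.elim _ _
      exact Subtype.ext (Subtype.ext (congrArg (fun w : MulAction.fixedBy (G ⧸ N) g0 => (w : G ⧸ N)) heq))
    rw [h2] at h1
    exact h1
  have hf16 : f = 16 := by omega
  rw [← hf, hf16] at hfix
  -- conjugates inside and outside `C`
  set I := Nat.card (invSet (P : Subgroup G) z) with hI
  have hI5 : 5 ∣ I := five_dvd_invSet hP hzz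
  have hIle : I ≤ 5 * k := hC ▸ invSet_le_card_centralizer hP hzz
  have hk5 : ¬ 5 ∣ k := by rcases hk with rfl | rfl <;> norm_num
  have hin : L + 1 ≤ I + k := by
    let P' := (P : Subgroup G).subgroupOf C
    have hQ : Nat.card (C ⧸ P') = k := by
      have h1 := Subgroup.card_eq_card_quotient_mul_card_subgroup P'
      rw [hC, Nat.card_congr (Subgroup.subgroupOfEquivOfLe (le_centralizer_five hP)).toEquiv,
        hP] at h1
      omega
    set J := {g : G | IsConj z g ∧ g ∈ C} with hJ
    have hLle : L ≤ Nat.card J + I := by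
      rw [hL, hI]
      have : {g : G | IsConj z g ∧ g ∈ N} ⊆ J ∪ invSet (P : Subgroup G) z := fun g hg => by
        by_cases hgC : g ∈ C
        · exact Or.inl ⟨hg.1, hgC⟩
        · exact Or.inr ⟨hg.1, hg.2, hgC⟩
      have h1 := (Set.ncard_le_ncard this (Set.toFinite _)).trans (Set.ncard_union_le _ _)
      rw [← Nat.card_coe_set_eq, ← Nat.card_coe_set_eq, ← Nat.card_coe_set_eq] at h1
      exact h1
    have hJlt : Nat.card J < k := by
      rw [← hQ]
      let φ : J → C ⧸ P' := fun g => QuotientGroup.mk ⟨g.1, g.2.2⟩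
      have hkey : ∀ y ∈ C, y * y = 1 → y ∈ (P : Subgroup G) → y = 1 := by
        intro y _ hyy hy
        have := pow_gcd_eq_one.2 ⟨pow_five_of_mem hP hy, (pow_two y).trans hyy⟩
        simpa using this
      have hne : ∀ g : J, φ g ≠ ((1 : C) : C ⧸ P') := by
        intro g hg
        rw [QuotientGroup.eq, mul_one] at hg
        have hg' : g.1 ∈ (P : Subgroup G) := by
          simpa [P', Subgroup.mem_subgroupOf] using hg
        have h1 := hkey _ g.2.2 (sq_one_of_isConj hzz g.2.1) hg'
        exact hz1 ((isConj_one_left).1 (h1 ▸ g.2.1))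
      have hinj : Function.Injective φ := by
        intro g g' hgg
        rw [QuotientGroup.eq] at hgg
        have ha : g.1⁻¹ * g'.1 ∈ (P : Subgroup G) := by
          simpa [P', Subgroup.mem_subgroupOf] using hgg
        set a := g.1⁻¹ * g'.1 with haD
        have hga : g.1 * a = g'.1 := by rw [haD, mul_inv_cancel_left]
        have hcomm : a * g.1 = g.1 * a := Subgroup.mem_centralizer_iff.1 g.2.2 _ ha
        have haa : a * a = 1 := by
          have h1 := sq_one_of_isConj hzz g'.2.1
          rw [← hga] at h1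
          calc a * a = (g.1 * g.1) * (a * a) := by rw [sq_one_of_isConj hzz g.2.1, one_mul]
            _ = g.1 * (g.1 * a) * a := by simp [mul_assoc]
            _ = g.1 * (a * g.1) * a := by rw [hcomm]
            _ = g.1 * a * (g.1 * a) := by simp [mul_assoc]
            _ = 1 := h1
        have h2 := hkey a (le_centralizer_five hP ha) haa ha
        exact Subtype.ext (by rw [← hga, h2, mul_one])
      refine lt_of_le_of_ne (Nat.card_le_card_of_injective φ hinj) fun he => ?_
      obtain ⟨g, hg⟩ := ((Nat.bijective_iff_injective_and_card φ).2 ⟨hinj, he⟩).2 ((1 : C) : C ⧸ P')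
      exact hne g hg
    omega
  have hpairs := pairs_le P hP hzz
  rw [hr, ← hcl, ← hI] at hpairs
  -- arithmetic
  obtain ⟨j, hj⟩ := hM20
  have hMpos : 0 < M := Nat.card_pos
  obtain ⟨q, hq⟩ := hM
  have hcm : cl * m = 36 * j := by
    apply Nat.eq_of_mul_eq_mul_right hMpos
    rw [mul_assoc, hclm, hj]; ring
  rcases hk with rfl | rfl
  · norm_num at hq hj
    have hjq : q * j = 3 := by rw [hq] at hj; linarith
    have hj3 : j = 1 ∨ j = 3 := by
      have := (Nat.dvd_prime Nat.prime_three).1 (Dvd.intro_left q hjq)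
      exact this
    rcases hj3 with rfl | rfl
    · have hmle : m ≤ 36 := by nlinarith
      interval_cases m <;> first | omega | (have : cl = 36 := (by omega); rw [this] at hpairs hfix; omega)
    · have hmle : m ≤ 108 := by nlinarith
      have hm' : m ∈ (108 : ℕ).divisors :=
        Nat.mem_divisors.2 ⟨Dvd.intro_left cl (by linarith), by norm_num⟩
      rw [show (108 : ℕ).divisors = {1, 2, 3, 4, 6, 9, 12, 18, 27, 36, 54, 108} by decide +kernel] at hm'
      simp only [Finset.mem_insert, Finset.mem_singleton] at hm'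
      rcases hm' with e | e | e | e | e | e | e | e | e | e | e | e <;> rw [e] at hcm hmod <;>
        try omega
      all_goals
        first
          | (have : cl = 108 := by omega
             rw [this] at hfix
             omega)
          | (have : cl = 18 := by omega
             rw [this] at hpairs hfix
             omega)
  · norm_num at hq hj
    have hj1 : j = 1 := by
      have : q * j = 1 := by rw [hq] at hj; linarith
      exact Nat.eq_one_of_mul_eq_one_left this
    subst hj1
    have hmle : m ≤ 36 := by nlinarith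
    interval_cases m <;> first | omega | (have : cl = 36 := (by omega); rw [this] at hpairs hfix; omega)

end Cfsg.Agent.Lib.SylowCounting.Five
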