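import Cfsg.Agent.Lib.SylowCounting.FiveNormalizer
import Cfsg.Agent.Lib.SylowCounting.InvolutionTrace
import Cfsg.Agent.Lib.Characters.Convolution
import Cfsg.Agent.Lib.Characters.Integrality
import Mathlib.Tactic

/-!
# Order 4320 with a self-centralizing five-element and automizer of order four

Four non-trivial irreducible characters take the values `± 1` on the elements of order five. The
class constant of an involution inverting such an element has no admissible values.
-/

namespace Cfsg.Agent.Lib.SylowCounting.Five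

open Cfsg.Agent.Lib.SylowCounting Cfsg.Agent.Lib.Characters
open scoped ComplexConjugate

set_option linter.unusedSectionVars false

universe u

/-- The sign of a degree. -/
def sgn (d : ℕ) : ℤ := if d % 5 = 1 then 1 else -1

/-- The degrees that can occur. -/
def degs : List ℕ := [4, 6, 9, 16, 24, 36, 54]

/-- The values on an involution allowed by the determinant and faithfulness. -/
def vals (d : ℕ) : List ℤ := (List.range ((d - 1) / 2)).map fun j : ℕ => (d : ℤ) - 4 * ((j : ℤ) + 1)

/-- The excluded configurations. -/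
def noConfig : Bool :=
  degs.all fun d1 => degs.all fun d2 => degs.all fun d3 => degs.all fun d4 =>
    (1 + sgn d1 * d1 + sgn d2 * d2 + sgn d3 * d3 + sgn d4 * d4 != 0) ||
    (4320 < 1 + d1 * d1 + d2 * d2 + d3 * d3 + d4 * d4 : Bool) ||
    (vals d1).all fun a1 => (vals d2).all fun a2 => (vals d3).all fun a3 =>
      let a4 := -(sgn d4) * (1 + sgn d1 * a1 + sgn d2 * a2 + sgn d3 * a3)
      let S := 1 + a1 * a1 + a2 * a2 + a3 * a3 + a4 * a4
      (65 < S : Bool) || !((vals d4).contains a4) ||
        let num : ℤ := d1 * d2 * d3 * d4 + sgn d1 * (a1 * a1) * (d2 * d3 * d4) +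
          sgn d2 * (a2 * a2) * (d1 * d3 * d4) + sgn d3 * (a3 * a3) * (d1 * d2 * d4) +
          sgn d4 * (a4 * a4) * (d1 * d2 * d3)
        (List.range 66).all fun k =>
          ((k : ℤ) < S : Bool) || (864 * num != (k : ℤ) * k * (d1 * d2 * d3 * d4))

theorem noConfig_eq : noConfig = true := by decide +kernel

theorem no_config {d1 d2 d3 d4 : ℕ} {a1 a2 a3 a4 : ℤ} {k : ℕ}
    (h1 : d1 ∈ degs) (h2 : d2 ∈ degs) (h3 : d3 ∈ degs) (h4 : d4 ∈ degs)
    (hv1 : a1 ∈ vals d1) (hv2 : a2 ∈ vals d2) (hv3 : a3 ∈ vals d3) (hv4 : a4 ∈ vals d4)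
    (hdeg : 1 + sgn d1 * d1 + sgn d2 * d2 + sgn d3 * d3 + sgn d4 * d4 = 0)
    (hsq : 1 + d1 * d1 + d2 * d2 + d3 * d3 + d4 * d4 ≤ 4320)
    (hlin : 1 + sgn d1 * a1 + sgn d2 * a2 + sgn d3 * a3 + sgn d4 * a4 = 0)
    (hk : k ≤ 65) (hS : 1 + a1 * a1 + a2 * a2 + a3 * a3 + a4 * a4 ≤ (k : ℤ))
    (heq : 864 * ((d1 : ℤ) * d2 * d3 * d4 + sgn d1 * (a1 * a1) * (d2 * d3 * d4) +
      sgn d2 * (a2 * a2) * (d1 * d3 * d4) + sgn d3 * (a3 * a3) * (d1 * d2 * d4) +
      sgn d4 * (a4 * a4) * (d1 * d2 * d3)) = (k : ℤ) * k * (d1 * d2 * d3 * d4)) : False := by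
  have ha4 : -(sgn d4) * (1 + sgn d1 * a1 + sgn d2 * a2 + sgn d3 * a3) = a4 := by
    have hs : sgn d4 * sgn d4 = 1 := by unfold sgn; split_ifs <;> norm_num
    linear_combination (-(sgn d4)) * hlin + a4 * hs
  have h := noConfig_eq
  simp only [noConfig, List.all_eq_true] at h
  have h' := h d1 h1 d2 h2 d3 h3 d4 h4
  simp only [Bool.or_eq_true, bne_iff_ne, ne_eq, decide_eq_true_eq, List.all_eq_true] at h'
  rcases h' with (h' | h') | h'
  · exact h' hdeg
  · omega
  have h'' := h' a1 hv1 a2 hv2 a3 hv3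
  rw [ha4] at h''
  rcases h'' with (h'' | h'') | h''
  · omega
  · simp [hv4] at h''
  · rcases h'' k (List.mem_range.2 (by omega)) with h5 | h5
    · omega
    · exact h5 heq

variable {G : Type u} [Group G] [Finite G]

set_option maxHeartbeats 1000000 in
-- one long proof
/-- No simple group of order `4320` has a Sylow five-normalizer of order `20` with centralizer of
order five. -/
theorem not_selfcentral [IsSimpleGroup G] (hG : ¬ IsMulCommutative G) [Fact (Nat.Prime 5)]
    (P : Sylow 5 G) (hP : Nat.card (P : Subgroup G) = 5) (hcard : Nat.card G = 4320)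
    (hN : Nat.card (Subgroup.normalizer ((P : Subgroup G) : Set G)) = 20)
    (hC : Nat.card (Subgroup.centralizer ((P : Subgroup G) : Set G)) = 5) : False := by
  classical
  haveI := Fintype.ofFinite G
  haveI := Fintype.ofFinite (IrrCharacter G)
  haveI := Fintype.ofFinite (P : Subgroup G)
  set N := Subgroup.normalizer ((P : Subgroup G) : Set G) with hNdef
  set C := Subgroup.centralizer ((P : Subgroup G) : Set G) with hCdef
  have hCP : C = (P : Subgroup G) :=
    (Subgroup.eq_of_le_of_card_ge (le_centralizer_five hP) (by rw [hC, hP])).symm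
  haveI : Nontrivial (P : Subgroup G) := Finite.one_lt_card_iff_nontrivial.1 (by rw [hP]; norm_num)
  obtain ⟨x0, hx0⟩ := exists_ne (1 : (P : Subgroup G))
  set x : G := (x0 : G) with hx
  have hx1 : x ≠ 1 := fun h => hx0 (Subtype.ext h)
  haveI : IsCyclic (P : Subgroup G) := isCyclic_of_prime_card hP
  have hgen : ∀ b ∈ (P : Subgroup G), ∃ i : ℤ, x ^ i = b := fun b hb => by
    obtain ⟨i, hi⟩ := Subgroup.mem_zpowers_iff.1
      (mem_zpowers_of_prime_card (g := x0) (g' := ⟨b, hb⟩) hP hx0)
    exact ⟨i, by simpa [hx] using congrArg Subtype.val hi⟩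
  have hcx : Subgroup.centralizer ({x} : Set G) = C := by
    refine le_antisymm (fun g hg => Subgroup.mem_centralizer_iff.2 fun b hb => ?_)
      fun g hg => Subgroup.mem_centralizer_singleton_iff.2
        (Subgroup.mem_centralizer_iff.1 hg _ x0.2).symm
    obtain ⟨i, rfl⟩ := hgen b hb
    exact ((Commute.zpow_right (show Commute g x from Subgroup.mem_centralizer_singleton_iff.1 hg)
      i).eq).symm
  -- all generators of `P` are conjugate
  have hconj : ∀ b ∈ (P : Subgroup G), b ≠ 1 → IsConj x b := by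
    let x' : N := ⟨x, Subgroup.le_normalizer x0.2⟩
    have h1 := card_conjClass_mul_card_centralizer x'
    have h2 : Nat.card (Subgroup.centralizer ({x'} : Set N)) = 5 := by
      rw [← hC, ← hcx]
      refine Nat.card_congr
        { toFun := fun g => ⟨g.1.1, Subgroup.mem_centralizer_singleton_iff.2
            (congrArg Subtype.val (Subgroup.mem_centralizer_singleton_iff.1 g.2))⟩
          invFun := fun g => ⟨⟨g.1, Subgroup.centralizer_le_normalizer _ (by
            rw [← hCdef, ← hcx]; exact g.2)⟩,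
            Subgroup.mem_centralizer_singleton_iff.2
              (Subtype.ext (Subgroup.mem_centralizer_singleton_iff.1 g.2))⟩
          left_inv := fun g => rfl
          right_inv := fun g => rfl }
    rw [h2, hN] at h1
    have h4 : Nat.card {g : N // IsConj x' g} = 4 := by omega
    let f : {g : N // IsConj x' g} → {b : (P : Subgroup G) // b ≠ 1} := fun g =>
      ⟨⟨g.1.1, by
        obtain ⟨w, hw⟩ := isConj_iff.1 g.2
        rw [← hw]
        exact (Subgroup.mem_normalizer_iff.1 w.2 _).1 x0.2⟩, fun h => hx1 (by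
        obtain ⟨w, hw⟩ := isConj_iff.1 g.2
        have h' : (g.1 : G) = 1 := congrArg Subtype.val h
        rw [← hw] at h'
        exact conj_eq_one_iff.1 h')⟩
    have hfinj : Function.Injective f := fun g g' h =>
      Subtype.ext (Subtype.ext (congrArg (fun b : {b : (P : Subgroup G) // b ≠ 1} => ((b.1) : G)) h))
    have hcod : Nat.card {b : (P : Subgroup G) // b ≠ 1} = 4 := by
      rw [Nat.card_eq_fintype_card, Fintype.card_subtype_compl, Fintype.card_subtype_eq,
        ← Nat.card_eq_fintype_card, hP]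
    intro b hb hb1
    obtain ⟨g, hg⟩ := ((Nat.bijective_iff_injective_and_card f).2 ⟨hfinj, h4.trans hcod.symm⟩).2
      ⟨⟨b, hb⟩, fun h => hb1 (congrArg Subtype.val h)⟩
    obtain ⟨w, hw⟩ := isConj_iff.1 g.2
    refine isConj_iff.2 ⟨w.1, ?_⟩
    have h' : (g.1 : G) = b := congrArg (fun c : {b : (P : Subgroup G) // b ≠ 1} => ((c.1) : G)) hg
    rw [← h', ← hw]
    rfl
  choose D hDpos hD hDdvd using fun χ : IrrCharacter G =>
    IsIrrCharacter.exists_degree_dvd χ.2
  -- values on `x`
  have hval : ∀ χ : IrrCharacter G, ∃ X : ℤ, (χ : G → ℂ) x = X ∧ (5 : ℤ) ∣ X - D χ := by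
    intro χ
    obtain ⟨m, hm⟩ := IsCharacter.exists_classInner_nat
      (IsIrrCharacter.isCharacter (isIrrCharacter_monoidHom (1 : (P : Subgroup G) →* ℂ)))
      (IsCharacter.restrict (irr_isCharacter χ) (P : Subgroup G))
    have hsum : conj ((D χ : ℂ) + 4 * (χ : G → ℂ) x) = 5 * (m : ℂ) := by
      have h1 : ∑ b : (P : Subgroup G), (χ : G → ℂ) b = (D χ : ℂ) + 4 * (χ : G → ℂ) x := by
        rw [← Finset.add_sum_erase _ _ (Finset.mem_univ (1 : (P : Subgroup G))), OneMemClass.coe_one,
          hD, Finset.sum_congr rfl (fun b hb => ?_ :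
            ∀ b ∈ Finset.univ.erase (1 : (P : Subgroup G)), (χ : G → ℂ) b = (χ : G → ℂ) x),
          Finset.sum_const, Finset.card_erase_of_mem (Finset.mem_univ _), Finset.card_univ,
          ← Nat.card_eq_fintype_card, hP]
        · simp
        · obtain ⟨c, hc⟩ := isConj_iff.1 (hconj b b.2
            fun h => Finset.ne_of_mem_erase hb (Subtype.ext h))
          rw [← hc, IsCharacter.conj_apply (irr_isCharacter χ)]
      simp only [classInner, MonoidHom.one_apply, one_mul] at hm
      rw [← map_sum, h1, hP] at hm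
      rw [← hm]
      push_cast
      ring
    have hsum' : (D χ : ℂ) + 4 * (χ : G → ℂ) x = 5 * (m : ℂ) := by
      have := congrArg conj hsum
      rw [Complex.conj_conj] at this
      rw [this, map_mul, Complex.conj_natCast, show (5 : ℂ) = ((5 : ℕ) : ℂ) by norm_num,
        Complex.conj_natCast]
    have hint := IsCharacter.isIntegral (irr_isCharacter χ) x
    obtain ⟨X, hX⟩ := exists_int_of_isIntegral_rat
      (q := ((5 * m : ℚ) - D χ) / 4) (by
        convert hint using 1
        push_cast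
        linear_combination -(1 / 4 : ℂ) * hsum')
    have hXv : (χ : G → ℂ) x = X := by
      have h1 : (((5 * m : ℚ) - D χ) / 4 : ℂ) = ((X : ℚ) : ℂ) := by rw [← hX]; push_cast; rfl
      push_cast at h1
      linear_combination (1 / 4 : ℂ) * hsum' + h1
    refine ⟨X, hXv, X - (m : ℤ), ?_⟩
    have h2 : ((4 * X + D χ : ℤ) : ℂ) = ((5 * m : ℤ) : ℂ) := by
      push_cast
      rw [← hXv]
      linear_combination hsum'
    have h3 : (4 * X + D χ : ℤ) = 5 * m := Int.cast_injective h2
    linear_combination -h3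
  choose X hX hXmod using hval
  have hD1 : D (trivIrr G) = 1 := by
    have := hD (trivIrr G); rw [trivIrr_apply] at this; exact_mod_cast this.symm
  have hX1 : X (trivIrr G) = 1 := by
    have := hX (trivIrr G); rw [trivIrr_apply] at this; exact_mod_cast this.symm
  have hnorm : ∑ χ, X χ ^ 2 = 5 := by
    have h1 := sum_irr_mul_conj x x
    rw [if_pos (IsConj.refl x), hcx, hC] at h1
    simp only [hX, map_intCast] at h1
    have h2 : ((∑ χ, X χ ^ 2 : ℤ) : ℂ) = ((5 : ℤ) : ℂ) := by
      push_cast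
      rw [show (5 : ℂ) = ((5 : ℕ) : ℂ) by norm_num, ← h1]
      exact Finset.sum_congr rfl fun χ _ => sq _
    exact_mod_cast h2
  have horth : ∀ y : G, ¬ IsConj y x → ∑ χ, (X χ : ℂ) * (χ : G → ℂ) y = 0 := by
    intro y hy
    have h1 := sum_irr_mul_conj y x
    rw [if_neg hy] at h1
    simp only [hX, map_intCast] at h1
    rw [← h1]
    exact Finset.sum_congr rfl fun χ _ => mul_comm _ _
  have hdeg : ∑ χ, X χ * (D χ : ℤ) = 0 := by
    have h1 := horth 1 fun h => hx1 ((isConj_one_right).1 h)
    simp only [hD] at h1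
    exact_mod_cast h1
  set T := (Finset.univ.erase (trivIrr G)).filter fun χ => X χ ≠ 0 with hT
  have hrest : ∑ χ ∈ Finset.univ.erase (trivIrr G), X χ ^ 2 = 4 := by
    have h1 := Finset.add_sum_erase Finset.univ (fun χ => X χ ^ 2) (Finset.mem_univ (trivIrr G))
    simp only [hX1, hnorm] at h1
    linarith
  have hsupp : ∀ {M : Type} [AddCommMonoid M] (f : IrrCharacter G → M),
      (∀ χ, X χ = 0 → f χ = 0) → ∑ χ, f χ = f (trivIrr G) + ∑ χ ∈ T, f χ := by
    intro M _ f hf
    rw [← Finset.add_sum_erase Finset.univ f (Finset.mem_univ (trivIrr G))]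
    congr 1
    rw [hT]
    exact (Finset.sum_filter_of_ne (p := fun χ => X χ ≠ 0) fun χ _ h => fun h0 => h (hf χ h0)).symm
  have hone : ∀ χ ∈ T, X χ ^ 2 = 1 := by
    intro χ hχ
    obtain ⟨hχe, hχ0⟩ := Finset.mem_filter.1 hχ
    have hle : X χ ^ 2 ≤ 4 := hrest ▸ Finset.single_le_sum (f := fun χ => X χ ^ 2)
      (fun i _ => sq_nonneg _) hχe
    have hlo : -2 ≤ X χ := by nlinarith
    have hhi : X χ ≤ 2 := by nlinarith
    by_contra hne
    have h2 : X χ = 2 ∨ X χ = -2 := by
      interval_cases h : X χ <;> simp_all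
    have h4 : X χ ^ 2 = 4 := by rcases h2 with h | h <;> rw [h] <;> norm_num
    have hTone : T = {χ} := by
      refine Finset.eq_singleton_iff_unique_mem.2 ⟨hχ, fun ψ hψ => ?_⟩
      by_contra hψne
      obtain ⟨hψe, hψ0⟩ := Finset.mem_filter.1 hψ
      have h5 : X χ ^ 2 + X ψ ^ 2 ≤ 4 := by
        rw [← hrest, ← Finset.sum_pair (f := fun χ => X χ ^ 2) (Ne.symm hψne)]
        exact Finset.sum_le_sum_of_subset_of_nonneg
          (by intro i hi; simp at hi; rcases hi with rfl | rfl <;> assumption)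
          fun i _ _ => sq_nonneg _
      have : 0 < X ψ ^ 2 := by positivity
      omega
    have h6 := hdeg
    rw [hsupp (fun χ => X χ * (D χ : ℤ)) (fun χ h => by simp [h]), hX1, hD1, hTone,
      Finset.sum_singleton] at h6
    rcases h2 with h | h <;> rw [h] at h6 <;> omega
  have hT4 : T.card = 4 := by
    have h1 : ∑ χ ∈ T, X χ ^ 2 = 4 := by
      rw [← hrest, hT, Finset.sum_filter_of_ne]
      intro χ _ h h0; exact h (by simp [h0])
    rw [Finset.sum_congr rfl hone, Finset.sum_const, nsmul_eq_mul, mul_one] at h1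
    exact_mod_cast h1
  obtain ⟨c1, c2, c3, c4, h12, h13, h14, h23, h24, h34, hTeq⟩ := Finset.card_eq_four.1 hT4
  have hsum4 : ∀ {M : Type} [AddCommMonoid M] (f : IrrCharacter G → M),
      ∑ χ ∈ T, f χ = f c1 + f c2 + f c3 + f c4 := by
    intro M _ f
    rw [hTeq, Finset.sum_insert (by simp [h12, h13, h14]), Finset.sum_insert (by simp [h23, h24]),
      Finset.sum_insert (by simp [h34]), Finset.sum_singleton, add_assoc, add_assoc]
  have hsgn : ∀ χ ∈ T, 1 < D χ ∧ X χ = sgn (D χ) ∧ (D χ % 5 = 1 ∨ D χ % 5 = 4) := by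
    intro χ hχ
    have hne : χ ≠ trivIrr G := Finset.ne_of_mem_erase (Finset.mem_filter.1 hχ).1
    refine ⟨?_, ?_⟩
    · rcases Nat.lt_or_ge 1 (D χ) with h' | h'
      · exact h'
      exfalso
      have h1 : D χ = 1 := le_antisymm h' (hDpos χ)
      obtain ⟨l, hl⟩ := IsCharacter.exists_hom_of_apply_one (irr_isCharacter χ)
        (by rw [hD, h1, Nat.cast_one])
      apply hne
      apply Subtype.ext
      funext y
      rw [hl]
      simp [hom_zmod_trivial hG l y]
    · obtain ⟨q, hq⟩ := hXmod χ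
      unfold sgn
      rcases sq_eq_one_iff.1 (hone χ hχ) with h | h <;> rw [h] at hq ⊢
      · have : D χ % 5 = 1 := by omega
        simp [this]
      · have : D χ % 5 = 4 := by omega
        simp [this]
  have hdsq : 1 + D c1 * D c1 + D c2 * D c2 + D c3 * D c3 + D c4 * D c4 ≤ 4320 := by
    have h1 : ∑ χ, D χ ^ 2 = Nat.card G := by
      have := sum_degree_sq (G := G)
      rw [Finset.sum_congr rfl (fun χ _ => by rw [hD χ] :
        ∀ χ ∈ Finset.univ, (χ : IrrCharacter G).1 1 ^ 2 = ((D χ : ℕ) : ℂ) ^ 2)] at this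
      exact_mod_cast this
    have h2 : ∑ χ ∈ insert (trivIrr G) T, D χ ^ 2 ≤ Nat.card G :=
      h1 ▸ Finset.sum_le_sum_of_subset (Finset.subset_univ _)
    rw [Finset.sum_insert (fun h => Finset.ne_of_mem_erase (Finset.mem_filter.1 h).1 rfl),
      hsum4, hD1, hcard] at h2
    simp only [sq] at h2
    omega
  have hdegs : ∀ χ ∈ T, D χ ∈ degs := by
    intro χ hχ
    obtain ⟨h1, -, h5⟩ := hsgn χ hχ
    have hle : D χ * D χ ≤ 4319 := by
      rw [hTeq] at hχ
      simp only [Finset.mem_insert, Finset.mem_singleton] at hχ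
      rcases hχ with rfl | rfl | rfl | rfl <;> omega
    have hlt : D χ < 66 := by nlinarith
    have hdvd : D χ ∣ 4320 := hcard ▸ hDdvd χ
    have key : ∀ d ∈ Finset.range 66, 1 < d → d ∣ 4320 → (d % 5 = 1 ∨ d % 5 = 4) → d ∈ degs := by
      decide +kernel
    exact key _ (Finset.mem_range.2 hlt) h1 hdvd h5
  -- an involution inverting `x`
  obtain ⟨t, ht⟩ : ∃ t : N, orderOf t = 2 := by
    haveI := Fact.mk Nat.prime_two
    exact exists_prime_orderOf_dvd_card' 2 (by rw [hN]; norm_num)
  have htt : (t : G) * t = 1 := by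
    rw [← Subgroup.coe_mul, ← pow_two, ← ht, pow_orderOf_eq_one]; rfl
  have ht1 : (t : G) ≠ 1 := fun h => by
    rw [show t = 1 from Subtype.ext h, orderOf_one] at ht; norm_num at ht
  have htC : (t : G) ∉ C := by
    intro h
    have h1 := C.orderOf_dvd_natCard h
    rw [Subgroup.orderOf_coe, ht, hC] at h1
    norm_num at h1
  have htinv : (t : G)⁻¹ = t := inv_eq_of_mul_eq_one_right htt
  have htx : ¬ IsConj (t : G) x := by
    intro h
    obtain ⟨c, hc⟩ := isConj_iff.1 h
    apply hx1
    have h2 : x ^ 2 = 1 := by rw [← hc, conj_pow, pow_two, htt]; group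
    have := pow_gcd_eq_one.2 ⟨pow_five_of_mem hP x0.2, h2⟩
    rwa [show Nat.gcd 5 2 = 1 by norm_num, pow_one] at this
  set κ := Nat.card (Subgroup.centralizer ({(t : G)} : Set G)) with hκ
  set cl := Nat.card {g : G // IsConj (t : G) g} with hcl
  have hclκ : cl * κ = 4320 := hcard ▸ card_conjClass_mul_card_centralizer (t : G)
  have hI : Nat.card (invSet (P : Subgroup G) (t : G)) = 5 := by
    have h1 := five_dvd_invSet hP htt
    have h2 := invSet_le_card_centralizer hP htt
    rw [← hCdef, hC] at h2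
    haveI : Nonempty (invSet (P : Subgroup G) (t : G)) := ⟨⟨t, IsConj.refl _, t.2, htC⟩⟩
    have h3 : 0 < Nat.card (invSet (P : Subgroup G) (t : G)) := Nat.card_pos
    omega
  have hκle : κ ≤ 65 := by
    have h1 := pairs_le P hP htt
    have hr : Nat.card (Sylow 5 G) = 216 := by
      have h2 := N.index_mul_card
      rw [hNdef, P.coe_coe, ← P.card_eq_index_normalizer, ← P.coe_coe, ← hNdef, hN, hcard] at h2
      omega
    rw [hI, hr, ← hcl] at h1
    nlinarith
  -- the class constant
  have hpairs : Nat.card {p : G × G //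
      IsConj (t : G) p.1 ∧ IsConj (t : G) p.2 ∧ p.1 * p.2 = x} = 5 := by
    rw [← hI]
    refine Nat.card_congr
      { toFun := fun p => ⟨p.1.1, p.2.1, ?_⟩
        invFun := fun u => ⟨(u.1, u.1 * x), u.2.1,
          u.2.1.trans (isConj_mul_of_involution hP u.2.2.1 u.2.2.2 (sq_one_of_isConj htt u.2.1)
            x0.2), by rw [← mul_assoc, sq_one_of_isConj htt u.2.1, one_mul]⟩
        left_inv := fun p => ?_
        right_inv := fun u => Subtype.ext rfl }
    · obtain ⟨⟨a, b⟩, ha, hb, hab⟩ := p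
      have haa := sq_one_of_isConj htt ha
      have hbb := sq_one_of_isConj htt hb
      have hainv : a⁻¹ = a := inv_eq_of_mul_eq_one_right haa
      have hbinv : b⁻¹ = b := inv_eq_of_mul_eq_one_right hbb
      have hinvx : a * x * a⁻¹ = x⁻¹ := by
        simp only at hab
        rw [← hab, mul_inv_rev, hbinv, ← mul_assoc a a, haa, one_mul]
      show a ∈ N ∧ a ∉ C
      constructor
      · rw [hNdef]
        refine Subgroup.mem_normalizer_iff.2 fun y => ⟨fun hy => ?_, fun hy => ?_⟩
        · obtain ⟨i, rfl⟩ := hgen y hy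
          rw [← conj_zpow, hinvx]
          exact (P : Subgroup G).zpow_mem ((P : Subgroup G).inv_mem x0.2) i
        · obtain ⟨i, hi⟩ := hgen _ hy
          have h1 : y = a⁻¹ * x ^ i * a⁻¹⁻¹ := by rw [hi]; group
          rw [h1, ← conj_zpow, hainv, hinvx]
          exact (P : Subgroup G).zpow_mem ((P : Subgroup G).inv_mem x0.2) i
      · intro haC
        have h1 : a * x * a⁻¹ = x := by
          rw [← Subgroup.mem_centralizer_iff.1 haC _ x0.2, mul_inv_cancel_right]
        rw [hinvx, inv_eq_iff_mul_eq_one, ← pow_two] at h1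
        exact hx1 (by
          have := pow_gcd_eq_one.2 ⟨pow_five_of_mem hP x0.2, h1⟩
          rwa [show Nat.gcd 5 2 = 1 by norm_num, pow_one] at this)
    · obtain ⟨⟨a, b⟩, ha, hb, hab⟩ := p
      simp only at hab
      refine Subtype.ext (Prod.ext rfl ?_)
      show a * x = b
      rw [← hab, ← mul_assoc, sq_one_of_isConj htt ha, one_mul]
  -- values on `t`
  have hdata : ∀ χ ∈ T, ∃ a : ℤ, a ∈ vals (D χ) ∧ (χ : G → ℂ) (t : G) = a := by
    intro χ hχ
    obtain ⟨ρ, hρirr, hρ⟩ : ∃ ρ : Representation ℂ G (Fin (D χ) → ℂ),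
        ρ.IsIrreducible ∧ ρ.character = (χ : G → ℂ) := by
      obtain ⟨n₀, ρ, hirr, hchar⟩ := χ.2
      have h1 := hD χ
      rw [← hchar, ρ.char_one, Module.finrank_fin_fun] at h1
      have hn : n₀ = D χ := by exact_mod_cast h1
      subst hn
      exact ⟨ρ, hirr, hchar⟩
    have hχtr : ∀ y, (χ : G → ℂ) y = LinearMap.trace ℂ (Fin (D χ) → ℂ) (ρ y) := fun y => by
      rw [← hρ]; rfl
    have hfaith : ∀ y : G, ρ y = 1 → y = 1 := by
      intro y hy
      by_contra hy1
      have hker : (ρ.asGroupHom).ker = ⊤ := by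
        refine (IsSimpleGroup.eq_bot_or_eq_top_of_normal _ (MonoidHom.normal_ker _)).resolve_left
          fun hb => hy1 ?_
        have : y ∈ (ρ.asGroupHom).ker :=
          MonoidHom.mem_ker.2 (Units.ext (by rw [Representation.asGroupHom_apply, hy]; rfl))
        rwa [hb, Subgroup.mem_bot] at this
      have h1 : (χ : G → ℂ) x = D χ := by
        have hz : x ∈ (ρ.asGroupHom).ker := hker ▸ Subgroup.mem_top x
        have hz' := congrArg Units.val (MonoidHom.mem_ker.1 hz)
        rw [Representation.asGroupHom_apply, Units.val_one] at hz'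
        rw [hχtr, hz', LinearMap.trace_one, Module.finrank_fin_fun]
      have h2 : X χ = (D χ : ℤ) := by
        have := (hX χ).symm.trans h1
        exact_mod_cast this
      have h3 := hone χ hχ
      have h4 := (hsgn χ hχ).1
      rw [h2] at h3
      nlinarith
    have hdet : LinearMap.det (ρ (t : G)) = 1 := by
      rcases IsSimpleGroup.eq_bot_or_eq_top_of_normal _ (MonoidHom.normal_ker
        ((LinearMap.det : Module.End ℂ (Fin (D χ) → ℂ) →* ℂ).comp ρ).toHomUnits) with h1 | h1
      · exfalso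
        exact hG ⟨⟨fun y z => (MonoidHom.ker_eq_bot_iff _).1 h1 (by simp [mul_comm])⟩⟩
      · have := congrArg Units.val (MonoidHom.mem_ker.1 (h1 ▸ Subgroup.mem_top (t : G)))
        simpa using this
    obtain ⟨l, hle, htr, hd, h0, hfull⟩ := exists_minus_dim
      (A := ρ (t : G)) (by rw [← map_mul, htt, map_one])
    rw [Module.finrank_fin_fun] at hle htr hfull
    rw [hdet] at hd
    have hev : Even l := by
      rcases Nat.even_or_odd l with he | he
      · exact he
      · rw [he.neg_one_pow] at hd; norm_num at hd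
    have hl0 : 0 < l := Nat.pos_of_ne_zero fun hl => ht1 (hfaith _ (h0 hl))
    have hl1 : l < D χ := by
      refine lt_of_le_of_ne hle fun hl => ?_
      have hy := hfull hl
      apply ht1
      have hcen : ∀ z : G, z * (t : G) * z⁻¹ * (t : G) = 1 := fun z => hfaith _ (by
        rw [map_mul, map_mul, map_mul, hy]
        apply LinearMap.ext
        intro v
        simp only [Module.End.mul_apply, LinearMap.neg_apply, Module.End.one_apply, map_neg,
          neg_neg]
        rw [← Module.End.mul_apply, ← map_mul, mul_inv_cancel, map_one, Module.End.one_apply])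
      have hyc : (t : G) ∈ Subgroup.center G := Subgroup.mem_center_iff.2 fun z => by
        have h3 : z * (t : G) * z⁻¹ = t := by
          rw [← htinv]
          nth_rewrite 1 [htinv]
          exact eq_inv_of_mul_eq_one_left (hcen z)
        exact mul_inv_eq_iff_eq_mul.1 h3
      rcases IsSimpleGroup.eq_bot_or_eq_top_of_normal (Subgroup.center G) inferInstance with h1 | h1
      · rwa [h1, Subgroup.mem_bot] at hyc
      · exact absurd ⟨⟨fun z w => (Subgroup.mem_center_iff.1 (h1 ▸ Subgroup.mem_top w) z)⟩⟩ hG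
    obtain ⟨j, hj⟩ := hev
    refine ⟨(D χ : ℤ) - 2 * l, ?_, by rw [hχtr, htr]; push_cast; ring⟩
    refine List.mem_map.2 ⟨j - 1, List.mem_range.2 (by omega), ?_⟩
    push_cast [Nat.cast_sub (by omega : 1 ≤ j), hj]
    ring
  have m1 : c1 ∈ T := by rw [hTeq]; simp
  have m2 : c2 ∈ T := by rw [hTeq]; simp
  have m3 : c3 ∈ T := by rw [hTeq]; simp
  have m4 : c4 ∈ T := by rw [hTeq]; simp
  obtain ⟨a1, v1, e1⟩ := hdata c1 m1
  obtain ⟨a2, v2, e2⟩ := hdata c2 m2
  obtain ⟨a3, v3, e3⟩ := hdata c3 m3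
  obtain ⟨a4, v4, e4⟩ := hdata c4 m4
  have s1 := (hsgn c1 m1).2.1
  have s2 := (hsgn c2 m2).2.1
  have s3 := (hsgn c3 m3).2.1
  have s4 := (hsgn c4 m4).2.1
  refine no_config (hdegs c1 m1) (hdegs c2 m2) (hdegs c3 m3) (hdegs c4 m4) v1 v2 v3 v4 ?_ hdsq ?_
    hκle ?_ ?_
  · have h := hdeg
    rw [hsupp (fun χ => X χ * (D χ : ℤ)) (fun χ h => by simp [h]), hsum4, hX1, hD1, s1, s2, s3,
      s4] at h
    push_cast at h
    linear_combination h
  · have h := horth (t : G) htx
    rw [hsupp (fun χ => (X χ : ℂ) * (χ : G → ℂ) (t : G)) (fun χ h => by simp [h]), hsum4, hX1,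
      trivIrr_apply, s1, s2, s3, s4, e1, e2, e3, e4] at h
    have h' : ((1 + sgn (D c1) * a1 + sgn (D c2) * a2 + sgn (D c3) * a3 + sgn (D c4) * a4 : ℤ) : ℂ) =
        ((0 : ℤ) : ℂ) := by
      push_cast at h ⊢
      linear_combination h
    exact_mod_cast h'
  · have h1 := congrArg Complex.re (sum_irr_mul_conj (t : G) (t : G))
    rw [if_pos (IsConj.refl _), Complex.re_sum] at h1
    simp only [Complex.mul_conj, Complex.ofReal_re, Complex.natCast_re] at h1
    have h2 : ∑ χ ∈ insert (trivIrr G) T, Complex.normSq ((χ : G → ℂ) (t : G)) ≤ (κ : ℝ) := by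
      rw [hκ, ← h1]
      exact Finset.sum_le_sum_of_subset_of_nonneg (Finset.subset_univ _)
        fun i _ _ => Complex.normSq_nonneg _
    rw [Finset.sum_insert (fun h => Finset.ne_of_mem_erase (Finset.mem_filter.1 h).1 rfl), hsum4,
      trivIrr_apply, e1, e2, e3, e4] at h2
    simp only [map_one, Complex.normSq_intCast] at h2
    have h3 : (((1 + a1 * a1 + a2 * a2 + a3 * a3 + a4 * a4 : ℤ)) : ℝ) ≤ ((κ : ℤ) : ℝ) := by
      push_cast
      linarith
    exact_mod_cast h3
  · have h := card_class_mul (t : G) (t : G) x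
    rw [hpairs, ← hcl, hcard] at h
    rw [hsupp (fun χ => (χ : G → ℂ) (t : G) * (χ : G → ℂ) (t : G) * conj ((χ : G → ℂ) x) /
        (χ : G → ℂ) 1) (fun χ h => by simp [hX, h]), hsum4] at h
    simp only [hX, map_intCast, trivIrr_apply, map_one, hD, s1, s2, s3, s4, e1, e2, e3, e4,
      mul_one, div_one] at h
    have hclk : (cl : ℂ) * κ = 4320 := by exact_mod_cast hclκ
    have hq : ∀ c : IrrCharacter G, (D c : ℂ) ≠ 0 := fun c => by exact_mod_cast (hDpos c).ne'
    have hq1 := hq c1
    have hq2 := hq c2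
    have hq3 := hq c3
    have hq4 := hq c4
    set B : ℂ := (1 : ℂ) + (a1 : ℂ) * a1 * sgn (D c1) / D c1 + (a2 : ℂ) * a2 * sgn (D c2) / D c2 +
      (a3 : ℂ) * a3 * sgn (D c3) / D c3 + (a4 : ℂ) * a4 * sgn (D c4) / D c4 with hB
    have h5 : (κ : ℂ) * κ = 864 * B := by
      have h6 : (5 : ℂ) = (cl : ℂ) * cl / 4320 * B := by
        rw [hB]; rw [hX1, hD1] at h; push_cast at h; linear_combination h
      linear_combination ((κ : ℂ) * κ / 5) * h6 + ((cl * κ + 4320) / 21600 : ℂ) * B * hclk
    have h7 : (864 : ℂ) * ((D c1 : ℂ) * D c2 * D c3 * D c4 +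
        sgn (D c1) * (a1 * a1) * (D c2 * D c3 * D c4) +
        sgn (D c2) * (a2 * a2) * (D c1 * D c3 * D c4) +
        sgn (D c3) * (a3 * a3) * (D c1 * D c2 * D c4) +
        sgn (D c4) * (a4 * a4) * (D c1 * D c2 * D c3)) =
        (κ : ℂ) * κ * ((D c1 : ℂ) * D c2 * D c3 * D c4) := by
      rw [h5, hB]
      field_simp
    exact_mod_cast h7

end Cfsg.Agent.Lib.SylowCounting.Five
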