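import Cfsg.Agent.Lib.Perm.RegularNormal
import Cfsg.Agent.Lib.Perm.SharplyTwo
import Mathlib.GroupTheory.GroupAction.MultiplePrimitivity

/-!
Non-regular normal subgroups of multiply primitive groups are multiply transitive.
-/

set_option autoImplicit false
set_option linter.style.haveILetI false

open MulAction

namespace Cfsg.Agent.Lib.SylowCounting

universe u v

theorem normal_multiply : ∀ (k : ℕ) {G : Type u} {α : Type v} [Group G] [Finite G] [Fintype α]
    [MulAction G α] [FaithfulSMul G α], IsMultiplyPreprimitive G α k → 1 ≤ k →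
    (3 ≤ k → k + 2 ≤ Fintype.card α) → k ≤ Fintype.card α →
    ∀ (H : Subgroup G) [H.Normal], (∃ a : α, stabilizer H a ≠ ⊥) →
      IsMultiplyPretransitive H α k := by
  intro k
  induction k with
  | zero => intro _ _ _ _ _ _ _ _ h; omega
  | succ k ih =>
    intro G α _ _ _ _ _ hprim _ hbig hle H _ hnr
    classical
    obtain ⟨a₁, ha₁⟩ := hnr
    have hE : ((k + 1 : ℕ) : ℕ∞) ≤ ENat.card α := by
      rw [ENat.card_eq_coe_fintype_card]; exact_mod_cast hle
    haveI h1 : IsPreprimitive G α := (is_one_preprimitive_iff G α).1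
      (isMultiplyPreprimitive_of_le G α hprim (by omega) hE)
    have hH : H ≠ ⊥ := by
      intro e
      subst e
      exact ha₁ (Subsingleton.elim _ _)
    haveI htr : IsPretransitive H α := Cfsg.Agent.Lib.Perm.isPretransitive_of_normal H hH
    rcases Nat.eq_zero_or_pos k with rfl | hk
    · exact is_one_pretransitive_iff.2 htr
    have hconj : ∀ a : α, ∃ h ∈ H, h • a = a ∧ h ≠ 1 := by
      intro a
      obtain ⟨g, hg⟩ := exists_smul_eq G a₁ a
      obtain ⟨⟨h, hh⟩, hne⟩ := (Subgroup.ne_bot_iff_exists_ne_one).1 ha₁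
      refine ⟨g * h * g⁻¹, Subgroup.Normal.conj_mem inferInstance _ h.2 g, ?_, fun e => hne ?_⟩
      · rw [← hg, mul_smul, mul_smul, inv_smul_smul]
        exact congrArg (g • ·) hh
      · rw [conj_eq_one_iff] at e
        exact Subtype.ext (Subtype.ext e)
    obtain ⟨a⟩ : Nonempty α := ⟨a₁⟩
    set H' : Subgroup (stabilizer G a) := H.subgroupOf (stabilizer G a)
    haveI : H'.Normal := inferInstance
    have hprim' : IsMultiplyPreprimitive (stabilizer G a) (SubMulAction.ofStabilizer G a) k := by
      haveI := hprim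
      exact isMultiplyPreprimitive_ofStabilizer G α
    haveI : FaithfulSMul (stabilizer G a) (SubMulAction.ofStabilizer G a) := ⟨fun {g h} e => by
      apply Subtype.ext
      refine eq_of_smul_eq_smul fun x : α => ?_
      by_cases hx : x = a
      · rw [hx, mem_stabilizer_iff.1 g.2, mem_stabilizer_iff.1 h.2]
      · exact congrArg Subtype.val (e ⟨x, hx⟩)⟩
    haveI : Fintype (SubMulAction.ofStabilizer G a) := Fintype.ofFinite _
    have hcard : Fintype.card (SubMulAction.ofStabilizer G a) + 1 = Fintype.card α := by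
      rw [← Nat.card_eq_fintype_card, ← Nat.card_eq_fintype_card]
      exact SubMulAction.nat_card_ofStabilizer_add_one_eq G a
    have hH'1 : H' ≠ ⊥ := by
      obtain ⟨h, hh, hha, hne⟩ := hconj a
      intro e
      have : (⟨h, mem_stabilizer_iff.2 hha⟩ : stabilizer G a) ∈ H' := hh
      rw [e, Subgroup.mem_bot] at this
      exact hne (congrArg Subtype.val this)
    -- transitivity of `H` from the one of its point stabiliser
    suffices hkey : IsMultiplyPretransitive H' (SubMulAction.ofStabilizer G a) k by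
      refine (SubMulAction.ofStabilizer.isMultiplyPretransitive (a := a)).2 ⟨fun x y => ?_⟩
      let f : SubMulAction.ofStabilizer H a ↪ SubMulAction.ofStabilizer G a :=
        ⟨fun z => ⟨z.1, z.2⟩, fun z w e => Subtype.ext (congrArg Subtype.val e :)⟩
      obtain ⟨g, hg⟩ := hkey.exists_smul_eq (x.trans f) (y.trans f)
      have hgH : ((g : stabilizer G a) : G) ∈ H := g.2
      refine ⟨⟨⟨((g : stabilizer G a) : G), hgH⟩, (g : stabilizer G a).2⟩, ?_⟩
      ext i
      exact (congrArg Subtype.val (DFunLike.congr_fun hg i) :)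
    by_cases hreg : ∀ b : SubMulAction.ofStabilizer G a, stabilizer H' b = ⊥
    swap
    · push Not at hreg
      exact ih hprim' hk (fun h => by have := hbig (by omega); omega) (by omega) H' hreg
    -- regular stabiliser
    haveI : IsPreprimitive (stabilizer G a) (SubMulAction.ofStabilizer G a) :=
      (is_one_preprimitive_iff _ _).1 (isMultiplyPreprimitive_of_le _ _ hprim' hk
        (by rw [ENat.card_eq_coe_fintype_card]; exact_mod_cast (by omega : k ≤ _)))
    have htr' : IsPretransitive H' (SubMulAction.ofStabilizer G a) :=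
      Cfsg.Agent.Lib.Perm.isPretransitive_of_normal H' hH'1
    rcases Nat.lt_or_ge k 2 with hk2 | hk2
    · obtain rfl : k = 1 := by omega
      exact is_one_pretransitive_iff.2 htr'
    exfalso
    -- `H` is sharply two-transitive
    have hH2 : IsMultiplyPretransitive H α 2 := by
      refine (SubMulAction.ofStabilizer.isMultiplyPretransitive (a := a)).2 (is_one_pretransitive_iff.2 ⟨fun x y => ?_⟩)
      obtain ⟨g, hg⟩ := htr'.exists_smul_eq ⟨x.1, x.2⟩ ⟨y.1, y.2⟩
      have hgH : ((g : stabilizer G a) : G) ∈ H := g.2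
      exact ⟨⟨⟨((g : stabilizer G a) : G), hgH⟩, (g : stabilizer G a).2⟩, Subtype.ext (congrArg Subtype.val hg :)⟩
    have hsharp : ∀ x : Fin 2 ↪ α, stabilizer H x = ⊥ := by
      intro x
      rw [Subgroup.eq_bot_iff_forall]
      intro h hh
      obtain ⟨g, hg⟩ := exists_smul_eq G (x 0) a
      have h0 : h • x 0 = x 0 := DFunLike.congr_fun hh 0
      have h1 : h • x 1 = x 1 := DFunLike.congr_fun hh 1
      have hg0 : (g * (h : G) * g⁻¹) • a = a := by
        rw [← hg, mul_smul, mul_smul, inv_smul_smul]
        exact congrArg (g • ·) h0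
      have hne : g • x 1 ≠ a := fun e =>
        absurd (x.injective ((MulAction.injective g) (e.trans hg.symm))) (by decide)
      have hb := hreg ⟨g • x 1, hne⟩
      rw [Subgroup.eq_bot_iff_forall] at hb
      have hmem : (⟨g * (h : G) * g⁻¹, mem_stabilizer_iff.2 hg0⟩ : stabilizer G a) ∈ H' :=
        Subgroup.Normal.conj_mem inferInstance _ h.2 g
      have e := hb ⟨_, hmem⟩ (Subtype.ext (by
        show (g * (h : G) * g⁻¹) • g • x 1 = g • x 1
        rw [mul_smul, inv_smul_smul, mul_smul]
        exact congrArg (g • ·) h1))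
      have e' : g * (h : G) * g⁻¹ = 1 := congrArg (fun z : H' => ((z : stabilizer G a) : G)) e
      rw [conj_eq_one_iff] at e'
      exact Subtype.ext e'
    obtain ⟨T, p, j, -, -, -, -, -, -, -, -, hTtr, hTfree, hTmem⟩ :=
      Cfsg.Agent.Lib.Perm.exists_translation_subgroup hH2 hsharp (by omega)
    set T' : Subgroup G := T.map H.subtype
    haveI : T'.Normal := ⟨by
      rintro _ ⟨t, ht, rfl⟩ g
      refine ⟨⟨g * (t : G) * g⁻¹, Subgroup.Normal.conj_mem inferInstance _ t.2 g⟩, ?_, rfl⟩
      rcases (hTmem t).1 ht with rfl | hf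
      · refine (hTmem _).2 (Or.inl (Subtype.ext ?_))
        simp
      · refine (hTmem _).2 (Or.inr fun b e => hf (g⁻¹ • b) ?_)
        have e' : (g * (t : G) * g⁻¹) • b = b := e
        rw [mul_smul, mul_smul, ← eq_inv_smul_iff] at e'
        exact e'⟩
    have hT'tr : IsPretransitive T' α := ⟨fun x y => by
      obtain ⟨t, ht⟩ := hTtr.exists_smul_eq x y
      exact ⟨⟨_, Subgroup.mem_map_of_mem H.subtype t.2⟩, ht⟩⟩
    have hT'free : ∀ x : α, stabilizer T' x = ⊥ := by
      intro x
      rw [Subgroup.eq_bot_iff_forall]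
      rintro ⟨_, t, ht, rfl⟩ hx
      have := (Subgroup.eq_bot_iff_forall _).1 (hTfree x) ⟨t, ht⟩ hx
      exact Subtype.ext (congrArg (fun z : T => ((z : H) : G)) this)
    have h3 : IsMultiplyPreprimitive G α 3 := isMultiplyPreprimitive_of_le G α hprim (by omega) hE
    have := Cfsg.Agent.Lib.Perm.regular_normal_three_primitive (by omega) h3 T' hT'tr hT'free
    have := hbig (by omega)
    omega

end Cfsg.Agent.Lib.SylowCounting
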