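import Cfsg.Agent.Lib.SylowCounting.SignTrick
import Cfsg.Agent.Lib.SylowCounting.DegreeKill
import Cfsg.Agent.Lib.SylowCounting.DegreeFamily
import Mathlib.Tactic
import Mathlib.Algebra.Field.ZMod
import Cfsg.Agent.Lib.Solvable.Nilpotent

/-!
# Groups of order 1440
-/

namespace Cfsg.Agent.Lib.SylowCounting.Order1440

open Cfsg.Agent.Lib.SylowCounting

set_option linter.unusedSectionVars false

universe u

variable {G : Type u} [Group G] [Finite G]

/-- The centralizer of a Sylow five-subgroup does not have order 45 when there are sixteen of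
them. -/
theorem not_sixteen (P : Sylow 5 G) [Fact (Nat.Prime 5)] (hP : Nat.card (P : Subgroup G) = 5)
    (hr : Nat.card (Sylow 5 G) = 16)
    (hinj : Function.Injective (MulAction.toPermHom G
      (G ⧸ Subgroup.normalizer ((P : Subgroup G) : Set G))))
    (h9 : 9 ∣ Nat.card (Subgroup.centralizer ((P : Subgroup G) : Set G))) : False := by
  classical
  set N := Subgroup.normalizer ((P : Subgroup G) : Set G) with hN
  set C := Subgroup.centralizer ((P : Subgroup G) : Set G) with hC
  set O := MulAction.orbitRel.Quotient (P : Subgroup G) (G ⧸ N)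
  have hO : Nat.card O = 4 := by
    have : Nat.card O * 5 + 1 = Nat.card (Sylow 5 G) + 5 := orbits_mul_eq P hP
    rw [hr] at this
    omega
  -- `C` permutes the orbits
  have hact : ∀ (c : C) (a b : G ⧸ N), (MulAction.orbitRel (P : Subgroup G) (G ⧸ N)).r a b →
      (MulAction.orbitRel (P : Subgroup G) (G ⧸ N)).r ((c : G) • a) ((c : G) • b) := by
    intro c a b hab
    obtain ⟨w, hw⟩ := MulAction.orbitRel_apply.1 hab
    refine MulAction.orbitRel_apply.2 ⟨w, ?_⟩
    have hw' : (w : G) • b = a := hw
    show (w : G) • (c : G) • b = (c : G) • a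
    rw [smul_smul, Subgroup.mem_centralizer_iff.1 c.2 _ w.2, ← smul_smul, hw']
  let f : C → O → O := fun c => Quotient.map' (fun a => (c : G) • a) (hact c)
  letI : MulAction C O :=
    { smul := f
      one_smul := fun o => Quotient.inductionOn' o fun a => by
        show f 1 (Quotient.mk'' a) = Quotient.mk'' a
        simp [f]
      mul_smul := fun c d o => Quotient.inductionOn' o fun a => by
        show f (c * d) (Quotient.mk'' a) = f c (f d (Quotient.mk'' a))
        simp [f, mul_smul] }
  set base : O := Quotient.mk'' ((1 : G) : G ⧸ N)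
  have hbase : ∀ c : C, c • base = base := by
    intro c
    show f c (Quotient.mk'' ((1 : G) : G ⧸ N)) = _
    simp only [f, Quotient.map'_mk'']
    congr 1
    rw [MulAction.Quotient.smul_mk, QuotientGroup.eq]
    have hcN : (c : G) ∈ N := Subgroup.centralizer_le_normalizer _ c.2
    simpa using hcN
  -- three-elements fixing all orbits are trivial
  have hker : ∀ c : C, (c : G) ^ 9 = 1 → (∀ o : O, c • o = o) → c = 1 := by
    intro c hc9 hfix
    have h5 : (c : G) ^ 5 = 1 := by
      apply hinj
      rw [map_one]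
      refine Equiv.ext fun a => ?_
      obtain ⟨w, hw⟩ : (c : G) • a ∈ MulAction.orbit (P : Subgroup G) a := by
        have h1 : f c (Quotient.mk'' a) = Quotient.mk'' a := hfix (Quotient.mk'' a)
        simp only [f, Quotient.map'_mk''] at h1
        exact MulAction.orbitRel_apply.1 (Quotient.eq''.1 h1)
      have hw' : (w : G) • a = (c : G) • a := hw
      have hk : ∀ k : ℕ, (c : G) ^ k • a = (w : G) ^ k • a := by
        intro k
        induction k with
        | zero => simp
        | succ k ih =>
          rw [pow_succ', mul_smul, ih, smul_smul,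
            ((Commute.pow_right (show Commute (c : G) w from
              (Subgroup.mem_centralizer_iff.1 c.2 _ w.2).symm) k).eq), ← smul_smul, ← hw',
            smul_smul, ← pow_succ]
      show (c : G) ^ 5 • a = a
      rw [hk, show (w : G) ^ 5 = 1 from by
        have := congrArg Subtype.val (pow_card_eq_one' (x := w))
        rwa [hP, SubmonoidClass.coe_pow, OneMemClass.coe_one] at this, one_smul]
    apply Subtype.ext
    have := pow_gcd_eq_one.2 ⟨hc9, h5⟩
    rwa [show Nat.gcd 9 5 = 1 by norm_num, pow_one] at this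
  haveI : Fact (Nat.Prime 3) := ⟨by norm_num⟩
  obtain ⟨S, hS⟩ := Sylow.exists_subgroup_card_pow_prime 3 (G := C) (n := 2) (by norm_num; exact h9)
  haveI : Fintype O := Fintype.ofFinite _
  -- homomorphism to permutations of the orbits
  let φ : S →* Equiv.Perm O := (MulAction.toPermHom C O).comp S.subtype
  have hφ : Function.Injective φ := by
    intro a b hab
    have h1 : ((a * b⁻¹ : S) : C) = 1 := by
      refine hker _ ?_ fun o => ?_
      · have := congrArg (fun x : S => ((x : C) : G)) (pow_card_eq_one' (x := a * b⁻¹))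
        simpa [hS] using this
      · have h2 : φ (a * b⁻¹) = 1 := by rw [map_mul, hab, ← map_mul, mul_inv_cancel, map_one]
        exact congrArg (fun e : Equiv.Perm O => e o) h2
    exact mul_inv_eq_one.1 (Subtype.ext h1)
  have h1 := Subgroup.card_dvd_of_injective φ hφ
  rw [hS, Nat.card_perm, hO] at h1
  norm_num [Nat.factorial] at h1

set_option maxHeartbeats 1000000 in
-- one long proof
/-- No simple group has order 1440. -/
theorem card_ne [IsSimpleGroup G] : Nat.card G ≠ 1440 := by
  classical
  intro hcard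
  haveI : Fact (Nat.Prime 5) := ⟨by norm_num⟩
  have hG : ¬ IsMulCommutative G := not_comm_of_not_prime (by rw [hcard]; norm_num)
  have hc5 : Nat.card G = 5 ^ 1 * 288 := by rw [hcard]; norm_num
  have hr := sylow_count_mem_of_excluded 1440 5 288 1 (by norm_num) (by norm_num) (by norm_num)
    (by norm_num) (by norm_num) hcard {16, 36} (by decide +kernel)
  let P : Sylow 5 G := default
  have hP : Nat.card (P : Subgroup G) = 5 := by rw [sylow_card hc5 (by norm_num) P, pow_one]
  set N := Subgroup.normalizer ((P : Subgroup G) : Set G) with hNdef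
  set C := Subgroup.centralizer ((P : Subgroup G) : Set G) with hCdef
  have hidx : N.index = Nat.card (Sylow 5 G) := by
    rw [hNdef, Sylow.card_eq_index_normalizer P, P.coe_coe]
  have hNt : N ≠ ⊤ := by
    intro h
    rw [h, Subgroup.index_top] at hidx
    simp only [Finset.mem_insert, Finset.mem_singleton, ← hidx] at hr
    omega
  obtain ⟨e, c, hec, he1, hed, h5c, hcC⟩ := normalizer_card_eq hG P hP
  obtain ⟨k, rfl⟩ := h5c
  rw [← hCdef] at hcC
  rw [← hNdef] at hec
  have hmul := N.index_mul_card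
  rw [hcard, hidx] at hmul
  simp only [Finset.mem_insert, Finset.mem_singleton] at hr
  have he4 : e ≤ 4 := Nat.le_of_dvd (by norm_num) hed
  rcases hr with hr | hr
  · rw [hr] at hmul
    refine not_sixteen P hP hr (toPermHom_injective N hNt) ?_
    rw [← hCdef, ← hcC]
    have h18 : e * k = 18 := by rw [hec] at hmul; linarith
    have he2 : e = 2 := by interval_cases e <;> omega
    subst he2
    obtain rfl : k = 9 := by omega
    norm_num
  -- thirty-six Sylow five-subgroups
  have hN : Nat.card N = 40 := by rw [hr] at hmul; omega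
  have hek : e * k = 8 := by rw [hN] at hec; linarith
  have he : e = 2 ∨ e = 4 := by interval_cases e <;> omega
  have hk : k = 2 ∨ k = 4 := by rcases he with rfl | rfl <;> omega
  have hCcard : Nat.card C = 5 * k := hcC.symm
  have hCle : Nat.card C ≤ 20 := by rcases hk with rfl | rfl <;> omega
  have hC5 : Nat.card C = 5 * k := hCcard
  have hCN : C ≤ N := Subgroup.centralizer_le_normalizer _
  have hPC : (P : Subgroup G) ≤ C := by
    haveI : IsCyclic (P : Subgroup G) := isCyclic_of_prime_card hP
    exact fun a ha => Subgroup.mem_centralizer_iff.2 fun b hb => congrArg Subtype.val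
      ((IsCyclic.commGroup (α := (P : Subgroup G))).mul_comm ⟨b, hb⟩ ⟨a, ha⟩)
  have hconjC : ∀ n ∈ N, ∀ x ∈ C, n * x * n⁻¹ ∈ C := by
    intro n hn x hx
    refine Subgroup.mem_centralizer_iff.2 fun b hb => ?_
    have hb' : n⁻¹ * b * n ∈ (P : Subgroup G) := by
      simpa using (Subgroup.mem_normalizer_iff.1 (N.inv_mem hn) b).1 hb
    have := Subgroup.mem_centralizer_iff.1 hx _ hb'
    calc b * (n * x * n⁻¹) = n * ((n⁻¹ * b * n) * x) * n⁻¹ := by group
      _ = n * (x * (n⁻¹ * b * n)) * n⁻¹ := by rw [this]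
      _ = (n * x * n⁻¹) * b := by group
  have hkP : ∀ y ∈ C, y ^ k ∈ (P : Subgroup G) := fun y hy =>
    pow_mem_of_mem_centralizer (by norm_num) (P : Subgroup G) hP hC5 hy
  -- involutions of `N` outside `C` invert `P`
  have hordP : ∀ a ∈ (P : Subgroup G), a ^ 5 = 1 := fun a ha => by
    have := congrArg Subtype.val (pow_card_eq_one' (x := (⟨a, ha⟩ : (P : Subgroup G))))
    rwa [hP, SubmonoidClass.coe_pow, OneMemClass.coe_one] at this
  haveI : Nontrivial (P : Subgroup G) :=
    Finite.one_lt_card_iff_nontrivial.1 (by rw [hP]; norm_num)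
  obtain ⟨g0, hg0⟩ := exists_ne (1 : (P : Subgroup G))
  have hg0ord : orderOf (g0 : G) = 5 :=
    orderOf_of_mem hP g0.2 fun h => hg0 (Subtype.ext h)
  have hinvP : ∀ t ∈ N, t ∉ C → t * t = 1 → ∀ a ∈ (P : Subgroup G), t * a * t⁻¹ = a⁻¹ := by
    intro t ht htC htt
    obtain ⟨u, hu⟩ := exists_conj_pow (by norm_num : Nat.Prime 5) (P : Subgroup G) hP
      (N.inv_mem ht)
    simp only [inv_inv] at hu
    have h2 : (g0 : G) ^ (u * u) = (g0 : G) ^ 1 := by
      rw [pow_mul, ← hu _ g0.2, ← hu _ (hu _ g0.2 ▸ pow_mem g0.2 u), pow_one]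
      calc t * (t * (g0 : G) * t⁻¹) * t⁻¹ = (t * t) * g0 * (t * t)⁻¹ := by group
        _ = g0 := by rw [htt]; simp
    rw [pow_eq_pow_iff_modEq, hg0ord] at h2
    have h3 : ((u : ZMod 5)) ^ 2 = 1 := by
      rw [sq, ← Nat.cast_mul, (ZMod.natCast_eq_natCast_iff _ _ _).2 h2, Nat.cast_one]
    rcases sq_eq_one_iff.1 h3 with h4 | h4
    · refine absurd (Subgroup.mem_centralizer_iff.2 fun b hb => ?_) htC
      rw [← Nat.cast_one, ZMod.natCast_eq_natCast_iff'] at h4
      have hb2 : t * b * t⁻¹ = b := by
        rw [hu b hb, pow_eq_pow_mod u (hordP b hb), h4]; simp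
      exact (mul_inv_eq_iff_eq_mul.1 hb2).symm
    · intro a ha
      rw [hu a ha]
      apply eq_inv_of_mul_eq_one_left
      rw [← pow_succ]
      obtain ⟨r, hr⟩ : 5 ∣ u + 1 := by
        rw [← ZMod.natCast_eq_zero_iff, Nat.cast_add, h4]; simp
      rw [hr, pow_mul, hordP a ha, one_pow]
  -- a conjugate of `t` times an element of `P`
  have hPinv : ∀ t ∈ N, t ∉ C → t * t = 1 → ∀ a ∈ (P : Subgroup G), IsConj t (t * a) := by
    intro t ht htC htt a ha
    refine isConj_iff.2 ⟨a ^ 2, ?_⟩
    have hb : a ^ 2 ∈ (P : Subgroup G) := pow_mem ha 2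
    have h1 := hinvP t ht htC htt (a ^ 2) hb
    have htinv : t⁻¹ = t := inv_eq_of_mul_eq_one_right htt
    calc a ^ 2 * t * (a ^ 2)⁻¹ = (t * t) * a ^ 2 * t * (a ^ 2)⁻¹ := by rw [htt, one_mul]
      _ = t * (t * a ^ 2 * t⁻¹) * (a ^ 2)⁻¹ := by rw [htinv]; group
      _ = t * ((a ^ 2)⁻¹ * (a ^ 2)⁻¹) := by rw [h1]; group
      _ = t * a := by
        congr 1
        rw [← mul_inv_rev, inv_eq_iff_mul_eq_one, ← pow_add, ← pow_succ]
        exact hordP a ha
  -- the class of a central involution of `N` inside `C`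
  have hkey : ∀ z ∈ C, z * z = 1 → z ≠ 1 → (∀ n ∈ N, n * z = z * n) →
      Nat.card {g : G // IsConj z g ∧ g ∈ N ∧ g ∉ C} = 15 ∧
        ∀ g, IsConj z g → g ∈ C → g = z := by
    intro z hzC hzz hz1 hzc
    set K := Subgroup.centralizer ({z} : Set G) with hKdef
    have hNK : N ≤ K := fun n hn => Subgroup.mem_centralizer_singleton_iff.2 (hzc n hn)
    have hKt : K ≠ ⊤ := by
      intro hK
      have hz : z ∈ Subgroup.center G := Subgroup.mem_center_iff.2 fun g =>
        Subgroup.mem_centralizer_singleton_iff.1 (show g ∈ K by rw [hK]; exact Subgroup.mem_top g)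
      rcases IsSimpleGroup.eq_bot_or_eq_top_of_normal (Subgroup.center G) inferInstance with e | e
      · exact hz1 (by rwa [e, Subgroup.mem_bot] at hz)
      · exact hG ⟨⟨fun a b => (Subgroup.mem_center_iff.1 (e ▸ Subgroup.mem_top b) a)⟩⟩
    have hPK : (P : Subgroup G) ≤ K := le_trans Subgroup.le_normalizer hNK
    have hKN : K = N := by
      obtain ⟨t, ht⟩ := hN ▸ Subgroup.card_dvd_of_le hNK
      let PK : Sylow 5 K := P.subtype hPK
      have hNN : Subgroup.normalizer ((PK : Subgroup K) : Set K) = N.subgroupOf K := by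
        rw [Sylow.coe_subtype, Subgroup.subgroupOf_normalizer_eq hPK]
      have h1 := PK.card_eq_index_normalizer
      rw [← Sylow.coe_coe, hNN] at h1
      have h2 := (N.subgroupOf K).index_mul_card
      rw [← h1, Nat.card_congr (Subgroup.subgroupOfEquivOfLe hNK).toEquiv, hN, ht] at h2
      have hmod := sylow_count_mod (G := K) 5
      have hi : K.index * t = 36 := by
        have h3 := K.index_mul_card
        rw [hcard, ht] at h3
        linarith
      have hdvd : t ∈ (36 : ℕ).divisors := Nat.mem_divisors.2 ⟨Dvd.intro_left _ hi, by norm_num⟩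
      have h2' : Nat.card (Sylow 5 K) = t := by linarith
      rw [h2'] at hmod
      rw [show (36 : ℕ).divisors = {1, 2, 3, 4, 6, 9, 12, 18, 36} by decide +kernel] at hdvd
      simp only [Finset.mem_insert, Finset.mem_singleton] at hdvd
      rcases hdvd with rfl | rfl | rfl | rfl | rfl | rfl | rfl | rfl | rfl <;> try omega
      · exact (Subgroup.eq_of_le_of_card_ge hNK (by rw [ht, hN])).symm
      · exfalso
        have := two_card_dvd_factorial hG K hKt
        rw [hcard, show K.index = 6 by omega] at this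
        norm_num [Nat.factorial] at this
      · exfalso
        exact hKt (Subgroup.index_eq_one.1 (by omega))
    -- fixed points
    have hclass : Nat.card {g : G // IsConj z g} = 36 := by
      have := card_conjClass_mul_card_centralizer z
      rw [← hKdef, hKN, hN, hcard] at this
      omega
    have hfix := fixedBy_mul_class N z
    rw [hclass, hidx, hr] at hfix
    have hfix' : Nat.card (MulAction.fixedBy (G ⧸ N) z) =
        Nat.card {g : G // IsConj z g ∧ g ∈ N} := by linarith
    -- only `z` lies in `C`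
    have honly : ∀ g, IsConj z g → g ∈ C → g = z := by
      intro g hg hgC
      obtain ⟨w, hw⟩ := isConj_iff.1 hg
      have hwN : w ∈ N := by
        rw [hNdef, P.coe_coe, ← Sylow.smul_eq_iff_mem_normalizer]
        apply Sylow.ext
        refine (Subgroup.eq_of_le_of_card_ge (fun a ha => ?_) ?_).symm
        · rw [Sylow.coe_subgroup_smul, Subgroup.mem_pointwise_smul_iff_inv_smul_mem, ← map_inv,
            MulAut.smul_def, MulAut.conj_apply, inv_inv]
          have haK : w⁻¹ * a * w ∈ K := by
            rw [Subgroup.mem_centralizer_singleton_iff]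
            have h1 := Subgroup.mem_centralizer_iff.1 hgC _ ha
            rw [← hw] at h1
            calc w⁻¹ * a * w * z = w⁻¹ * (a * (w * z * w⁻¹)) * w := by group
              _ = w⁻¹ * ((w * z * w⁻¹) * a) * w := by rw [h1]
              _ = z * (w⁻¹ * a * w) := by group
          rw [hKN] at haK
          have h5 : (w⁻¹ * a * w) ^ 5 = 1 := by
            have := conj_pow (a := w⁻¹) (b := a) (i := 5)
            rw [inv_inv] at this
            rw [this, hordP a ha]; group
          rcases (Nat.dvd_prime (by norm_num : Nat.Prime 5)).1 (orderOf_dvd_of_pow_eq_one h5)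
            with e1 | e1
          · rw [orderOf_eq_one_iff.1 e1]; exact (P : Subgroup G).one_mem
          · exact mem_sylow_of_orderOf P haK (k := 1) (by rw [e1, pow_one])
        · rw [sylow_card hc5 (by norm_num) (w • P), hP, pow_one]
      have h1 := hzc w hwN
      rw [← hw, h1, mul_inv_cancel_right]
    set X := {g : G | IsConj z g ∧ g ∈ N ∧ g ∉ C} with hX
    have hsplit : Nat.card {g : G // IsConj z g ∧ g ∈ N} = Nat.card X + 1 := by
      have : {g : G | IsConj z g ∧ g ∈ N} = insert z X := by
        ext g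
        simp only [hX, Set.mem_setOf_eq, Set.mem_insert_iff]
        constructor
        · rintro ⟨h1, h2⟩
          by_cases h3 : g ∈ C
          · exact Or.inl (honly g h1 h3)
          · exact Or.inr ⟨h1, h2, h3⟩
        · rintro (rfl | ⟨h1, h2, -⟩)
          · exact ⟨IsConj.refl _, hCN hzC⟩
          · exact ⟨h1, h2⟩
      have h2 := congrArg (fun S : Set G => S.ncard) this
      rw [Set.ncard_insert_of_notMem (fun h => h.2.2 hzC)] at h2
      exact h2
    -- bound: all elements lie in one coset of `C`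
    have hXle : Nat.card X ≤ 20 := by
      by_cases hX0 : Nonempty X
      · obtain ⟨⟨t, htc, htN, htC⟩⟩ := hX0
        refine le_trans ?_ hCle
        have hsq : ∀ g, IsConj z g → g * g = 1 := by
          intro g hg
          obtain ⟨w, rfl⟩ := isConj_iff.1 hg
          calc w * z * w⁻¹ * (w * z * w⁻¹) = w * (z * z) * w⁻¹ := by group
            _ = 1 := by rw [hzz]; group
        refine Nat.card_le_card_of_injective (fun g => (⟨t * g.1, ?_⟩ : C)) ?_
        · obtain ⟨hg1, hg2, hg3⟩ := g.2
          refine Subgroup.mem_centralizer_iff.2 fun b hb => ?_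
          have i1 := hinvP t htN htC (hsq t htc) b⁻¹ ((P : Subgroup G).inv_mem hb)
          have i2 := hinvP g.1 hg2 hg3 (hsq _ hg1) b hb
          rw [inv_inv] at i1
          calc b * (t * g.1) = t * b⁻¹ * t⁻¹ * (t * g.1) := by rw [i1]
            _ = t * (g.1 * b * g.1⁻¹) * g.1 := by rw [i2]; group
            _ = (t * g.1) * b := by group
        · intro a b hab
          exact Subtype.ext (mul_left_cancel (congrArg Subtype.val hab))
      · rw [not_nonempty_iff] at hX0
        simp
    have h5 : 5 ∣ Nat.card X := by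
      have h1 := card_dvd_of_mul_right (P : Subgroup G) X ?_
      · rwa [hP] at h1
      rintro x ⟨hx1, hx2, hx3⟩ a ha
      refine ⟨hx1.trans (hPinv x hx2 hx3 ?_ a ha), N.mul_mem hx2 (hCN (hPC ha)), fun h =>
        hx3 (by simpa using C.mul_mem h (C.inv_mem (hPC ha)))⟩
      obtain ⟨w, rfl⟩ := isConj_iff.1 hx1
      calc w * z * w⁻¹ * (w * z * w⁻¹) = w * (z * z) * w⁻¹ := by group
        _ = 1 := by rw [hzz]; group
    have h4 := four_dvd_index_sub_fixedBy hG N z hzz
    rw [hidx, hr, hfix', hsplit] at h4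
    refine ⟨?_, honly⟩
    show Nat.card X = 15
    obtain ⟨a, ha⟩ := h5
    obtain ⟨b, hb⟩ := h4
    omega
  -- `C` is abelian
  haveI : Fact (Nat.Prime 2) := ⟨Nat.prime_two⟩
  have hCcomm : ∀ x ∈ C, ∀ y ∈ C, x * y = y * x := by
    set P' := (P : Subgroup G).subgroupOf C with hP'
    have hle : P' ≤ Subgroup.center C := by
      intro a ha
      rw [Subgroup.mem_center_iff]
      intro g
      exact Subtype.ext (Subgroup.mem_centralizer_iff.1 g.2 _ (Subgroup.mem_subgroupOf.1 ha)).symm
    haveI : P'.Normal := ⟨fun a ha g => by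
      have h1 := Subgroup.mem_center_iff.1 (hle ha) g
      rw [h1, mul_inv_cancel_right]; exact ha⟩
    have hQ : Nat.card (C ⧸ P') = k := by
      have h1 := Subgroup.card_eq_card_quotient_mul_card_subgroup P'
      rw [hC5, hP', Nat.card_congr (Subgroup.subgroupOfEquivOfLe hPC).toEquiv, hP] at h1
      rw [hP']; omega
    haveI : IsMulCommutative (C ⧸ P') := by
      rcases hk with rfl | rfl
      · haveI := isCyclic_of_prime_card hQ
        exact IsCyclic.isMulCommutative
      · exact IsPGroup.isMulCommutative_of_card_eq_prime_sq (p := 2) (by rw [hQ]; norm_num)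
    intro x hx y hy
    -- the commutator lies in `P` and is killed by `k`
    have hq := mul_comm' (QuotientGroup.mk' P' (⟨x, hx⟩ : C)) (QuotientGroup.mk' P' (⟨y, hy⟩ : C))
    rw [← map_mul, ← map_mul, QuotientGroup.mk'_eq_mk'] at hq
    obtain ⟨a, ha, hax⟩ := hq
    have hax' : x * y * (a : G) = y * x := congrArg Subtype.val hax
    have haP : (a : G) ∈ (P : Subgroup G) := Subgroup.mem_subgroupOf.1 ha
    have hmp : ∀ {u v : G}, u ∈ C → v ∈ C → (u * v) ^ k = u ^ k * v ^ k := fun hu hv =>
      mul_pow_of_mem_centralizer (by norm_num) (P : Subgroup G) hP hC5 hu hv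
    have hcomm : x ^ k * y ^ k = y ^ k * x ^ k :=
      Subgroup.mem_centralizer_iff.1 (C.pow_mem hy k) _ (hkP x hx)
    have h1 : (x * y) ^ k * (a : G) ^ k = (y * x) ^ k := by
      rw [← hmp (C.mul_mem hx hy) (hPC haP), hax']
    rw [hmp hx hy, hmp hy hx, hcomm, mul_eq_left] at h1
    have h2 : (a : G) = 1 := by
      have := pow_gcd_eq_one.2 ⟨h1, hordP _ haP⟩
      rwa [show Nat.gcd k 5 = 1 by rcases hk with rfl | rfl <;> norm_num, pow_one] at this
    rw [h2, mul_one] at hax'
    exact hax'
  -- a central involution of `N` in `C`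
  obtain ⟨z, hzC, hzz, hz1, hzc⟩ : ∃ z ∈ C, z * z = 1 ∧ z ≠ 1 ∧ ∀ n ∈ N, n * z = z * n := by
    obtain ⟨T⟩ : Nonempty (Sylow 2 N) := inferInstance
    set C' := C.subgroupOf N
    haveI : C'.Normal := ⟨fun a ha n => Subgroup.mem_subgroupOf.2 (hconjC n n.2 _ (Subgroup.mem_subgroupOf.1 ha))⟩
    set H := C' ⊓ (T : Subgroup N) with hH
    -- the involutions of `C'` lie in `T`
    have hin : ∀ y : N, y ∈ C' → y * y = 1 → y ≠ 1 → y ∈ H := by
      intro y hy hyy hy1
      refine ⟨hy, ?_⟩
      obtain ⟨T', hT'⟩ := (IsPGroup.of_card (n := 1) (p := 2) (G := Subgroup.zpowers y) (by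
        rw [Nat.card_zpowers, pow_one]
        exact orderOf_eq_prime (by rw [pow_two]; exact hyy) hy1)).exists_le_sylow
      obtain ⟨n, hn⟩ := MulAction.exists_smul_eq N T' T
      have hnN : ∀ x : C, ∀ m : N, (x : G) * x = 1 → True := fun _ _ _ => trivial
      -- `T'` and `T` differ by an element of `P`
      have hc40 : Nat.card N = 2 ^ 3 * 5 := by rw [hN]; norm_num
      have hT5 : (T' : Subgroup N) ⊔ ((P : Subgroup G).subgroupOf N) = ⊤ := by
        apply Subgroup.eq_top_of_card_eq
        refine Nat.dvd_antisymm (Subgroup.card_subgroup_dvd_card _) ?_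
        rw [hc40]
        refine Nat.Coprime.mul_dvd_of_dvd_of_dvd (by norm_num) ?_ ?_
        · have h1 := sylow_card hc40 (by norm_num) T'
          exact h1 ▸ Subgroup.card_dvd_of_le le_sup_left
        · have h1 := Subgroup.card_dvd_of_le
            (le_sup_right : ((P : Subgroup G).subgroupOf N) ≤ (T' : Subgroup N) ⊔ _)
          rwa [Nat.card_congr (Subgroup.subgroupOfEquivOfLe Subgroup.le_normalizer).toEquiv, hP]
            at h1
      haveI : ((P : Subgroup G).subgroupOf N).Normal := Subgroup.normal_in_normalizer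
      obtain ⟨s, hs, a, ha, hsa⟩ := Subgroup.mem_sup_of_normal_right.1
        (show n⁻¹ ∈ (T' : Subgroup N) ⊔ ((P : Subgroup G).subgroupOf N) by
          rw [hT5]; exact Subgroup.mem_top _)
      have hy' : y ∈ (T' : Subgroup N) := hT' (Subgroup.mem_zpowers y)
      have hmem : n * (s * y * s⁻¹) * n⁻¹ ∈ (T : Subgroup N) := by
        rw [← hn, Sylow.coe_subgroup_smul, Subgroup.mem_pointwise_smul_iff_inv_smul_mem, ← map_inv,
          MulAut.smul_def, MulAut.conj_apply, inv_inv]
        have := (T' : Subgroup N).mul_mem ((T' : Subgroup N).mul_mem hs hy')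
          ((T' : Subgroup N).inv_mem hs)
        simpa [mul_assoc] using this
      have hay : a * y = y * a := Subtype.ext (Subgroup.mem_centralizer_iff.1
        (Subgroup.mem_subgroupOf.1 hy) _ (Subgroup.mem_subgroupOf.1 ha))
      have hn' : n = a⁻¹ * s⁻¹ := by
        rw [← inv_inv n, ← hsa, mul_inv_rev]
      have : n * (s * y * s⁻¹) * n⁻¹ = y := by
        rw [hn']
        calc a⁻¹ * s⁻¹ * (s * y * s⁻¹) * (a⁻¹ * s⁻¹)⁻¹ = a⁻¹ * (y * a) := by group
          _ = a⁻¹ * (a * y) := by rw [hay]
          _ = y := by group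
      rwa [this] at hmem
    obtain ⟨y, hy⟩ : ∃ y : C', orderOf y = 2 := by
      refine exists_prime_orderOf_dvd_card' 2 ?_
      rw [Nat.card_congr (Subgroup.subgroupOfEquivOfLe hCN).toEquiv, hC5]
      rcases hk with rfl | rfl <;> norm_num
    have hyH : (y : N) ∈ H := by
      refine hin _ y.2 ?_ ?_
      · rw [← Subgroup.coe_mul, ← pow_two, ← hy, pow_orderOf_eq_one]; rfl
      · intro h
        rw [show y = 1 from Subtype.ext h, orderOf_one] at hy; norm_num at hy
    set HT := H.subgroupOf (T : Subgroup N)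
    haveI : HT.Normal := ⟨fun a ha t => by
      rw [Subgroup.mem_subgroupOf] at ha ⊢
      refine ⟨‹C'.Normal›.conj_mem _ ha.1 t, ?_⟩
      exact (t * a * t⁻¹ : (T : Subgroup N)).2⟩
    -- a nontrivial element of `H` central in `T`
    obtain ⟨w, hw, hwc, hw1⟩ : ∃ w : (T : Subgroup N), w ∈ HT ∧ w ∈ Subgroup.center _ ∧ w ≠ 1 := by
      have hne : HT ≠ ⊥ := by
        intro hb
        have : (⟨(y : N), hyH.2⟩ : (T : Subgroup N)) ∈ HT := Subgroup.mem_subgroupOf.2 hyH
        rw [hb, Subgroup.mem_bot] at this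
        have h2 : (y : N) = 1 := congrArg Subtype.val this
        rw [show y = 1 from Subtype.ext h2, orderOf_one] at hy; norm_num at hy
      obtain ⟨w, hw, hw1⟩ := (Subgroup.ne_bot_iff_exists_ne_one).1
        (haveI := T.isPGroup'.isNilpotent; Cfsg.Agent.Lib.Solvable.inf_center_ne_bot hne) |> fun ⟨⟨w, hw⟩, h1⟩ => (⟨w, hw, fun e =>
          h1 (Subtype.ext e)⟩ : ∃ w, w ∈ HT ⊓ Subgroup.center _ ∧ w ≠ 1)
      exact ⟨w, hw.1, hw.2, hw1⟩
    -- an involution power
    obtain ⟨i, hi⟩ := T.isPGroup' w
    obtain ⟨l, hl, hl1⟩ : ∃ l : ℕ, (w ^ l) * (w ^ l) = 1 ∧ w ^ l ≠ 1 := by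
      obtain ⟨j, hj, hjord⟩ := (Nat.dvd_prime_pow Nat.prime_two).1 (orderOf_dvd_of_pow_eq_one hi)
      rcases Nat.eq_zero_or_pos j with rfl | hj0
      · rw [pow_zero, orderOf_eq_one_iff] at hjord; exact absurd hjord hw1
      refine ⟨2 ^ (j - 1), ?_, fun h => ?_⟩
      · rw [← pow_add, ← two_mul, ← pow_succ', Nat.sub_add_cancel hj0, ← hjord,
          pow_orderOf_eq_one]
      · have := Nat.le_of_dvd (by positivity) (orderOf_dvd_of_pow_eq_one h)
        rw [hjord] at this
        have := Nat.pow_lt_pow_right (by norm_num : 1 < 2) (Nat.sub_lt hj0 one_pos)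
        omega
    set v := w ^ l
    have hv : v ∈ HT := HT.pow_mem hw l
    have hvc : v ∈ Subgroup.center _ := (Subgroup.center _).pow_mem hwc l
    have hvC : ((v : N) : G) ∈ C := Subgroup.mem_subgroupOf.1 (Subgroup.mem_subgroupOf.1 hv).1
    have hl' := congrArg (fun x : (T : Subgroup N) => ((x : N) : G)) hl
    simp only [Subgroup.coe_mul, OneMemClass.coe_one] at hl'
    refine ⟨((v : N) : G), hvC, hl', fun h => hl1 (Subtype.ext (Subtype.ext h)),
      fun n hn => ?_⟩
    -- `N = T P`
    have hc40 : Nat.card N = 2 ^ 3 * 5 := by rw [hN]; norm_num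
    haveI : ((P : Subgroup G).subgroupOf N).Normal := Subgroup.normal_in_normalizer
    have hT5 : (T : Subgroup N) ⊔ ((P : Subgroup G).subgroupOf N) = ⊤ := by
      apply Subgroup.eq_top_of_card_eq
      refine Nat.dvd_antisymm (Subgroup.card_subgroup_dvd_card _) ?_
      rw [hc40]
      refine Nat.Coprime.mul_dvd_of_dvd_of_dvd (by norm_num) ?_ ?_
      · exact sylow_card hc40 (by norm_num) T ▸ Subgroup.card_dvd_of_le le_sup_left
      · have h1 := Subgroup.card_dvd_of_le
          (le_sup_right : ((P : Subgroup G).subgroupOf N) ≤ (T : Subgroup N) ⊔ _)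
        rwa [Nat.card_congr (Subgroup.subgroupOfEquivOfLe Subgroup.le_normalizer).toEquiv, hP]
          at h1
    obtain ⟨t, ht, a, ha, hta⟩ := Subgroup.mem_sup_of_normal_right.1
      (show (⟨n, hn⟩ : N) ∈ (T : Subgroup N) ⊔ _ by rw [hT5]; exact Subgroup.mem_top _)
    have e1 : (t : G) * ((v : N) : G) = ((v : N) : G) * t := congrArg
      (fun x : (T : Subgroup N) => ((x : N) : G)) (Subgroup.mem_center_iff.1 hvc ⟨t, ht⟩)
    have e2 : (a : G) * ((v : N) : G) = ((v : N) : G) * a :=
      Subgroup.mem_centralizer_iff.1 hvC _ (Subgroup.mem_subgroupOf.1 ha)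
    have e3 : n = (t : G) * a := (congrArg Subtype.val hta).symm
    rw [e3, mul_assoc, e2, ← mul_assoc, e1, mul_assoc]
  obtain ⟨hX, honlyz⟩ := hkey z hzC hzz hz1 hzc
  set X := {g : G | IsConj z g ∧ g ∈ N ∧ g ∉ C} with hXdef
  have hX' : Nat.card X = 15 := hX
  obtain ⟨⟨t, htc, htN, htC⟩⟩ : Nonempty X := (Nat.card_pos_iff.1 (by omega)).1
  have hsq : ∀ g, IsConj z g → g * g = 1 := by
    intro g hg
    obtain ⟨w, rfl⟩ := isConj_iff.1 hg
    calc w * z * w⁻¹ * (w * z * w⁻¹) = w * (z * z) * w⁻¹ := by group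
      _ = 1 := by rw [hzz]; group
  have htt := hsq t htc
  have htinv : t⁻¹ = t := inv_eq_of_mul_eq_one_right htt
  -- `t` inverts `C`
  let J : Subgroup G :=
    { carrier := {y | y ∈ C ∧ t * y * t⁻¹ = y⁻¹}
      one_mem' := ⟨C.one_mem, by simp⟩
      mul_mem' := fun {x y} hx hy => ⟨C.mul_mem hx.1 hy.1, by
        calc t * (x * y) * t⁻¹ = (t * x * t⁻¹) * (t * y * t⁻¹) := by group
          _ = x⁻¹ * y⁻¹ := by rw [hx.2, hy.2]
          _ = (x * y)⁻¹ := by
            rw [mul_inv_rev, hCcomm _ (C.inv_mem hx.1) _ (C.inv_mem hy.1)]⟩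
      inv_mem' := fun {x} hx => ⟨C.inv_mem hx.1, by
        calc t * x⁻¹ * t⁻¹ = (t * x * t⁻¹)⁻¹ := by group
          _ = x⁻¹⁻¹ := by rw [hx.2]⟩ }
  have hJC : J ≤ C := fun y hy => hy.1
  have hJ15 : 15 ≤ Nat.card J := by
    rw [← hX']
    refine Nat.card_le_card_of_injective (fun g => (⟨t * g.1, ?_, ?_⟩ : J)) ?_
    · obtain ⟨hg1, hg2, hg3⟩ := g.2
      refine Subgroup.mem_centralizer_iff.2 fun b hb => ?_
      have i1 := hinvP t htN htC htt b⁻¹ ((P : Subgroup G).inv_mem hb)
      have i2 := hinvP g.1 hg2 hg3 (hsq _ hg1) b hb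
      rw [inv_inv] at i1
      calc b * (t * g.1) = t * b⁻¹ * t⁻¹ * (t * g.1) := by rw [i1]
        _ = t * (g.1 * b * g.1⁻¹) * g.1 := by rw [i2]; group
        _ = (t * g.1) * b := by group
    · have hgg := hsq _ g.2.1
      have hginv : g.1⁻¹ = g.1 := inv_eq_of_mul_eq_one_right hgg
      rw [mul_inv_rev, hginv, htinv, ← mul_assoc t t, htt, one_mul]
    · intro a b hab
      exact Subtype.ext (mul_left_cancel (congrArg Subtype.val hab))
  have hJall : J = C := by
    refine Subgroup.eq_of_le_of_card_ge hJC ?_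
    obtain ⟨r, hr'⟩ := Subgroup.card_dvd_of_le hJC
    rcases Nat.lt_or_ge 1 r with h | h
    · nlinarith
    · interval_cases r
      · rw [mul_zero] at hr'; have := Nat.card_pos (α := C); omega
      · omega
  have hC20 : Nat.card C = 20 := by
    have := Subgroup.card_dvd_of_le hJC
    have := Nat.le_of_dvd Nat.card_pos this
    rcases hk with rfl | rfl <;> omega
  have hinvC : ∀ y ∈ C, t * y * t⁻¹ = y⁻¹ := fun y hy => (hJall ▸ hy : y ∈ J).2
  -- every element of `N` outside `C` lies in the coset of `t`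
  have he2 : e = 2 := by
    rcases he with rfl | rfl
    · rfl
    · exfalso; omega
  have hcoset : ∀ n ∈ N, n ∉ C → t * n ∈ C := by
    intro n hn hnC
    have hidx2 : (C.subgroupOf N).index = 2 := by
      have h1 := (C.subgroupOf N).index_mul_card
      rw [hN, Nat.card_congr (Subgroup.subgroupOfEquivOfLe hCN).toEquiv, hC20] at h1
      omega
    have h1 := (Subgroup.mul_mem_iff_of_index_two hidx2 (a := (⟨t, htN⟩ : N))
      (b := ⟨n, hn⟩)).2 (iff_of_false (by simpa [Subgroup.mem_subgroupOf] using htC)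
        (by simpa [Subgroup.mem_subgroupOf] using hnC))
    simpa [Subgroup.mem_subgroupOf] using h1
  -- every involution of `C` is central in `N`
  have hcentral : ∀ y ∈ C, y * y = 1 → ∀ n ∈ N, n * y = y * n := by
    intro y hy hyy n hn
    by_cases hnC : n ∈ C
    · exact hCcomm n hnC y hy
    have h1 := hcoset n hn hnC
    have h2 := hCcomm _ h1 y hy
    have h3 := hinvC y hy
    rw [inv_eq_of_mul_eq_one_right hyy, mul_inv_eq_iff_eq_mul] at h3
    calc n * y = t⁻¹ * ((t * n) * y) := by group
      _ = t⁻¹ * (y * t) * n := by rw [h2]; group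
      _ = t⁻¹ * (t * y) * n := by rw [h3]
      _ = y * n := by group
  by_cases hsec : ∃ u ∈ C, u * u = 1 ∧ u ≠ 1 ∧ u ≠ z
  · -- two classes do not fit
    obtain ⟨u, huC, huu, hu1, huz⟩ := hsec
    obtain ⟨hY, -⟩ := hkey u huC huu hu1 (hcentral u huC huu)
    set Y := {g : G | IsConj u g ∧ g ∈ N ∧ g ∉ C}
    have hY' : Nat.card Y = 15 := hY
    have hdis : Disjoint X Y := by
      rw [Set.disjoint_left]
      rintro g ⟨hg1, -, -⟩ ⟨hg2, -, -⟩
      -- conjugate involutions of `C` are equal
      exact huz (honlyz u (hg1.trans hg2.symm) huC)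
    have hsub : X ∪ Y ⊆ (fun y => t * y) '' (C : Set G) := by
      rintro g hg
      obtain ⟨hgN, hgC⟩ : g ∈ N ∧ g ∉ C := by
        rcases hg with h | h <;> exact ⟨h.2.1, h.2.2⟩
      exact ⟨t * g, hcoset g hgN hgC, by simp only; rw [← mul_assoc, htt, one_mul]⟩
    have h1 := Set.ncard_le_ncard hsub (Set.toFinite _)
    rw [Set.ncard_union_eq hdis (Set.toFinite _) (Set.toFinite _)] at h1
    have h2 := Set.ncard_image_le (f := fun y => t * y) (Set.toFinite (C : Set G))
    rw [← Nat.card_coe_set_eq, ← Nat.card_coe_set_eq] at h1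
    rw [← Nat.card_coe_set_eq (C : Set G)] at h2
    rw [hX', hY'] at h1
    have h3 : Nat.card (C : Set G) = 20 := hC20
    omega
  · -- `z` is a square in `C`, and the class is invariant under it
    push Not at hsec
    obtain ⟨s, hsC, hsz⟩ : ∃ s ∈ C, s * s = z := by
      obtain ⟨R, hR⟩ := Sylow.exists_subgroup_card_pow_prime 2 (G := C) (n := 2)
        (by rw [hC20]; norm_num)
      haveI : Fintype R := Fintype.ofFinite _
      by_contra hno
      push Not at hno
      -- then every element of `R` squares to one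
      have hall : ∀ r : R, ((r : C) : G) = 1 ∨ ((r : C) : G) = z := by
        intro r
        by_cases hr1 : ((r : C) : G) = 1
        · exact Or.inl hr1
        refine Or.inr (hsec _ (r : C).2 ?_ hr1)
        have h4 : ((r : C) : G) ^ 4 = 1 := by
          have h0 : r ^ 4 = 1 := by
            rw [show (4 : ℕ) = Nat.card R by rw [hR]; norm_num]; exact pow_card_eq_one'
          have := congrArg (fun x : R => ((x : C) : G)) h0
          simpa only [SubmonoidClass.coe_pow, OneMemClass.coe_one] using this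
        by_contra hne
        have hsq2 : ((r : C) : G) * (r : C) * (((r : C) : G) * (r : C)) = 1 := by
          rw [← h4]; simp only [pow_succ, pow_zero, one_mul, mul_assoc]
        exact hno _ (r : C).2 (hsec _ (C.mul_mem (r : C).2 (r : C).2) hsq2 hne)
      have h1 : Nat.card R ≤ 2 := by
        have hinj : Function.Injective (fun r : R => decide (((r : C) : G) = 1)) := by
          intro a b hab
          have hz1' := hz1
          rcases hall a with e1 | e1 <;> rcases hall b with e2 | e2 <;>
            simp [e1, e2, hz1'] at hab <;>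
            exact Subtype.ext (Subtype.ext (e1.trans e2.symm))
        simpa using Nat.card_le_card_of_injective _ hinj
      rw [hR] at h1; norm_num at h1
    set M := Subgroup.zpowers z ⊔ (P : Subgroup G) with hM
    have hMC : M ≤ C := sup_le (Subgroup.zpowers_le.2 hzC) hPC
    have hMcard : 10 ∣ Nat.card M := by
      have h1 := Subgroup.card_dvd_of_le (le_sup_left : Subgroup.zpowers z ≤ M)
      have h2 := Subgroup.card_dvd_of_le (le_sup_right : (P : Subgroup G) ≤ M)
      rw [Nat.card_zpowers, orderOf_eq_prime (p := 2) (by rw [pow_two]; exact hzz) hz1] at h1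
      rw [hP] at h2
      exact Nat.Coprime.mul_dvd_of_dvd_of_dvd (by norm_num : Nat.Coprime 2 5) h1 h2
    have hMX : ∀ x ∈ X, ∀ m ∈ M, x * m ∈ X := by
      have hset : ∀ m ∈ M, m ∈ C ∧ ∀ x ∈ X, x * m ∈ X := by
        let J' : Subgroup G :=
          { carrier := {m | m ∈ C ∧ (∀ x ∈ X, x * m ∈ X) ∧ ∀ x ∈ X, x * m⁻¹ ∈ X}
            one_mem' := ⟨C.one_mem, fun x hx => by simpa using hx, fun x hx => by simpa using hx⟩
            mul_mem' := fun {a b} ha hb => ⟨C.mul_mem ha.1 hb.1,
              fun x hx => by rw [← mul_assoc]; exact hb.2.1 _ (ha.2.1 x hx),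
              fun x hx => by rw [mul_inv_rev, ← mul_assoc]; exact ha.2.2 _ (hb.2.2 x hx)⟩
            inv_mem' := fun {a} ha => ⟨C.inv_mem ha.1, ha.2.2, by rw [inv_inv]; exact ha.2.1⟩ }
        have hPX : ∀ x ∈ X, ∀ a ∈ (P : Subgroup G), x * a ∈ X := by
          rintro x ⟨hx1, hx2, hx3⟩ a ha
          exact ⟨hx1.trans (hPinv x hx2 hx3 (hsq x hx1) a ha), N.mul_mem hx2 (hCN (hPC ha)),
            fun h => hx3 (by simpa using C.mul_mem h (C.inv_mem (hPC ha)))⟩
        have hzX : ∀ x ∈ X, x * z ∈ X := by
          rintro x ⟨hx1, hx2, hx3⟩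
          refine ⟨hx1.trans (isConj_iff.2 ⟨s, ?_⟩), N.mul_mem hx2 (hCN hzC),
            fun h => hx3 (by simpa using C.mul_mem h (C.inv_mem hzC))⟩
          -- `x` inverts `s`
          have h1 := hcoset x hx2 hx3
          have h2 := hinvC s hsC
          have h3 := hCcomm _ h1 s hsC
          have h4 : x * s * x⁻¹ = s⁻¹ := by
            calc x * s * x⁻¹ = t⁻¹ * ((t * x) * s) * x⁻¹ := by group
              _ = t⁻¹ * (s * (t * x)) * x⁻¹ := by rw [h3]
              _ = t⁻¹ * s * t := by group
              _ = t * s * t⁻¹ := by rw [htinv]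
              _ = s⁻¹ := h2
          calc s * x * s⁻¹ = s * (x * s⁻¹ * x⁻¹) * x := by group
            _ = s * (x * s * x⁻¹)⁻¹ * x := by group
            _ = z * x := by rw [h4, inv_inv, hsz]
            _ = x * z := (hzc x hx2).symm
        have hle : M ≤ J' := by
          refine sup_le (Subgroup.zpowers_le.2 ⟨hzC, hzX, ?_⟩)
            fun a ha => ⟨hPC ha, fun x hx => hPX x hx a ha,
              fun x hx => hPX x hx _ ((P : Subgroup G).inv_mem ha)⟩
          rw [inv_eq_of_mul_eq_one_right hzz]; exact hzX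
        exact fun m hm => ⟨(hle hm).1, (hle hm).2.1⟩
      exact fun x hx m hm => (hset m hm).2 x hx
    have h1 := hMcard.trans (card_dvd_of_mul_right M X hMX)
    rw [hX'] at h1
    norm_num at h1

end Cfsg.Agent.Lib.SylowCounting.Order1440
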