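import Cfsg.Agent.Lib.SylowCounting.IndexNormalizer
import Cfsg.Agent.Lib.SylowCounting.DegreeKill
import Mathlib.Tactic

/-!
# Groups of order 4032
-/

namespace Cfsg.Agent.Lib.SylowCounting.Order4032

open Cfsg.Agent.Lib.SylowCounting

set_option linter.unusedSectionVars false

variable {G : Type*} [Group G] [Finite G] [IsSimpleGroup G]

set_option synthInstance.maxSize 4096 in
set_option synthInstance.maxHeartbeats 400000 in
/-- Four vectors of the plane over three elements, one on each line, do not sum to zero. -/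
theorem plane_four : ∀ a b c d : ZMod 3 × ZMod 3, a ≠ 0 → b ≠ 0 → c ≠ 0 → d ≠ 0 →
    a ≠ b → a ≠ c → a ≠ d → b ≠ c → b ≠ d → c ≠ d →
    a ≠ -b → a ≠ -c → a ≠ -d → b ≠ -c → b ≠ -d → c ≠ -d → a + b + c + d ≠ 0 := by
  decide +kernel

/-- A set of four elements of a group of order nine containing no inverse pair and consisting of
elements of order three has nontrivial product. -/
theorem prod_ne_one {S : Type*} [CommGroup S] (hS : Nat.card S = 9) (O : Finset S)
    (hO : O.card = 4) (hord : ∀ x ∈ O, orderOf x = 3) (hdis : ∀ x ∈ O, x⁻¹ ∉ O) :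
    ∏ x ∈ O, x ≠ 1 := by
  classical
  haveI : Finite S := Nat.finite_of_card_ne_zero (by rw [hS]; norm_num)
  obtain ⟨a, b, c, d, hab, hac, had, hbc, hbd, hcd, rfl⟩ := Finset.card_eq_four.1 hO
  have h3a : orderOf a = 3 := hord a (by simp)
  have h3b : orderOf b = 3 := hord b (by simp)
  have hpa : a ^ 3 = 1 := h3a ▸ pow_orderOf_eq_one a
  have hpb : b ^ 3 = 1 := h3b ▸ pow_orderOf_eq_one b
  let f : ZMod 3 × ZMod 3 → S := fun u => a ^ u.1.val * b ^ u.2.val
  have hmod : ∀ (x : S), x ^ 3 = 1 → ∀ i j : ZMod 3, x ^ (i + j).val = x ^ i.val * x ^ j.val := by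
    intro x hx i j
    rw [← pow_add, ZMod.val_add, ← pow_eq_pow_mod _ hx]
  have hadd : ∀ u v, f (u + v) = f u * f v := fun u v => by
    simp only [f, Prod.fst_add, Prod.snd_add, hmod a hpa, hmod b hpb]
    exact mul_mul_mul_comm _ _ _ _
  have hf0 : f 0 = 1 := by simp [f]
  have hneg : ∀ u, f (-u) = (f u)⁻¹ := fun u => eq_inv_of_mul_eq_one_left (by
    rw [← hadd, neg_add_cancel, hf0])
  have ha1 : a ≠ 1 := fun h => by rw [h, orderOf_one] at h3a; norm_num at h3a
  have hbz : b ∉ Subgroup.zpowers a := by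
    intro hb
    obtain ⟨i, hi⟩ := Subgroup.mem_zpowers_iff.1 hb
    rw [← zpow_mod_orderOf, h3a] at hi
    obtain h | h | h : i % 3 = 0 ∨ i % 3 = 1 ∨ i % 3 = 2 := by omega
    · rw [Nat.cast_ofNat, h, zpow_zero] at hi
      rw [← hi, orderOf_one] at h3b; norm_num at h3b
    · rw [Nat.cast_ofNat, h, zpow_one] at hi
      exact hab hi
    · rw [Nat.cast_ofNat, h, zpow_two] at hi
      refine hdis a (by simp) ?_
      rw [show a⁻¹ = b from by
        rw [← hi]; apply inv_eq_of_mul_eq_one_right; rw [← pow_three]; exact hpa]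
      simp
  have hinj : Function.Injective f := by
    have hker : ∀ u, f u = 1 → u = 0 := by
      rintro ⟨i, j⟩ hu
      simp only [f] at hu
      have hj : j = 0 := by
        by_contra hj
        apply hbz
        have h1 : b ^ j.val ∈ Subgroup.zpowers a := by
          rw [← inv_eq_of_mul_eq_one_right hu]
          exact (Subgroup.zpowers a).inv_mem ((Subgroup.zpowers a).pow_mem
            (Subgroup.mem_zpowers a) _)
        have hj1 : j.val = 1 ∨ j.val = 2 := by
          have := ZMod.val_lt j
          have : j.val ≠ 0 := fun h => hj ((ZMod.val_eq_zero j).1 h)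
          omega
        rcases hj1 with h | h <;> rw [h] at h1
        · rwa [pow_one] at h1
        · have := (Subgroup.zpowers a).inv_mem h1
          rwa [show (b ^ 2)⁻¹ = b from inv_eq_of_mul_eq_one_right (by rw [← pow_succ]; exact hpb)]
            at this
      subst hj
      rw [ZMod.val_zero, pow_zero, mul_one, ← orderOf_dvd_iff_pow_eq_one, h3a] at hu
      have hi := ZMod.val_lt i
      have : i.val = 0 := by omega
      rw [(ZMod.val_eq_zero i).1 this]; rfl
    intro u v huv
    refine sub_eq_zero.1 (hker _ ?_)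
    rw [sub_eq_add_neg, hadd, hneg, huv, mul_inv_cancel]
  have hsurj : Function.Surjective f :=
    ((Nat.bijective_iff_injective_and_card f).2 ⟨hinj, by rw [hS]; simp⟩).2
  have ha : f (1, 0) = a := by simp [f, show (1 : ZMod 3).val = 1 from rfl]
  have hb : f (0, 1) = b := by simp [f, show (1 : ZMod 3).val = 1 from rfl]
  obtain ⟨u, rfl⟩ := hsurj c
  obtain ⟨v, rfl⟩ := hsurj d
  rw [Finset.prod_insert (by simp [hab, hac, had]), Finset.prod_insert (by simp [hbc, hbd]),
    Finset.prod_insert (by simp [hcd]), Finset.prod_singleton, ← ha, ← hb, ← hadd, ← hadd,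
    ← hadd, ← hf0]
  rw [← ha, ← hb] at hab
  rw [← ha] at hac had
  rw [← hb] at hbc hbd
  intro hsum
  have hsum' := hinj hsum
  have hne0 : ∀ w, f w ∈ ({a, b, f u, f v} : Finset S) → w ≠ 0 := fun w hw h0 => by
    have := hord _ hw
    rw [h0, hf0, orderOf_one] at this; norm_num at this
  have hnn : ∀ w w', f w ∈ ({a, b, f u, f v} : Finset S) → f w' ∈ ({a, b, f u, f v} : Finset S) →
      w ≠ -w' := fun w w' hw hw' h0 => hdis _ hw' (by rw [← hneg, ← h0]; exact hw)
  refine plane_four (1, 0) (0, 1) u v (by decide) (by decide) (hne0 u (by simp))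
    (hne0 v (by simp)) (fun h => hab (congrArg f h)) (fun h => hac (congrArg f h))
    (fun h => had (congrArg f h)) (fun h => hbc (congrArg f h)) (fun h => hbd (congrArg f h))
    (fun h => hcd (congrArg f h))
    (hnn _ _ (by simp [ha]) (by simp [hb])) (hnn _ _ (by simp [ha]) (by simp))
    (hnn _ _ (by simp [ha]) (by simp)) (hnn _ _ (by simp [hb]) (by simp))
    (hnn _ _ (by simp [hb]) (by simp)) (hnn _ _ (by simp) (by simp)) ?_
  rw [← hsum']; abel

/-- No simple group has order 4032. -/
theorem card_ne : Nat.card G ≠ 4032 := by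
  classical
  intro hcard
  haveI : Fact (Nat.Prime 7) := ⟨by norm_num⟩
  haveI : Fact (Nat.Prime 3) := ⟨by norm_num⟩
  have hG : ¬ IsMulCommutative G := not_comm_of_not_prime (by rw [hcard]; norm_num)
  have hc7 : Nat.card G = 7 ^ 1 * 576 := by rw [hcard]; norm_num
  have hc3 : Nat.card G = 3 ^ 2 * 448 := by rw [hcard]; norm_num
  -- the Sylow number for seven
  have hr := sylow_count_mem_of_excluded 4032 7 576 100 (by norm_num) (by norm_num) (by norm_num)
    (by norm_num) (by norm_num) hcard {64} (by decide +kernel)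
  rw [Finset.mem_singleton] at hr
  let P : Sylow 7 G := default
  have hP : Nat.card (P : Subgroup G) = 7 := by rw [sylow_card hc7 (by norm_num) P, pow_one]
  set N := Subgroup.normalizer ((P : Subgroup G) : Set G) with hNdef
  have hN : Nat.card N = 63 := by
    have h1 := N.index_mul_card
    have h2 : N.index = 64 := by rw [← hr, Sylow.card_eq_index_normalizer P]; rfl
    rw [h2, hcard] at h1
    omega
  obtain ⟨e, c, hec, he1, hed, h7c, hcC⟩ := normalizer_card_eq hG P hP
  set C := Subgroup.centralizer ((P : Subgroup G) : Set G) with hCdef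
  have hc21 : c = 21 := by
    obtain ⟨k, rfl⟩ := h7c
    rw [← hNdef, hN] at hec
    have h9 : e * k = 9 := by linarith
    have hed9 : e ∣ Nat.gcd 9 6 := Nat.dvd_gcd ⟨k, h9.symm⟩ hed
    have he3 : e = 3 := ((Nat.dvd_prime (by norm_num : Nat.Prime 3)).1 hed9).resolve_left (by omega)
    subst he3
    omega
  rw [hc21] at hcC
  have hCN : C ≤ N := Subgroup.centralizer_le_normalizer _
  -- an element of order three centralizing `P`
  obtain ⟨h₀, hh₀⟩ := exists_prime_orderOf_dvd_card' (G := C) 3 (by rw [← hcC]; norm_num)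
  set h : G := (h₀ : G) with hh
  have hord : orderOf h = 3 := by rw [hh, Subgroup.orderOf_coe]; exact hh₀
  have hhC : h ∈ C := h₀.2
  have h1ne : h ≠ 1 := fun e => by rw [e, orderOf_one] at hord; norm_num at hord
  have hsyl : Nat.card C = 3 ^ 1 * 7 := by rw [← hcC]; norm_num
  have huniq : Nat.card (Sylow 3 C) = 1 ∨ Nat.card (Sylow 3 C) = 7 := by
    have := sylow_count_mem (G := C) hsyl (by norm_num)
    rw [show ((7 : ℕ).divisors.filter fun d => d % 3 = 1) = {1, 7} by decide +kernel] at this
    simpa using this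
  have hn1 : Nat.card (Sylow 3 C) = 1 := by
    refine huniq.resolve_right fun h7 => ?_
    -- `P` is central in `C`, so a Sylow three-subgroup is normal
    obtain ⟨T⟩ : Nonempty (Sylow 3 C) := inferInstance
    have hTn : ((T : Subgroup C)).Normal := by
      refine ⟨fun x hx g => ?_⟩
      have hTc : Nat.card (T : Subgroup C) = 3 := by rw [sylow_card hsyl (by norm_num) T, pow_one]
      have hle : Subgroup.normalizer ((T : Subgroup C) : Set C) = ⊤ := by
        have hPC : (P : Subgroup G) ≤ C := fun a ha => by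
          haveI : IsCyclic (P : Subgroup G) := isCyclic_of_prime_card hP
          exact Subgroup.mem_centralizer_iff.2 fun b hb => congrArg Subtype.val
            ((IsCyclic.commGroup (α := (P : Subgroup G))).mul_comm ⟨b, hb⟩ ⟨a, ha⟩)
        have hPn : ((P : Subgroup G).subgroupOf C) ≤
            Subgroup.normalizer ((T : Subgroup C) : Set C) := by
          intro y hy
          refine Subgroup.centralizer_le_normalizer _ ?_
          refine Subgroup.mem_centralizer_iff.2 fun z _ => Subtype.ext ?_
          exact (Subgroup.mem_centralizer_iff.1 z.2 _ (Subgroup.mem_subgroupOf.1 hy)).symm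
        apply Subgroup.eq_top_of_card_eq
        refine Nat.dvd_antisymm (Subgroup.card_subgroup_dvd_card _) ?_
        rw [hsyl]
        refine Nat.Coprime.mul_dvd_of_dvd_of_dvd (by norm_num) ?_ ?_
        · have h2 := Subgroup.card_dvd_of_le
            (Subgroup.le_normalizer (H := (T : Subgroup C)))
          rw [hTc] at h2; rwa [pow_one]
        · have h1 := Subgroup.card_dvd_of_le hPn
          rwa [Nat.card_congr (Subgroup.subgroupOfEquivOfLe hPC).toEquiv, hP] at h1
      have hg : g ∈ Subgroup.normalizer ((T : Subgroup C) : Set C) := hle ▸ Subgroup.mem_top g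
      exact (Subgroup.mem_normalizer_iff.1 hg x).1 hx
    have h1 : Nat.card (Sylow 3 C) = 1 := by
      haveI := Sylow.unique_of_normal T hTn
      exact Nat.card_unique
    omega
  -- `N` centralizes `h`
  have hcent : N ≤ Subgroup.centralizer ({h} : Set G) := by
    intro x hx
    rw [Subgroup.mem_centralizer_singleton_iff]
    have hHuniq : ∀ y ∈ C, orderOf y = 3 → y ∈ Subgroup.zpowers h := by
      intro y hy hy3
      haveI : Subsingleton (Sylow 3 C) := (Nat.card_eq_one_iff_unique.1 hn1).1
      have hp1 : ∀ z : C, orderOf z = 3 → IsPGroup 3 (Subgroup.zpowers z) := fun z hz =>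
        IsPGroup.of_card (n := 1) (by rw [Nat.card_zpowers, hz, pow_one])
      obtain ⟨T₁, hT₁⟩ := (hp1 h₀ hh₀).exists_le_sylow
      obtain ⟨T₂, hT₂⟩ := (hp1 ⟨y, hy⟩ (by rw [← Subgroup.orderOf_coe]; exact hy3)).exists_le_sylow
      have e1 : Subgroup.zpowers h₀ = (T₁ : Subgroup C) := Subgroup.eq_of_le_of_card_ge hT₁ (by
        rw [sylow_card hsyl (by norm_num) T₁, Nat.card_zpowers, hh₀, pow_one])
      rw [Subsingleton.elim T₂ T₁, ← e1] at hT₂
      obtain ⟨i, hi⟩ := Subgroup.mem_zpowers_iff.1 (hT₂ (Subgroup.mem_zpowers _))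
      exact Subgroup.mem_zpowers_iff.2 ⟨i, by simpa [hh] using congrArg Subtype.val hi⟩
    have hconjC : x * h * x⁻¹ ∈ C := by
      refine Subgroup.mem_centralizer_iff.2 fun b hb => ?_
      have hb' : x⁻¹ * b * x ∈ (P : Subgroup G) := by
        simpa using (Subgroup.mem_normalizer_iff.1 (N.inv_mem hx) b).1 hb
      have := Subgroup.mem_centralizer_iff.1 hhC _ hb'
      calc b * (x * h * x⁻¹) = x * ((x⁻¹ * b * x) * h) * x⁻¹ := by group
        _ = x * (h * (x⁻¹ * b * x)) * x⁻¹ := by rw [this]
        _ = (x * h * x⁻¹) * b := by group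
    obtain ⟨i, hi⟩ := Subgroup.mem_zpowers_iff.1 (hHuniq _ hconjC (by
      rw [← hord]; exact (MulAut.conj x).orderOf_eq h))
    rw [← zpow_mod_orderOf, hord] at hi
    obtain h' | h' | h' : i % 3 = 0 ∨ i % 3 = 1 ∨ i % 3 = 2 := by omega
    · rw [Nat.cast_ofNat, h', zpow_zero] at hi
      exact absurd (conj_eq_one_iff.1 hi.symm) h1ne
    · rw [Nat.cast_ofNat, h', zpow_one] at hi
      calc x * h = (x * h * x⁻¹) * x := by group
        _ = h * x := by rw [← hi]
    · rw [Nat.cast_ofNat, h', zpow_two] at hi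
      exfalso
      -- `x ^ 63 = 1` forces `h = h ^ (2 ^ 63)`
      have key : ∀ k : ℕ, x ^ k * h * (x ^ k)⁻¹ = h ^ (2 ^ k) := by
        intro k
        induction k with
        | zero => simp
        | succ k ih =>
          rw [pow_succ' x k, mul_inv_rev, show x * x ^ k * h * ((x ^ k)⁻¹ * x⁻¹) =
              x * (x ^ k * h * (x ^ k)⁻¹) * x⁻¹ by group, ih, ← conj_pow, ← hi, ← pow_two,
            ← pow_mul, pow_succ' 2 k]
      have h63 : x ^ 63 = 1 := by
        have := orderOf_dvd_natCard (⟨x, hx⟩ : N)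
        rw [hN, Subgroup.orderOf_mk] at this
        exact orderOf_dvd_iff_pow_eq_one.1 this
      have h2 := key 63
      rw [h63, one_mul, inv_one, mul_one, pow_eq_pow_mod (2 ^ 63) (hord ▸ pow_orderOf_eq_one h),
        show 2 ^ 63 % 3 = 2 by norm_num, pow_two] at h2
      exact h1ne (left_eq_mul.1 h2)
  set K := Subgroup.centralizer ({h} : Set G) with hKdef
  have hKt : K ≠ ⊤ := by
    intro hK
    have hz : h ∈ Subgroup.center G := Subgroup.mem_center_iff.2 fun g =>
      Subgroup.mem_centralizer_singleton_iff.1 (show g ∈ K by rw [hK]; exact Subgroup.mem_top g)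
    rcases IsSimpleGroup.eq_bot_or_eq_top_of_normal (Subgroup.center G) inferInstance with e | e
    · exact h1ne (by rwa [e, Subgroup.mem_bot] at hz)
    · exact hG ⟨⟨fun a b => (Subgroup.mem_center_iff.1 (e ▸ Subgroup.mem_top b) a)⟩⟩
  have hK : Nat.card K = 63 := by
    have hPN : (P : Subgroup G) ≤ N := Subgroup.le_normalizer
    have hdvd : 63 ∣ Nat.card K := hN ▸ Subgroup.card_dvd_of_le hcent
    obtain ⟨t, ht⟩ := hdvd
    have hi : K.index * t = 64 := by
      have h1 := K.index_mul_card
      rw [hcard, ht] at h1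
      nlinarith
    have htd : t ∈ (64 : ℕ).divisors := Nat.mem_divisors.2 ⟨Dvd.intro_left _ hi, by norm_num⟩
    rw [show (64 : ℕ).divisors = {1, 2, 4, 8, 16, 32, 64} by decide +kernel] at htd
    -- the Sylow seven-subgroups of `K`
    have hPK : (P : Subgroup G) ≤ K := hPN.trans hcent
    have hKc : Nat.card K = 7 ^ 1 * (9 * t) := by rw [ht]; ring
    have hn7 : Nat.card (Sylow 7 K) = t := by
      let PK : Sylow 7 K := P.subtype hPK
      have hNK : Subgroup.normalizer ((PK : Subgroup K) : Set K) = N.subgroupOf K := by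
        rw [Sylow.coe_subtype, Subgroup.subgroupOf_normalizer_eq hPK]
      have h1 := PK.card_eq_index_normalizer
      rw [← Sylow.coe_coe, hNK] at h1
      have h2 := (N.subgroupOf K).index_mul_card
      rw [← h1, Nat.card_congr (Subgroup.subgroupOfEquivOfLe hcent).toEquiv, hN, ht] at h2
      nlinarith
    have hmod := sylow_count_mod (G := K) 7
    rw [hn7] at hmod
    simp only [Finset.mem_insert, Finset.mem_singleton] at htd
    rcases htd with rfl | rfl | rfl | rfl | rfl | rfl | rfl <;> try omega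
    · exfalso
      have := two_card_normalizer_dvd_index hG (by norm_num) P hP K hKt (by omega) (by omega)
      rw [show K.index = 8 by omega, ← hNdef, hN] at this
      norm_num at this
    · exfalso
      have : K.index = 1 := by omega
      exact hKt (Subgroup.index_eq_one.1 this)
  have hKN : K = N := (Subgroup.eq_of_le_of_card_ge hcent (by rw [hK, hN])).symm
  -- a Sylow three-subgroup containing `h`
  obtain ⟨T', hT'⟩ := (IsPGroup.of_card (n := 1) (p := 3)
    (G := (Subgroup.zpowers h).subgroupOf N) (by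
      rw [Nat.card_congr (Subgroup.subgroupOfEquivOfLe
        (Subgroup.zpowers_le.2 (hCN hhC))).toEquiv, Nat.card_zpowers, hord, pow_one])
    ).exists_le_sylow
  have hT'c : Nat.card (T' : Subgroup N) = 9 := by
    rw [sylow_card (p := 3) (k := 2) (m := 7) (by rw [hN]; norm_num) (by norm_num) T']; norm_num
  set S₀ : Subgroup G := (T' : Subgroup N).map N.subtype with hS₀
  have hS₀c : Nat.card S₀ = 9 := by
    rw [hS₀, Subgroup.card_map_of_injective N.subtype_injective, hT'c]
  let S : Sylow 3 G := Sylow.ofCard S₀ (by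
    rw [hS₀c, hcard]
    rw [show (4032 : ℕ) = 3 ^ 2 * 448 by norm_num, Nat.factorization_mul (by norm_num) (by norm_num),
      Finsupp.add_apply, Nat.Prime.factorization_pow (by norm_num), Finsupp.single_eq_same,
      Nat.factorization_eq_zero_of_not_dvd (by norm_num : ¬ 3 ∣ 448)]
    norm_num)
  have hSS : (S : Subgroup G) = S₀ := rfl
  have hhS : h ∈ S₀ := ⟨⟨h, hCN hhC⟩,
    hT' (Subgroup.mem_subgroupOf.2 (Subgroup.mem_zpowers h)), rfl⟩
  haveI : IsMulCommutative S₀ :=
    IsPGroup.isMulCommutative_of_card_eq_prime_sq (p := 3) (by rw [hS₀c]; norm_num)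
  have hcommS : ∀ a ∈ S₀, ∀ b ∈ S₀, a * b = b * a := fun a ha b hb =>
    congrArg Subtype.val (mul_comm' (⟨a, ha⟩ : S₀) ⟨b, hb⟩)
  set M := Subgroup.normalizer (S₀ : Set G) with hM
  have hS₀M : S₀ ≤ M := Subgroup.le_normalizer
  -- `S₀` is not normal in `N`, and is its own normalizer there
  have hNM : Nat.card ↥(M ⊓ N) = 9 := by
    have hS₀N : S₀ ≤ M ⊓ N := le_inf hS₀M (Subgroup.map_subtype_le _)
    obtain ⟨t, ht⟩ := hS₀c ▸ Subgroup.card_dvd_of_le hS₀N
    have hd := Subgroup.card_dvd_of_le (inf_le_right : M ⊓ N ≤ N)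
    rw [hN, ht, show (63 : ℕ) = 9 * 7 by norm_num] at hd
    have ht7 := (Nat.dvd_prime (by norm_num : Nat.Prime 7)).1 (Nat.dvd_of_mul_dvd_mul_left (by norm_num) hd)
    rcases ht7 with rfl | rfl
    · omega
    exfalso
    have hall : M ⊓ N = N := Subgroup.eq_of_le_of_card_ge inf_le_right (by rw [ht, hN])
    -- then `S₀` centralizes `P`
    have hSC : S₀ ≤ C := by
      intro a ha
      have haN : a ∈ N := Subgroup.map_subtype_le _ ha
      refine Subgroup.mem_centralizer_iff.2 fun b hb => ?_
      have hbM : b ∈ M := (hall.symm ▸ (Subgroup.le_normalizer hb : b ∈ N) : b ∈ M ⊓ N).1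
      have h1 : b * a * b⁻¹ * a⁻¹ ∈ S₀ :=
        S₀.mul_mem ((Subgroup.mem_normalizer_iff.1 hbM a).1 ha) (S₀.inv_mem ha)
      have h2 : b * a * b⁻¹ * a⁻¹ ∈ (P : Subgroup G) := by
        rw [mul_assoc, mul_assoc]
        exact (P : Subgroup G).mul_mem hb (by
          rw [← mul_assoc]
          exact (Subgroup.mem_normalizer_iff.1 haN b⁻¹).1 ((P : Subgroup G).inv_mem hb))
      have h3 : orderOf (b * a * b⁻¹ * a⁻¹) ∣ Nat.gcd 9 7 := Nat.dvd_gcd
        (hS₀c ▸ Subgroup.orderOf_dvd_natCard S₀ h1) (hP ▸ Subgroup.orderOf_dvd_natCard _ h2)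
      rw [show Nat.gcd 9 7 = 1 by norm_num, Nat.dvd_one, orderOf_eq_one_iff, mul_inv_eq_one,
        mul_inv_eq_iff_eq_mul] at h3
      exact h3
    have := Subgroup.card_dvd_of_le hSC
    rw [hS₀c, ← hcC] at this
    norm_num at this
  -- the orbit of `h` under the normalizer of `S₀`
  set O := MulAction.orbit M (⟨h, hhS⟩ : S₀) with hO
  have hcentM : MulAction.stabilizer M (⟨h, hhS⟩ : S₀) = (M ⊓ N).subgroupOf M := by
    ext g
    rw [MulAction.mem_stabilizer_iff, Subgroup.mem_subgroupOf, Subgroup.mem_inf]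
    constructor
    · intro hg
      refine ⟨g.2, hKN ▸ Subgroup.mem_centralizer_singleton_iff.2 ?_⟩
      have h1 : (g : G) * h * (g : G)⁻¹ = h := congrArg Subtype.val hg
      exact mul_inv_eq_iff_eq_mul.1 h1
    · intro hg
      have h1 := Subgroup.mem_centralizer_singleton_iff.1 (hcent hg.2)
      apply Subtype.ext
      show (g : G) * h * (g : G)⁻¹ = h
      rw [h1, mul_inv_cancel_right]
  have hOcard : Nat.card O * 9 = Nat.card M := by
    rw [← Nat.card_congr (MulAction.orbitEquivQuotientStabilizer M (⟨h, hhS⟩ : S₀)).symm, hcentM,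
      ← Subgroup.index, ← hNM,
      ← Nat.card_congr (Subgroup.subgroupOfEquivOfLe (inf_le_left : M ⊓ N ≤ M)).toEquiv]
    exact Subgroup.index_mul_card _
  -- `h` is not conjugate to its inverse
  have hnoinv : ∀ g : G, g * h * g⁻¹ ≠ h⁻¹ := by
    intro g hg
    have hgN : g ∈ N := by
      have hPu : ∀ Q : Sylow 7 G, (Q : Subgroup G) ≤ N → Q = P := by
        intro Q hQ
        apply Sylow.ext
        refine Subgroup.eq_of_le_of_card_ge (fun z hz => ?_)
          (by rw [sylow_card hc7 (by norm_num) Q, hP, pow_one])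
        obtain ⟨k, hk⟩ := (Q.isPGroup'.to_subgroup ⊤) ⟨⟨z, hz⟩, Subgroup.mem_top _⟩
        have hz7 : orderOf z ∣ 7 := by
          have := (Q : Subgroup G).orderOf_dvd_natCard hz
          rwa [sylow_card hc7 (by norm_num) Q, pow_one] at this
        rcases (Nat.dvd_prime (by norm_num : Nat.Prime 7)).1 hz7 with e1 | e1
        · rw [orderOf_eq_one_iff.1 e1]; exact (P : Subgroup G).one_mem
        · exact mem_sylow_of_orderOf P (hQ hz) (k := 1) (by rw [e1, pow_one])
      have hQ : ((g • P : Sylow 7 G) : Subgroup G) ≤ N := by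
        rw [← hKN]
        intro z hz
        rw [Sylow.coe_subgroup_smul, Subgroup.mem_pointwise_smul_iff_inv_smul_mem, ← map_inv,
          MulAut.smul_def, MulAut.conj_apply, inv_inv] at hz
        have h1 := Subgroup.mem_centralizer_singleton_iff.1
          (hcent ((Subgroup.le_normalizer hz : g⁻¹ * z * g ∈ N)))
        rw [Subgroup.mem_centralizer_singleton_iff]
        have h2 : h = g⁻¹ * h⁻¹ * g := by rw [← hg]; group
        have h3 : z * h⁻¹ = h⁻¹ * z := by
          calc z * h⁻¹ = g * ((g⁻¹ * z * g) * (g⁻¹ * h⁻¹ * g)) * g⁻¹ := by group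
            _ = g * ((g⁻¹ * h⁻¹ * g) * (g⁻¹ * z * g)) * g⁻¹ := by rw [← h2, h1]
            _ = h⁻¹ * z := by group
        calc z * h = h * (h⁻¹ * z) * h := by group
          _ = h * (z * h⁻¹) * h := by rw [h3]
          _ = h * z := by group
      have hsm := hPu _ hQ
      rw [Sylow.smul_eq_iff_mem_normalizer] at hsm
      exact hsm
    rw [Subgroup.mem_centralizer_singleton_iff.1 (hcent hgN), mul_inv_cancel_right] at hg
    have hd : orderOf h ∣ 2 := orderOf_dvd_of_pow_eq_one (by
      rw [pow_two]; nth_rewrite 1 [hg]; exact inv_mul_cancel h)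
    rw [hord] at hd; norm_num at hd
  have hOprop : ∀ o ∈ O, orderOf o = 3 ∧ o⁻¹ ∉ O := by
    rintro o ⟨g, rfl⟩
    refine ⟨?_, ?_⟩
    · rw [← Subgroup.orderOf_coe]
      show orderOf ((g : G) * h * (g : G)⁻¹) = 3
      rw [← hord]; exact (MulAut.conj (g : G)).orderOf_eq h
    · rintro ⟨g', hg'⟩
      have h1 : (g' : G) * h * (g' : G)⁻¹ = ((g : G) * h * (g : G)⁻¹)⁻¹ := congrArg Subtype.val hg'
      apply hnoinv ((g : G)⁻¹ * g')
      calc (g : G)⁻¹ * g' * h * ((g : G)⁻¹ * g')⁻¹ = (g : G)⁻¹ * (g' * h * (g' : G)⁻¹) * g := by group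
        _ = h⁻¹ := by rw [h1]; group
  haveI : Fintype S₀ := Fintype.ofFinite _
  set Of := O.toFinset with hOf
  have hOfc : Of.card = Nat.card O := by
    rw [hOf, Set.toFinset_card, Nat.card_eq_fintype_card]
  have hbound : 2 * Of.card + 1 ≤ 9 := by
    have hd : Disjoint Of (Of.image (·⁻¹)) := by
      rw [Finset.disjoint_left]
      intro x hx hx'
      obtain ⟨y, hy, rfl⟩ := Finset.mem_image.1 hx'
      exact (hOprop y (Set.mem_toFinset.1 hy)).2 (Set.mem_toFinset.1 hx)
    have h1 : (insert (1 : S₀) (Of ∪ Of.image (·⁻¹))).card ≤ Fintype.card S₀ :=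
      Finset.card_le_univ _
    rw [Finset.card_insert_of_notMem, Finset.card_union_of_disjoint hd,
      Finset.card_image_of_injective _ inv_injective, ← Nat.card_eq_fintype_card, hS₀c] at h1
    · omega
    · intro h'
      rcases Finset.mem_union.1 h' with h' | h'
      · have := (hOprop 1 (Set.mem_toFinset.1 h')).1
        rw [orderOf_one] at this; norm_num at this
      · obtain ⟨y, hy, hy1⟩ := Finset.mem_image.1 h'
        rw [inv_eq_one] at hy1; subst hy1
        have := (hOprop 1 (Set.mem_toFinset.1 hy)).1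
        rw [orderOf_one] at this; norm_num at this
  -- the orbit has four elements
  have hn3 := sylow_count_candidates (G := G) hc3 (by norm_num) (by norm_num) (by norm_num)
  have hMidx : M.index = Nat.card (Sylow 3 G) := by
    rw [S.card_eq_index_normalizer]; rfl
  have hMcard := M.index_mul_card
  rw [← hOcard, hcard, hMidx, ← hOfc] at hMcard
  have hO4 : Of.card = 4 ∨ Of.card = 1 := by
    rw [show candidates 3 448 = {4, 7, 16, 28, 64, 112, 448} by decide +kernel] at hn3
    simp only [Finset.mem_insert, Finset.mem_singleton] at hn3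
    rcases hn3 with e | e | e | e | e | e | e <;> rw [e] at hMcard <;> omega
  rcases hO4 with hO4 | hO1
  swap
  · -- transfer
    apply not_normalizer_le_centralizer hG S (by rw [hcard]; norm_num)
    intro x hx
    have hMS : M = S₀ := by
      refine (Subgroup.eq_of_le_of_card_ge hS₀M ?_).symm
      rw [← hOcard, hS₀c, ← hOfc, hO1]
    rw [show Subgroup.normalizer ((S : Subgroup G) : Set G) = M from rfl, hMS] at hx
    exact Subgroup.mem_centralizer_iff.2 fun y hy => hcommS y hy x hx
  letI : CommGroup S₀ := { (inferInstance : Group S₀) with mul_comm := mul_comm' }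
  -- the product of the orbit is fixed
  have hprod := prod_ne_one hS₀c Of hO4 (fun x hx => (hOprop x (Set.mem_toFinset.1 hx)).1)
    (fun x hx hx' => (hOprop x (Set.mem_toFinset.1 hx)).2 (Set.mem_toFinset.1 hx'))
  have hfix : ∀ g : M, g • (∏ x ∈ Of, x) = ∏ x ∈ Of, x := by
    intro g
    rw [Finset.smul_prod']
    refine Finset.prod_equiv (MulAction.toPerm g) (fun x => ?_) (fun x _ => rfl)
    simp only [hOf, Set.mem_toFinset, MulAction.toPerm_apply]
    exact ⟨fun hx => MulAction.mem_orbit_of_mem_orbit g hx, fun hx => by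
      simpa using MulAction.mem_orbit_of_mem_orbit g⁻¹ hx⟩
  have hfull : ∀ x : S₀, x ≠ 1 → x ∈ Of ∪ Of.image (·⁻¹) := by
    intro x hx
    by_contra hx'
    have hd : Disjoint Of (Of.image (·⁻¹)) := by
      rw [Finset.disjoint_left]
      intro x hx hx'
      obtain ⟨y, hy, rfl⟩ := Finset.mem_image.1 hx'
      exact (hOprop y (Set.mem_toFinset.1 hy)).2 (Set.mem_toFinset.1 hx)
    have h1 : (insert (1 : S₀) (insert x (Of ∪ Of.image (·⁻¹)))).card ≤ Fintype.card S₀ :=
      Finset.card_le_univ _
    rw [Finset.card_insert_of_notMem, Finset.card_insert_of_notMem hx',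
      Finset.card_union_of_disjoint hd, Finset.card_image_of_injective _ inv_injective,
      ← Nat.card_eq_fintype_card, hS₀c, hO4] at h1
    · omega
    · intro h'
      rcases Finset.mem_insert.1 h' with h' | h'
      · exact hx h'.symm
      rcases Finset.mem_union.1 h' with h' | h'
      · have := (hOprop 1 (Set.mem_toFinset.1 h')).1
        rw [orderOf_one] at this; norm_num at this
      · obtain ⟨y, hy, hy1⟩ := Finset.mem_image.1 h'
        rw [inv_eq_one] at hy1; subst hy1
        have := (hOprop 1 (Set.mem_toFinset.1 hy)).1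
        rw [orderOf_one] at this; norm_num at this
  set z := ∏ x ∈ Of, x
  have horb : MulAction.orbit M z = {z} := by
    ext y
    simp [MulAction.mem_orbit_iff, hfix, eq_comm]
  have hsmall : ∀ y ∈ Of, MulAction.orbit M y ≠ {y} := by
    intro y hy he
    have h1 : MulAction.orbit M y = O := MulAction.orbit_eq_iff.2 (Set.mem_toFinset.1 hy)
    have h2 : Of.card = 1 := by rw [hOfc, ← h1, he]; simp
    omega
  rcases Finset.mem_union.1 (hfull z hprod) with hz | hz
  · exact hsmall z hz horb
  · obtain ⟨y, hy, hyz⟩ := Finset.mem_image.1 hz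
    apply hsmall y hy
    ext w
    simp only [MulAction.mem_orbit_iff, Set.mem_singleton_iff]
    have hy' : y = z⁻¹ := by rw [← hyz, inv_inv]
    constructor
    · rintro ⟨g, rfl⟩
      rw [hy', smul_inv', hfix]
    · rintro rfl
      exact ⟨1, one_smul _ _⟩

end Cfsg.Agent.Lib.SylowCounting.Order4032
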