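import Cfsg.Agent.Lib.SylowCounting.SignTrick
import Cfsg.Agent.Lib.SylowCounting.Counting
import Cfsg.Agent.Lib.SylowCounting.Tools
import Mathlib.GroupTheory.Perm.Basic
import Mathlib.Tactic

/-!
# Sixteen points and twenty lines

A group of degree sixteen in which every point has its own semiregular subgroup of order three,
normal in the point stabiliser, preserves an affine plane of order four, so it permutes five
parallel classes.
-/

namespace Cfsg.Agent.Lib.SylowCounting.Sixteen

open Cfsg.Agent.Lib.SylowCounting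

set_option linter.unusedSectionVars false

universe u v

/-- A `p`-subgroup without fixed points on an invariant set has `p` dividing its size. -/
theorem card_modEq_fixed {G : Type u} [Group G] {Ω : Type v} [MulAction G Ω] [Finite Ω] {p : ℕ}
    [Fact p.Prime] (Q : Subgroup G) (hQ : IsPGroup p Q) (S : Set Ω)
    (hS : ∀ g ∈ Q, ∀ x ∈ S, g • x ∈ S) :
    Nat.card S ≡ Nat.card {x : S // ∀ g ∈ Q, g • (x : Ω) = x} [MOD p] := by
  letI : MulAction Q S :=
    { smul := fun g x => ⟨(g : G) • x.1, hS g g.2 x.1 x.2⟩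
      one_smul := fun x => Subtype.ext (one_smul G x.1)
      mul_smul := fun a b x => Subtype.ext (mul_smul (a : G) (b : G) x.1) }
  have h := hQ.card_modEq_card_fixedPoints S
  have e : Nat.card (MulAction.fixedPoints Q S) = Nat.card {x : S // ∀ g ∈ Q, g • (x : Ω) = x} :=
    Nat.card_congr (Equiv.subtypeEquivRight fun x =>
      ⟨fun h g hg => congrArg Subtype.val (h ⟨g, hg⟩), fun h g => Subtype.ext (h g g.2)⟩)
  rwa [e] at h

section Plane

variable {G : Type u} [Group G] [Finite G] {Ω : Type v} [MulAction G Ω] [Fintype Ω]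

set_option maxHeartbeats 1000000 in
-- one long proof
/-- No simple group of order above `120` has such an action. -/
theorem no_plane [IsSimpleGroup G] (hbig : 120 < Nat.card G) (hΩ : Fintype.card Ω = 16)
    (hfaith : ∀ g : G, (∀ x : Ω, g • x = x) → g = 1)
    (K : Ω → Subgroup G) (hK3 : ∀ x, Nat.card (K x) = 3)
    (hKfix : ∀ x, ∀ k ∈ K x, k • x = x)
    (hKonly : ∀ x y, ∀ k ∈ K x, k ≠ 1 → k • y = y → y = x)
    (hKnorm : ∀ (g : G) x, g • x = x → ∀ k ∈ K x, g * k * g⁻¹ ∈ K x)
    (htrans : ∀ x y z : Ω, y ≠ x → z ≠ x → ∃ g : G, g • x = x ∧ g • y = z)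
    (hexists : ∀ x y : Ω, y ≠ x → ∃ w : G, orderOf w = 3 ∧ w • x = x ∧ w • y = y)
    (hfive : ∀ (w : G) (x y : Ω), y ≠ x → orderOf w = 3 → w • x = x → w • y = y →
      ¬ 5 ∣ Nat.card (Subgroup.centralizer ({w} : Set G)))
    (hsixteen : ∀ m ∈ ({7, 13} : Finset ℕ), ¬ m ∣ Nat.card G) : False := by
  classical
  haveI : Fact (Nat.Prime 3) := ⟨by norm_num⟩
  have hKp : ∀ x, IsPGroup 3 (K x) := fun x => IsPGroup.of_card (n := 1) (by rw [hK3, pow_one])
  letI : ∀ x, Fintype (K x) := fun x => Fintype.ofFinite _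
  have hKne : ∀ x, ∃ k ∈ K x, k ≠ 1 := fun x => by
    by_contra hall
    push Not at hall
    have h1 := hK3 x
    rw [(Subgroup.eq_bot_iff_forall _).2 hall, Subgroup.card_bot] at h1
    norm_num at h1
  -- elements of order three fixing a point centralise its subgroup
  have hcomm : ∀ (w : G) x, orderOf w = 3 → w • x = x → ∀ k ∈ K x, k * w = w * k := by
    intro w x hw hx k hk
    by_cases hk1 : k = 1
    · simp [hk1]
    have hk3 : orderOf k = 3 := orderOf_of_mem (hK3 x) hk hk1
    have hmem : ∀ j : G, j ∈ K x → j = 1 ∨ j = k ∨ j = k⁻¹ := by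
      intro j hj
      obtain ⟨i, hi, -⟩ : ∃ i : ℕ, k ^ i = j ∧ True := by
        obtain ⟨i, hi⟩ := mem_powers_iff_mem_zpowers.2
          (mem_zpowers_of_prime_card (g := (⟨k, hk⟩ : K x)) (g' := ⟨j, hj⟩) (hK3 x)
            (fun h => hk1 (congrArg Subtype.val h)))
        exact ⟨i, by simpa using congrArg Subtype.val hi, trivial⟩
      rw [← hi, ← pow_mod_orderOf, hk3]
      have : i % 3 < 3 := Nat.mod_lt _ (by norm_num)
      interval_cases i % 3
      · exact Or.inl (pow_zero k)
      · exact Or.inr (Or.inl (pow_one k))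
      · refine Or.inr (Or.inr ?_)
        rw [eq_inv_iff_mul_eq_one, ← pow_succ]
        have h0 := pow_orderOf_eq_one k
        rwa [hk3] at h0
    rcases hmem _ (hKnorm w x hx k hk) with h | h | h
    · exact absurd (conj_eq_one_iff.1 h) hk1
    · exact (mul_inv_eq_iff_eq_mul.1 h).symm
    · exfalso
      have h3 : w ^ 3 * k * (w ^ 3)⁻¹ = k⁻¹ := by
        calc w ^ 3 * k * (w ^ 3)⁻¹ = w * (w * (w * k * w⁻¹) * w⁻¹) * w⁻¹ := by rw [pow_three]; group
          _ = w * (w * k⁻¹ * w⁻¹) * w⁻¹ := by rw [h]
          _ = w * (w * k * w⁻¹)⁻¹ * w⁻¹ := by group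
          _ = k⁻¹ := by rw [h, inv_inv, h]
      rw [← hw, pow_orderOf_eq_one, one_mul, inv_one, mul_one, eq_inv_iff_mul_eq_one, ← pow_two]
        at h3
      have := orderOf_dvd_of_pow_eq_one h3
      rw [hk3] at this
      norm_num at this
  let F : G → Finset Ω := fun w => Finset.univ.filter fun z => w • z = z
  have hmemF : ∀ w z, z ∈ F w ↔ w • z = z := fun w z => by simp [F]
  let L : Ω → Ω → Finset Ω := fun x y =>
    Finset.univ.filter fun z => z = x ∨ ∃ k ∈ K x, k • y = z
  have hxL : ∀ x y, x ∈ L x y := fun x y => by simp [L]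
  have hyL : ∀ x y, y ∈ L x y := fun x y => by
    simp only [L, Finset.mem_filter, Finset.mem_univ, true_and]
    exact Or.inr ⟨1, (K x).one_mem, one_smul G y⟩
  have hLcard : ∀ x y, y ≠ x → (L x y).card = 4 := by
    intro x y hxy
    have h1 : L x y = insert x (Finset.univ.image fun k : K x => (k : G) • y) := by
      ext z; simp [L]
    rw [h1, Finset.card_insert_of_notMem, Finset.card_image_of_injective, Finset.card_univ,
      ← Nat.card_eq_fintype_card, hK3]
    · intro a b hab
      by_contra hne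
      refine hxy (hKonly x y _ ((K x).mul_mem ((K x).inv_mem b.2) a.2) ?_ ?_)
      · intro h
        exact hne (Subtype.ext (inv_mul_eq_one.1 h).symm)
      · simp only at hab
        rw [mul_smul, hab, inv_smul_smul]
    · simp only [Finset.mem_image, Finset.mem_univ, true_and, not_exists]
      intro k hk
      apply hxy
      have := congrArg ((k : G)⁻¹ • ·) hk
      simp only [inv_smul_smul] at this
      rw [this]
      exact hKfix x _ ((K x).inv_mem k.2)
  -- the fixed points of an element of order three fixing two points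
  have hline : ∀ (w : G) x y, y ≠ x → orderOf w = 3 → w • x = x → w • y = y → F w = L x y := by
    intro w x y hxy hw hwx hwy
    set Cw := Subgroup.centralizer ({w} : Set G) with hCw
    have hKC : ∀ z, w • z = z → K z ≤ Cw := fun z hz k hk =>
      Subgroup.mem_centralizer_singleton_iff.2 (hcomm w z hw hz k hk)
    have hCF : ∀ g ∈ Cw, ∀ z : Ω, w • z = z → w • (g • z) = g • z := fun g hg z hz => by
      rw [smul_smul, ← Subgroup.mem_centralizer_singleton_iff.1 hg, ← smul_smul, hz]
    have hsub : L x y ⊆ F w := by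
      intro z hz
      simp only [L, Finset.mem_filter, Finset.mem_univ, true_and] at hz
      rcases hz with rfl | ⟨k, hk, rfl⟩
      · exact (hmemF _ _).2 hwx
      · exact (hmemF _ _).2 (hCF k (hKC x hwx hk) y hwy)
    refine (Finset.eq_of_subset_of_card_le hsub ?_).symm
    rw [hLcard x y hxy]
    -- the orbit of the centraliser
    set O := MulAction.orbit Cw x with hO
    have hOF : ∀ z ∈ O, w • z = z := by
      rintro z ⟨g, rfl⟩
      exact hCF g g.2 x hwx
    have hOinv : ∀ g ∈ Cw, ∀ z ∈ O, g • z ∈ O := by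
      rintro g hg z ⟨c, rfl⟩
      exact ⟨⟨g, hg⟩ * c, mul_smul g (c : G) x⟩
    have hmod : Nat.card O % 3 = 1 := by
      have h1 := card_modEq_fixed (K x) (hKp x) O fun k hk z hz => hOinv k (hKC x hwx hk) z hz
      have h2 : Nat.card {z : O // ∀ k ∈ K x, k • (z : Ω) = z} = 1 := by
        refine Nat.card_eq_one_iff_unique.2 ⟨⟨fun a b => Subtype.ext (Subtype.ext ?_)⟩,
          ⟨⟨⟨x, MulAction.mem_orbit_self x⟩, hKfix x⟩⟩⟩
        obtain ⟨k, hk, hk1⟩ := hKne x
        rw [hKonly x a.1.1 k hk hk1 (a.2 k hk), hKonly x b.1.1 k hk hk1 (b.2 k hk)]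
      rw [h2] at h1
      exact h1
    have hall : ∀ z, w • z = z → z ∈ O := by
      intro z hz
      by_contra hzO
      have h1 := card_modEq_fixed (K z) (hKp z) O fun k hk t ht => hOinv k (hKC z hz hk) t ht
      have h2 : Nat.card {t : O // ∀ k ∈ K z, k • (t : Ω) = t} = 0 := by
        rw [Nat.card_eq_zero]
        refine Or.inl ⟨fun a => hzO ?_⟩
        obtain ⟨k, hk, hk1⟩ := hKne z
        exact hKonly z a.1.1 k hk hk1 (a.2 k hk) ▸ a.1.2
      rw [h2] at h1
      have : Nat.card O % 3 = 0 := h1
      omega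
    have hcard : (F w).card = Nat.card O := by
      rw [← Nat.card_eq_finsetCard]
      exact Nat.card_congr (Equiv.subtypeEquivRight fun z =>
        ⟨fun h => hall z ((hmemF _ _).1 h), fun h => (hmemF _ _).2 (hOF z h)⟩)
    have hdvd : Nat.card O ∣ Nat.card Cw := by
      rw [hO, Nat.card_congr (MulAction.orbitEquivQuotientStabilizer Cw x)]
      exact Subgroup.card_quotient_dvd_card _
    have h5 : ¬ 5 ∣ (F w).card := fun h =>
      hfive w x y hxy hw hwx hwy ((hcard ▸ h).trans hdvd)
    have hG : (F w).card ∣ Nat.card G := hcard ▸ hdvd.trans (Subgroup.card_subgroup_dvd_card _)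
    have hlt : (F w).card < 16 := by
      rw [← hΩ, ← Finset.card_univ]
      refine Finset.card_lt_card (Finset.ssubset_univ_iff.2 fun h => ?_)
      have h1 : w = 1 := hfaith w fun z => (hmemF _ _).1 (h ▸ Finset.mem_univ z)
      rw [h1, orderOf_one] at hw
      norm_num at hw
    have h4 := Finset.card_le_card hsub
    rw [hLcard x y hxy] at h4
    have h7 := hsixteen 7 (by simp)
    have h13 := hsixteen 13 (by simp)
    rw [← hcard] at hmod
    generalize (F w).card = f at h5 hG hlt h4 hmod ⊢
    interval_cases f <;> first | omega | exact absurd hG h7 | exact absurd hG h13 |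
      exact absurd ⟨_, rfl⟩ h5 | exact absurd (by norm_num) h5
  -- two points determine a line
  have hdet : ∀ x y a b, y ≠ x → b ≠ a → a ∈ L x y → b ∈ L x y → L a b = L x y := by
    intro x y a b hxy hab ha hb
    obtain ⟨w, hw, hwx, hwy⟩ := hexists x y hxy
    rw [← hline w x y hxy hw hwx hwy] at ha hb ⊢
    exact (hline w a b hab hw ((hmemF _ _).1 ha) ((hmemF _ _).1 hb)).symm
  have hmap : ∀ (g : G) x y, y ≠ x → (L x y).image (fun z => g • z) = L (g • x) (g • y) := by
    intro g x y hxy
    obtain ⟨w, hw, hwx, hwy⟩ := hexists x y hxy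
    have hc : ∀ z : Ω, (g * w * g⁻¹) • (g • z) = g • z ↔ w • z = z := fun z => by
      rw [smul_smul, inv_mul_cancel_right, mul_smul, smul_left_cancel_iff]
    rw [← hline w x y hxy hw hwx hwy, ← hline (g * w * g⁻¹) (g • x) (g • y)
      (fun h => hxy (MulAction.injective g h)) (by
        rw [← hw, ← MulAut.conj_apply]; exact orderOf_injective (MulAut.conj g).toMonoidHom (MulAut.conj g).injective w)
      ((hc x).2 hwx) ((hc y).2 hwy)]
    ext z
    simp only [Finset.mem_image, hmemF]
    constructor
    · rintro ⟨t, ht, rfl⟩; exact (hc t).2 ht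
    · intro hz
      refine ⟨g⁻¹ • z, (hc _).1 ?_, smul_inv_smul g z⟩
      rwa [smul_inv_smul]
  -- lines
  let IsL : Finset Ω → Prop := fun l => ∃ x y, y ≠ x ∧ l = L x y
  have hmeet : ∀ l m, IsL l → IsL m → ∀ a b, b ≠ a → a ∈ l → b ∈ l → a ∈ m → b ∈ m → l = m := by
    rintro l m ⟨x, y, hxy, rfl⟩ ⟨x', y', hxy', rfl⟩ a b hab ha hb ha' hb'
    rw [← hdet x y a b hxy hab ha hb, hdet x' y' a b hxy' hab ha' hb']
  have hcard4 : ∀ l, IsL l → l.card = 4 := by
    rintro l ⟨x, y, hxy, rfl⟩; exact hLcard x y hxy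
  -- the parallel through a point
  have hunique : ∀ l m₁ m₂ a, IsL l → IsL m₁ → IsL m₂ → a ∉ l → a ∈ m₁ → a ∈ m₂ →
      Disjoint l m₁ → Disjoint l m₂ → m₁ = m₂ := by
    intro l m₁ m₂ a hl h1 h2 hal ha1 ha2 hd1 hd2
    by_contra hne
    let T : Finset (Finset Ω) := insert m₁ (insert m₂ (l.image fun z => L a z))
    have hTline : ∀ m ∈ T, IsL m ∧ a ∈ m := by
      intro m hm
      simp only [T, Finset.mem_insert, Finset.mem_image] at hm
      rcases hm with rfl | rfl | ⟨z, hz, rfl⟩
      · exact ⟨h1, ha1⟩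
      · exact ⟨h2, ha2⟩
      · exact ⟨⟨a, z, fun h => hal (h ▸ hz), rfl⟩, hxL a z⟩
    have hT6 : T.card = 6 := by
      have hinj : Set.InjOn (fun z => L a z) (l : Set Ω) := by
        intro z hz z' hz' he
        by_contra hzz
        obtain ⟨x, y, hxy, rfl⟩ := hl
        have := hmeet (L x y) (L a z) ⟨x, y, hxy, rfl⟩ ⟨a, z, fun h => hal (h ▸ hz), rfl⟩
          z z' (Ne.symm hzz) hz hz' (hyL a z) ((show L a z = L a z' from he).symm ▸ hyL a z')
        exact hal (this ▸ hxL a z)
      have hnot : ∀ m, Disjoint l m → m ∉ l.image fun z => L a z := by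
        intro m hd hm
        obtain ⟨z, hz, rfl⟩ := Finset.mem_image.1 hm
        exact Finset.disjoint_left.1 hd hz (hyL a z)
      rw [Finset.card_insert_of_notMem (by
          rw [Finset.mem_insert, not_or]; exact ⟨hne, hnot m₁ hd1⟩),
        Finset.card_insert_of_notMem (hnot m₂ hd2), Finset.card_image_of_injOn hinj, hcard4 l hl]
    have hdisj : (T : Set (Finset Ω)).PairwiseDisjoint fun m => m.erase a := by
      intro m hm m' hm' hmm
      rw [Function.onFun, Finset.disjoint_left]
      intro z hz hz'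
      obtain ⟨hza, hzm⟩ := Finset.mem_erase.1 hz
      exact hmm (hmeet m m' (hTline m hm).1 (hTline m' hm').1 a z hza (hTline m hm).2 hzm
        (hTline m' hm').2 (Finset.mem_erase.1 hz').2)
    have h18 := Finset.card_biUnion hdisj
    rw [Finset.sum_congr rfl (fun m hm => by
      rw [Finset.card_erase_of_mem (hTline m hm).2, hcard4 m (hTline m hm).1] :
        ∀ m ∈ T, (m.erase a).card = 3), Finset.sum_const, hT6, smul_eq_mul] at h18
    have h16 := Finset.card_le_univ (T.biUnion fun m => m.erase a)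
    rw [hΩ] at h16
    omega
  have hexpar : ∀ l a, IsL l → a ∉ l → ∃ m, IsL m ∧ a ∈ m ∧ Disjoint l m := by
    intro l a hl hal
    obtain ⟨y, hy⟩ : ∃ y, y ∉ l.biUnion fun z => L a z := by
      by_contra hall
      push Not at hall
      have h1 : Finset.univ ⊆ insert a (l.biUnion fun z => (L a z).erase a) := by
        intro t _
        rcases eq_or_ne t a with rfl | hta
        · exact Finset.mem_insert_self _ _
        obtain ⟨z, hz, htz⟩ := Finset.mem_biUnion.1 (hall t)
        exact Finset.mem_insert_of_mem (Finset.mem_biUnion.2 ⟨z, hz, Finset.mem_erase.2 ⟨hta, htz⟩⟩)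
      have h2 := (Finset.card_le_card h1).trans (Finset.card_insert_le _ _)
      have h3 := Finset.card_biUnion_le (s := l) (t := fun z => (L a z).erase a)
      rw [Finset.sum_congr rfl (fun z hz => by
        rw [Finset.card_erase_of_mem (hxL a z), hLcard a z (fun h => hal (h ▸ hz))] :
          ∀ z ∈ l, ((L a z).erase a).card = 3), Finset.sum_const, hcard4 l hl, smul_eq_mul] at h3
      rw [Finset.card_univ, hΩ] at h2
      omega
    have hya : y ≠ a := by
      rintro rfl
      obtain ⟨z, hz⟩ := Finset.card_pos.1 (by rw [hcard4 l hl]; norm_num : 0 < l.card)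
      exact hy (Finset.mem_biUnion.2 ⟨z, hz, hxL y z⟩)
    refine ⟨L a y, ⟨a, y, hya, rfl⟩, hxL a y, Finset.disjoint_left.2 fun z hzl hzm => ?_⟩
    refine hy (Finset.mem_biUnion.2 ⟨z, hzl, ?_⟩)
    have hza : z ≠ a := fun h => hal (h ▸ hzl)
    rw [hdet a y a z hya hza (hxL a y) hzm]
    exact hyL a y
  let Line := {l : Finset Ω // IsL l}
  let par : Setoid Line :=
    { r := fun l m => l.1 = m.1 ∨ Disjoint l.1 m.1
      iseqv := by
        refine ⟨fun l => Or.inl rfl, fun h => h.elim (fun e => Or.inl e.symm) (fun e => Or.inr e.symm),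
          fun {l m n} h1 h2 => ?_⟩
        rcases h1 with h1 | h1
        · rw [h1]; exact h2
        rcases h2 with h2 | h2
        · rw [← h2]; exact Or.inr h1
        by_cases hd : Disjoint l.1 n.1
        · exact Or.inr hd
        obtain ⟨a, hal, han⟩ := Finset.not_disjoint_iff.1 hd
        exact Or.inl (hunique m.1 l.1 n.1 a m.2 l.2 n.2 (Finset.disjoint_left.1 h1 hal) hal han
          h1.symm h2) }
  have hLimg : ∀ (g : G) (l : Line), IsL (l.1.image fun z => g • z) := by
    rintro g ⟨l, x, y, hxy, rfl⟩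
    exact ⟨g • x, g • y, fun h => hxy (MulAction.injective g h), hmap g x y hxy⟩
  let act : G → Quotient par → Quotient par := fun g =>
    Quotient.map (fun l : Line => (⟨l.1.image fun z => g • z, hLimg g l⟩ : Line)) (by
      intro l m h
      rcases h with h | h
      · exact Or.inl (by simp [h])
      · exact Or.inr ((Finset.disjoint_image (MulAction.injective g)).2 h))
  letI : MulAction G (Quotient par) :=
    { smul := act
      one_smul := fun q => Quotient.inductionOn q fun l => by
        show act 1 _ = _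
        simp only [act, Quotient.map_mk, one_smul, Finset.image_id']
        rfl
      mul_smul := fun g h q => Quotient.inductionOn q fun l => by
        show act (g * h) _ = act g (act h _)
        simp only [act, Quotient.map_mk, Finset.image_image, Function.comp_def, mul_smul] }
  obtain ⟨o⟩ : Nonempty Ω := Fintype.card_pos_iff.1 (by omega)
  let Pencil := {l : Line // o ∈ l.1}
  have hbij : Function.Bijective (fun l : Pencil => (Quotient.mk par l.1)) := by
    constructor
    · intro l m h
      rcases Quotient.exact h with h | h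
      · exact Subtype.ext (Subtype.ext h)
      · exact absurd m.2 (Finset.disjoint_left.1 h l.2)
    · intro q
      induction q using Quotient.inductionOn with
      | h l =>
        by_cases hol : o ∈ l.1
        · exact ⟨⟨l, hol⟩, rfl⟩
        obtain ⟨m, hm, hom, hd⟩ := hexpar l.1 o l.2 hol
        exact ⟨⟨⟨m, hm⟩, hom⟩, Quotient.sound (Or.inr hd.symm)⟩
  -- five classes
  let Φ : {z : Ω // z ≠ o} → Pencil := fun z => ⟨⟨L o z, o, z.1, z.2, rfl⟩, hxL o z⟩
  haveI : Fintype Pencil := Fintype.ofFinite _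
  have hfib : ∀ l : Pencil, (Finset.univ.filter fun z => Φ z = l).card = 3 := by
    intro l
    have hl3 : (l.1.1.erase o).card = 3 := by
      rw [Finset.card_erase_of_mem l.2, hcard4 _ l.1.2]
    rw [← hl3]
    refine Finset.card_bij (fun z _ => z.1) (fun z hz => ?_) (fun z _ t _ h => Subtype.ext h)
      (fun t ht => ?_)
    · simp only [Finset.mem_filter, Finset.mem_univ, true_and] at hz
      rw [← hz]
      exact Finset.mem_erase.2 ⟨z.2, hyL o z⟩
    · obtain ⟨hto, htl⟩ := Finset.mem_erase.1 ht
      refine ⟨⟨t, hto⟩, ?_, rfl⟩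
      simp only [Finset.mem_filter, Finset.mem_univ, true_and]
      exact Subtype.ext (Subtype.ext (hmeet _ _ ⟨o, t, hto, rfl⟩ l.1.2 o t hto (hxL o t) (hyL o t)
        l.2 htl))
  have hfive5 : Fintype.card Pencil = 5 := by
    have h1 := Finset.card_eq_sum_card_fiberwise (f := Φ) (s := Finset.univ) (t := Finset.univ)
      (fun z _ => Finset.mem_univ _)
    rw [Finset.sum_congr rfl (fun l _ => hfib l), Finset.sum_const, smul_eq_mul, Finset.card_univ,
      Finset.card_univ, Fintype.card_subtype_compl, Fintype.card_subtype_eq, hΩ] at h1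
    omega
  have hQ : Nat.card (Quotient par) = 5 := by
    rw [← Nat.card_congr (Equiv.ofBijective _ hbij), Nat.card_eq_fintype_card, hfive5]
  set f := MulAction.toPermHom G (Quotient par) with hf
  rcases IsSimpleGroup.eq_bot_or_eq_top_of_normal _ f.normal_ker with h | h
  · have h1 := Nat.card_le_card_of_injective f ((MonoidHom.ker_eq_bot_iff f).1 h)
    haveI : Finite (Quotient par) := Nat.finite_of_card_ne_zero (by omega)
    rw [Nat.card_perm, hQ] at h1
    norm_num [Nat.factorial] at h1
    omega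
  · -- two lines through `o` are exchanged by the stabiliser
    obtain ⟨l, m, hlm⟩ : ∃ l m : Pencil, l ≠ m := Fintype.exists_pair_of_one_lt_card (by omega)
    obtain ⟨x, hx, hxo⟩ := Finset.exists_mem_ne (by rw [hcard4 _ l.1.2]; norm_num) o (s := l.1.1)
    obtain ⟨y, hy, hyo⟩ := Finset.exists_mem_ne (by rw [hcard4 _ m.1.2]; norm_num) o (s := m.1.1)
    obtain ⟨g, hgo, hgx⟩ := htrans o x y hxo hyo
    have h2 : g • Quotient.mk par l.1 = Quotient.mk par l.1 := by
      have : f g = 1 := (MonoidHom.mem_ker (f := f)).1 (h ▸ Subgroup.mem_top g)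
      exact congrArg (fun e : Equiv.Perm (Quotient par) => e (Quotient.mk par l.1)) this
    rcases Quotient.exact h2 with h3 | h3
    · have h3' : (l.1.1.image fun z => g • z) = l.1.1 := h3
      have hyl : y ∈ l.1.1 := h3' ▸ Finset.mem_image.2 ⟨x, hx, hgx⟩
      exact hlm (Subtype.ext (Subtype.ext
        (hmeet _ _ l.1.2 m.1.2 o y hyo l.2 hyl m.2 hy)))
    · have h3' : Disjoint (l.1.1.image fun z => g • z) l.1.1 := h3
      exact Finset.disjoint_left.1 h3' (Finset.mem_image.2 ⟨o, l.2, hgo⟩) l.2

end Plane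

variable {G : Type u} [Group G] [Finite G]

set_option maxHeartbeats 1000000 in
-- one long proof
/-- No simple group of order `5760` has a Sylow five-normalizer of order `60` with centralizer of
order `15`. -/
theorem not_ninetysix [IsSimpleGroup G] [Fact (Nat.Prime 5)]
    (P : Sylow 5 G) (hP : Nat.card (P : Subgroup G) = 5) (hcard : Nat.card G = 5760)
    (hN : Nat.card (Subgroup.normalizer ((P : Subgroup G) : Set G)) = 60)
    (hC : Nat.card (Subgroup.centralizer ((P : Subgroup G) : Set G)) = 15) : False := by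
  classical
  haveI : Fact (Nat.Prime 3) := ⟨by norm_num⟩
  set N := Subgroup.normalizer ((P : Subgroup G) : Set G) with hNdef
  set C := Subgroup.centralizer ((P : Subgroup G) : Set G) with hCdef
  obtain ⟨r0, hr0⟩ := exists_prime_orderOf_dvd_card' 3 (G := C) (by rw [hC]; norm_num)
  set r : G := (r0 : G) with hr
  have hr3 : orderOf r = 3 := by rw [hr, Subgroup.orderOf_coe, hr0]
  set K := Subgroup.zpowers r with hKdef
  have hK3 : Nat.card K = 3 := by rw [hKdef, Nat.card_zpowers, hr3]
  have hrC : r ∈ C := r0.2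
  -- the elements of order three of `C`
  have hC3 : ∀ y ∈ C, y ^ 3 = 1 → y ∈ K := by
    intro y hy hy3
    have hcC : Nat.card C = 3 ^ 1 * 5 := by rw [hC]; norm_num
    have hn : Nat.card (Sylow 3 C) = 1 := by
      have h1 : Nat.card (Sylow 3 C) ∣ 5 := sylow_count_dvd hcC (by norm_num)
      have h2 := sylow_count_mod (G := C) 3
      rcases (Nat.dvd_prime (by norm_num)).1 h1 with h | h <;> omega
    obtain ⟨hss, -⟩ := Nat.card_eq_one_iff_unique.1 hn
    have hexp : ∀ v : C, v ^ 3 = 1 → ∀ S : Sylow 3 C, v ∈ (S : Subgroup C) := by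
      intro v hv S
      have hvp : IsPGroup 3 (Subgroup.zpowers v) := by
        intro w
        refine ⟨1, Subtype.ext ?_⟩
        obtain ⟨i, hi⟩ := Subgroup.mem_zpowers_iff.1 w.2
        simp only [pow_one, SubmonoidClass.coe_pow, OneMemClass.coe_one]
        rw [← hi, ← zpow_natCast, ← zpow_mul, mul_comm, zpow_mul, zpow_natCast, hv, one_zpow]
      obtain ⟨S', hS'⟩ := hvp.exists_le_sylow
      rw [hss.elim S S']
      exact hS' (Subgroup.mem_zpowers v)
    let S : Sylow 3 C := default
    have hScard : Nat.card (S : Subgroup C) = 3 := by rw [sylow_card hcC (by norm_num) S, pow_one]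
    have hrS := hexp r0 (by rw [← hr0, pow_orderOf_eq_one]) S
    have hyS := hexp ⟨y, hy⟩ (Subtype.ext hy3) S
    obtain ⟨i, hi⟩ := Subgroup.mem_zpowers_iff.1 (mem_zpowers_of_prime_card
      (g := (⟨r0, hrS⟩ : (S : Subgroup C))) (g' := ⟨_, hyS⟩) hScard fun h => by
        have h' : r0 = 1 := congrArg Subtype.val h
        rw [h', orderOf_one] at hr0; norm_num at hr0)
    exact ⟨i, by simpa using congrArg (fun v : (S : Subgroup C) => ((v : C) : G)) hi⟩
  set H := Subgroup.normalizer (K : Set G) with hHdef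
  have hconjC : ∀ n ∈ N, ∀ x ∈ C, n * x * n⁻¹ ∈ C := by
    intro n hn x hx
    refine Subgroup.mem_centralizer_iff.2 fun b hb => ?_
    have hb' : n⁻¹ * b * n ∈ (P : Subgroup G) := by
      simpa using (Subgroup.mem_normalizer_iff.1 (N.inv_mem hn) b).1 hb
    have := Subgroup.mem_centralizer_iff.1 hx _ hb'
    calc b * (n * x * n⁻¹) = n * ((n⁻¹ * b * n) * x) * n⁻¹ := by group
      _ = n * (x * (n⁻¹ * b * n)) * n⁻¹ := by rw [this]
      _ = (n * x * n⁻¹) * b := by group
  have hKC : ∀ y ∈ K, y ∈ C ∧ y ^ 3 = 1 := fun y hy => by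
    obtain ⟨i, rfl⟩ := Subgroup.mem_zpowers_iff.1 hy
    exact ⟨C.zpow_mem hrC i, by
      rw [← zpow_natCast, ← zpow_mul, mul_comm, zpow_mul, zpow_natCast, ← hr3,
        pow_orderOf_eq_one, one_zpow]⟩
  have hNH : N ≤ H := by
    intro n hn
    refine Subgroup.mem_normalizer_iff.2 fun y => ⟨fun hy => ?_, fun hy => ?_⟩
    · exact hC3 _ (hconjC n hn y (hKC y hy).1) (by rw [conj_pow, (hKC y hy).2]; group)
    · have := hC3 _ (hconjC n⁻¹ (N.inv_mem hn) _ (hKC _ hy).1) (by
        rw [conj_pow, (hKC _ hy).2]; group)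
      simpa [mul_assoc] using this
  have hHt : H ≠ ⊤ := by
    intro h
    haveI : K.Normal := Subgroup.normalizer_eq_top_iff.1 h
    rcases IsSimpleGroup.eq_bot_or_eq_top_of_normal K inferInstance with e | e <;>
      rw [e] at hK3 <;> simp [hcard] at hK3
  have hPH : (P : Subgroup G) ≤ H := Subgroup.le_normalizer.trans hNH
  -- the order of `H`
  have h9 : 9 ∣ Nat.card H := by
    have hc : Nat.card G = 3 ^ 2 * 640 := by rw [hcard]; norm_num
    obtain ⟨S, hS⟩ := (IsPGroup.of_card (n := 1) (by rw [hK3, pow_one]) : IsPGroup 3 K).exists_le_sylow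
    have hScard : Nat.card (S : Subgroup G) = 3 ^ 2 := sylow_card hc (by norm_num) S
    haveI : IsMulCommutative (S : Subgroup G) :=
      IsPGroup.isMulCommutative_of_card_eq_prime_sq (p := 3) hScard
    have hle : (S : Subgroup G) ≤ H := by
      intro s hs
      refine Subgroup.centralizer_le_normalizer _ (Subgroup.mem_centralizer_iff.2 fun y hy => ?_)
      exact congrArg Subtype.val (mul_comm' (⟨y, hS hy⟩ : (S : Subgroup G)) ⟨s, hs⟩)
    have := Subgroup.card_dvd_of_le hle
    rwa [hScard] at this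
  let PH : Sylow 5 H := P.subtype hPH
  have hnH : Nat.card (Sylow 5 H) * 60 = Nat.card H := by
    have hNN : Subgroup.normalizer ((PH : Subgroup H) : Set H) = N.subgroupOf H := by
      rw [Sylow.coe_subtype, Subgroup.subgroupOf_normalizer_eq hPH]
    have h1 := PH.card_eq_index_normalizer
    rw [← Sylow.coe_coe, hNN] at h1
    have h2 := (N.subgroupOf H).index_mul_card
    rw [← h1, Nat.card_congr (Subgroup.subgroupOfEquivOfLe hNH).toEquiv, hN] at h2
    exact h2
  have hH : Nat.card H = 360 := by
    set m := Nat.card (Sylow 5 H)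
    have hmod : m % 5 = 1 := sylow_count_mod (G := H) 5
    have hdvd := Subgroup.card_subgroup_dvd_card H
    rw [← hnH, hcard] at hdvd
    have hm : m ∈ (96 : ℕ).divisors := Nat.mem_divisors.2
      ⟨Nat.dvd_of_mul_dvd_mul_right (k := 60) (by norm_num) hdvd, by norm_num⟩
    have h3 : 3 ∣ m := by
      have := h9
      rw [← hnH] at this
      omega
    rw [show (96 : ℕ).divisors = {1, 2, 3, 4, 6, 8, 12, 16, 24, 32, 48, 96} by decide +kernel] at hm
    simp only [Finset.mem_insert, Finset.mem_singleton] at hm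
    rcases hm with e | e | e | e | e | e | e | e | e | e | e | e <;> rw [e] at hmod h3 hnH <;>
      first
        | omega
        | (exfalso; exact hHt (Subgroup.eq_top_of_card_eq _ (by omega)))
  have hidx : H.index = 16 := by
    have := H.index_mul_card
    rw [hH, hcard] at this
    omega
  haveI : Fintype (G ⧸ H) := Fintype.ofFinite _
  have hinj := toPermHom_injective H hHt
  have hfaith : ∀ g : G, (∀ x : G ⧸ H, g • x = x) → g = 1 := fun g hg =>
    hinj (by rw [map_one]; exact Equiv.ext hg)
  have hbase : ∀ h ∈ H, h • ((1 : G) : G ⧸ H) = ((1 : G) : G ⧸ H) := by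
    intro h hh
    rw [MulAction.Quotient.smul_mk, QuotientGroup.eq]
    simp only [smul_eq_mul, mul_one]
    exact H.inv_mem hh
  have hbase' : ∀ h : G, h • ((1 : G) : G ⧸ H) = ((1 : G) : G ⧸ H) → h ∈ H := by
    intro h hh
    rw [MulAction.Quotient.smul_mk, QuotientGroup.eq] at hh
    simpa using hh
  -- `P` fixes one point
  have hPonly : ∀ x : G ⧸ H, (∀ a ∈ (P : Subgroup G), a • x = x) → x = ((1 : G) : G ⧸ H) := by
    intro x
    induction x using QuotientGroup.induction_on with
    | H g =>
      intro hfix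
      have hle : ((g⁻¹ • P : Sylow 5 G) : Subgroup G) ≤ H := by
        intro b hb
        rw [Sylow.coe_subgroup_smul, Subgroup.mem_pointwise_smul_iff_inv_smul_mem, ← map_inv,
          MulAut.smul_def, MulAut.conj_apply, inv_inv] at hb
        have h1 := hfix _ hb
        rw [MulAction.Quotient.smul_mk, QuotientGroup.eq] at h1
        simpa [mul_assoc] using h1
      obtain ⟨h, hh⟩ := MulAction.exists_smul_eq H ((g⁻¹ • P).subtype hle) PH
      have h2 : ((h : G) * g⁻¹) • P = P := by
        simp_rw [PH, Sylow.smul_subtype, Subgroup.smul_def, smul_smul] at hh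
        exact Sylow.subtype_injective hh
      rw [Sylow.smul_eq_iff_mem_normalizer, ← P.coe_coe] at h2
      rw [QuotientGroup.eq, mul_one]
      have h3 := H.mul_mem (H.inv_mem h.2) (hNH h2)
      simpa using h3
  -- the base subgroup fixes one point
  have hFone : ∀ y : G ⧸ H, r • y = y → y = ((1 : G) : G ⧸ H) := by
    set F : Set (G ⧸ H) := {y | r • y = y} with hF
    have hone : ((1 : G) : G ⧸ H) ∈ F :=
      hbase r (hNH (Subgroup.centralizer_le_normalizer _ hrC))
    have h5 : Nat.card F % 5 = 1 := by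
      have h1 := card_modEq_fixed (P : Subgroup G) P.isPGroup' F (fun a ha y hy => by
        show r • a • y = a • y
        rw [smul_smul, ← Subgroup.mem_centralizer_iff.1 hrC a ha, ← smul_smul, hy])
      have h2 : Nat.card {y : F // ∀ a ∈ (P : Subgroup G), a • (y : G ⧸ H) = y} = 1 := by
        refine Nat.card_eq_one_iff_unique.2 ⟨⟨fun a b => Subtype.ext (Subtype.ext ?_)⟩,
          ⟨⟨⟨_, hone⟩, fun a ha => hbase a (hPH ha)⟩⟩⟩
        rw [hPonly _ a.2, hPonly _ b.2]
      rw [h2] at h1
      exact h1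
    have h3 : Nat.card F % 3 = 1 := by
      have h1 := card_modEq_fixed K (IsPGroup.of_card (n := 1) (by rw [hK3, pow_one]))
        (Set.univ : Set (G ⧸ H)) (fun _ _ _ _ => Set.mem_univ _)
      have h2 : Nat.card {y : (Set.univ : Set (G ⧸ H)) // ∀ k ∈ K, k • (y : G ⧸ H) = y} =
          Nat.card F := Nat.card_congr
        { toFun := fun y => ⟨y.1.1, y.2 r (Subgroup.mem_zpowers r)⟩
          invFun := fun y => ⟨⟨y.1, Set.mem_univ _⟩, fun k hk =>
            MulAction.mem_stabilizer_iff.1 (Subgroup.zpowers_le.2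
              (MulAction.mem_stabilizer_iff.2 y.2) hk)⟩
          left_inv := fun y => rfl
          right_inv := fun y => rfl }
      rw [h2, Nat.card_univ, ← Subgroup.index_eq_card, hidx] at h1
      exact h1.symm
    have hle : Nat.card F ≤ 16 := by
      have := Nat.card_le_card_of_injective (Subtype.val : F → G ⧸ H) Subtype.val_injective
      rwa [← Subgroup.index_eq_card, hidx] at this
    have hne : Nat.card F ≠ 16 := by
      intro h16
      have hb := (Nat.bijective_iff_injective_and_card (Subtype.val : F → G ⧸ H)).2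
        ⟨Subtype.val_injective, by rw [h16, ← Subgroup.index_eq_card, hidx]⟩
      have : r = 1 := hfaith r fun x => by
        obtain ⟨y, rfl⟩ := hb.2 x
        exact y.2
      rw [this, orderOf_one] at hr3
      norm_num at hr3
    have hFcard : Nat.card F = 1 := by omega
    obtain ⟨hss, -⟩ := Nat.card_eq_one_iff_unique.1 hFcard
    intro y hy
    exact congrArg Subtype.val (hss.elim (⟨y, hy⟩ : F) ⟨_, hone⟩)
  -- the subgroups of the points
  let Kf : G ⧸ H → Subgroup G := fun x => K.map (MulAut.conj x.out).toMonoidHom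
  have hKf : ∀ (g y : G), y ∈ Kf (g : G ⧸ H) ↔ g⁻¹ * y * g ∈ K := by
    intro g y
    obtain ⟨h, hh⟩ := QuotientGroup.mk_out_eq_mul H g
    have h1 : y ∈ Kf (g : G ⧸ H) ↔ (g * h)⁻¹ * y * (g * h) ∈ K := by
      simp only [Kf, Subgroup.mem_map, MulEquiv.coe_toMonoidHom, MulAut.conj_apply, hh]
      constructor
      · rintro ⟨k, hk, rfl⟩; convert hk using 1; group
      · intro hy; exact ⟨_, hy, by group⟩
    rw [h1, Subgroup.mem_normalizer_iff.1 h.2 ((g * h)⁻¹ * y * (g * h))]
    exact Iff.of_eq (congrArg (· ∈ K) (by group))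
  have hKf3 : ∀ x, Nat.card (Kf x) = 3 := fun x => by
    rw [← hK3]
    exact (Nat.card_congr (K.equivMapOfInjective _ (MulAut.conj x.out).injective).toEquiv).symm
  -- transitivity
  have htrans1 : ∀ y : G ⧸ H, y ≠ ((1 : G) : G ⧸ H) →
      ∀ z : G ⧸ H, z ≠ ((1 : G) : G ⧸ H) → ∃ h ∈ H, h • y = z := by
    intro y hy
    set O := MulAction.orbit H y with hO
    have hO1 : ((1 : G) : G ⧸ H) ∉ O := by
      rintro ⟨h, hh⟩
      apply hy
      calc y = (h : G)⁻¹ • (h : G) • y := (inv_smul_smul _ _).symm
        _ = (h : G)⁻¹ • ((1 : G) : G ⧸ H) := by rw [show (h : G) • y = _ from hh]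
        _ = _ := hbase _ (H.inv_mem h.2)
    have hinv : ∀ g ∈ H, ∀ z ∈ O, g • z ∈ O := by
      rintro g hg z ⟨c, rfl⟩
      exact ⟨⟨g, hg⟩ * c, mul_smul g (c : G) y⟩
    have h5 : Nat.card O % 5 = 0 := by
      have h1 := card_modEq_fixed (P : Subgroup G) P.isPGroup' O fun a ha z hz => hinv a (hPH ha) z hz
      have h2 : Nat.card {z : O // ∀ a ∈ (P : Subgroup G), a • (z : G ⧸ H) = z} = 0 := by
        rw [Nat.card_eq_zero]
        exact Or.inl ⟨fun a => hO1 (hPonly _ a.2 ▸ a.1.2)⟩
      rw [h2] at h1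
      exact h1
    have h3 : Nat.card O % 3 = 0 := by
      have h1 := card_modEq_fixed K (IsPGroup.of_card (n := 1) (by rw [hK3, pow_one])) O
        fun a ha z hz => hinv a (Subgroup.le_normalizer ha) z hz
      have h2 : Nat.card {z : O // ∀ k ∈ K, k • (z : G ⧸ H) = z} = 0 := by
        rw [Nat.card_eq_zero]
        exact Or.inl ⟨fun a => hO1 (hFone _ (a.2 r (Subgroup.mem_zpowers r)) ▸ a.1.2)⟩
      rw [h2] at h1
      exact h1
    have hpos : 0 < Nat.card O := by
      haveI : Nonempty O := ⟨⟨y, MulAction.mem_orbit_self y⟩⟩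
      exact Nat.card_pos
    intro z hz
    by_contra hno
    push Not at hno
    have hzO : z ∉ O := fun ⟨h, hh⟩ => hno h h.2 hh
    have hsub : insert z (insert ((1 : G) : G ⧸ H) O) ⊆ (Set.univ : Set (G ⧸ H)) := Set.subset_univ _
    have h1 := Set.ncard_le_ncard hsub (Set.toFinite _)
    rw [Set.ncard_insert_of_notMem (by
        rw [Set.mem_insert_iff, not_or]; exact ⟨hz, hzO⟩) (Set.toFinite _),
      Set.ncard_insert_of_notMem hO1 (Set.toFinite _), Set.ncard_univ,
      ← Subgroup.index_eq_card, hidx, ← Nat.card_coe_set_eq] at h1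
    omega
  have htrans : ∀ x y z : G ⧸ H, y ≠ x → z ≠ x → ∃ g : G, g • x = x ∧ g • y = z := by
    intro x
    induction x using QuotientGroup.induction_on with
    | H a =>
      intro y z hy hz
      have ha : (a : G ⧸ H) = a • ((1 : G) : G ⧸ H) := by
        rw [MulAction.Quotient.smul_mk, smul_eq_mul, mul_one]
      have hne : ∀ t : G ⧸ H, t ≠ (a : G ⧸ H) → a⁻¹ • t ≠ ((1 : G) : G ⧸ H) := fun t ht h =>
        ht (by rw [ha, ← h, smul_inv_smul])
      obtain ⟨h, hh, hyz⟩ := htrans1 _ (hne y hy) _ (hne z hz)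
      refine ⟨a * h * a⁻¹, ?_, ?_⟩
      · rw [ha, mul_smul, inv_smul_smul, mul_smul, hbase h hh]
      · rw [mul_smul, mul_smul, hyz, smul_inv_smul]
  refine no_plane (G := G) (Ω := G ⧸ H) (by omega) ?_ hfaith Kf hKf3 ?_ ?_ ?_ htrans ?_ ?_ ?_
  · rw [← Nat.card_eq_fintype_card, ← Subgroup.index_eq_card, hidx]
  · intro x k hk
    induction x using QuotientGroup.induction_on with
    | H a =>
      rw [hKf] at hk
      rw [MulAction.Quotient.smul_mk, QuotientGroup.eq]
      have := H.inv_mem (Subgroup.le_normalizer hk : a⁻¹ * k * a ∈ H)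
      simpa [mul_assoc] using this
  · intro x y k hk hk1 hky
    induction x using QuotientGroup.induction_on with
    | H a =>
      rw [hKf] at hk
      have h1 : (a⁻¹ * k * a) • (a⁻¹ • y) = a⁻¹ • y := by
        rw [smul_smul, mul_inv_cancel_right, mul_smul, hky]
      have hne : a⁻¹ * k * a ≠ 1 := fun h => hk1 (by
        have := congrArg (fun t => a * t * a⁻¹) h
        simpa [mul_assoc] using this)
      have hrk : r ∈ Subgroup.zpowers (a⁻¹ * k * a) := by
        obtain ⟨i, hi⟩ := Subgroup.mem_zpowers_iff.1 (mem_zpowers_of_prime_card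
          (g := (⟨_, hk⟩ : K)) (g' := ⟨r, Subgroup.mem_zpowers r⟩) hK3
          (fun h => hne (congrArg Subtype.val h)))
        exact ⟨i, by simpa using congrArg Subtype.val hi⟩
      have h2 := hFone _ (MulAction.mem_stabilizer_iff.1
        (Subgroup.zpowers_le.2 (MulAction.mem_stabilizer_iff.2 h1) hrk))
      rw [← smul_inv_smul a y, h2, MulAction.Quotient.smul_mk, smul_eq_mul, mul_one]
  · intro g x hgx k hk
    induction x using QuotientGroup.induction_on with
    | H a =>
      rw [hKf] at hk ⊢
      rw [MulAction.Quotient.smul_mk, QuotientGroup.eq] at hgx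
      have h1 : a⁻¹ * g * a ∈ H := by simpa [mul_assoc] using H.inv_mem hgx
      have h2 := (Subgroup.mem_normalizer_iff.1 h1 _).1 hk
      simpa [mul_assoc] using h2
  · -- an element of order three in the two point stabiliser
    intro x y hxy
    set S := MulAction.stabilizer G x with hS
    have horb : MulAction.orbit S y = {z | z ≠ x} := by
      ext z
      constructor
      · rintro ⟨⟨g, hg⟩, rfl⟩ h
        exact hxy (MulAction.injective g ((show g • y = x from h).trans hg.symm))
      · intro hz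
        obtain ⟨g, hgx, hgy⟩ := htrans x y z hxy hz
        exact ⟨⟨g, hgx⟩, hgy⟩
    have hScard : Nat.card S = 360 := by
      have h1 := Nat.card_congr (MulAction.orbitEquivQuotientStabilizer G x)
      have h2 : MulAction.orbit G x = Set.univ := MulAction.orbit_eq_univ G x
      rw [h2, Nat.card_univ, ← Subgroup.index_eq_card, hidx, ← Subgroup.index_eq_card] at h1
      have h3 := (MulAction.stabilizer G x).index_mul_card
      rw [← h1, hcard] at h3
      rw [hS]; omega
    have h15 : (MulAction.stabilizer S y).index = 15 := by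
      have h1 := Nat.card_congr (MulAction.orbitEquivQuotientStabilizer S y)
      rw [horb, ← Subgroup.index_eq_card] at h1
      rw [← h1]
      show Nat.card {z : G ⧸ H // z ≠ x} = 15
      rw [Nat.card_eq_fintype_card, Fintype.card_subtype_compl, Fintype.card_subtype_eq,
        ← Nat.card_eq_fintype_card, ← Subgroup.index_eq_card, hidx]
    have h24 := (MulAction.stabilizer S y).index_mul_card
    rw [h15, hScard] at h24
    obtain ⟨w, hw⟩ := exists_prime_orderOf_dvd_card' 3 (G := MulAction.stabilizer S y) (by omega)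
    exact ⟨((w : S) : G), by rw [Subgroup.orderOf_coe, Subgroup.orderOf_coe, hw], (w : S).2, w.2⟩
  · -- its centraliser has no five-element
    intro w x y hxy hw hwx hwy h5
    obtain ⟨a, ha⟩ := exists_prime_orderOf_dvd_card' 5 h5
    have hQ : IsPGroup 5 (Subgroup.zpowers (a : G)) := IsPGroup.of_card (n := 1) (by
      rw [Nat.card_zpowers, Subgroup.orderOf_coe, ha, pow_one])
    obtain ⟨Q, hQle⟩ := hQ.exists_le_sylow
    obtain ⟨g, hg⟩ := MulAction.exists_smul_eq G P Q
    have hQ5 : Nat.card (Q : Subgroup G) = 5 := by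
      rw [sylow_card (k := 1) (m := 1152) (by rw [hcard]; norm_num) (by norm_num) Q, pow_one]
    have hQeq : (Q : Subgroup G) = Subgroup.zpowers (a : G) :=
      (Subgroup.eq_of_le_of_card_ge hQle (by
        rw [hQ5, Nat.card_zpowers, Subgroup.orderOf_coe, ha])).symm
    have hwC : g⁻¹ * w * g ∈ C := by
      refine Subgroup.mem_centralizer_iff.2 fun b hb => ?_
      have hgb : g * b * g⁻¹ ∈ Subgroup.zpowers (a : G) := by
        rw [← hQeq, ← hg, Sylow.coe_subgroup_smul, Subgroup.mem_pointwise_smul_iff_inv_smul_mem,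
          ← map_inv, MulAut.smul_def, MulAut.conj_apply, inv_inv]
        have hb' : g⁻¹ * (g * b * g⁻¹) * g = b := by group
        rw [hb']
        exact hb
      obtain ⟨i, hi⟩ := Subgroup.mem_zpowers_iff.1 hgb
      have hcm : Commute w (g * b * g⁻¹) :=
        hi ▸ Commute.zpow_right
          (show Commute w (a : G) from (Subgroup.mem_centralizer_singleton_iff.1 a.2).symm) i
      calc b * (g⁻¹ * w * g) = g⁻¹ * ((g * b * g⁻¹) * w) * g := by group
        _ = g⁻¹ * (w * (g * b * g⁻¹)) * g := by rw [hcm.eq]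
        _ = g⁻¹ * w * g * b := by group
    have hK' := hC3 _ hwC (by
      rw [show g⁻¹ * w * g = g⁻¹ * w * (g⁻¹)⁻¹ by group, conj_pow, ← hw, pow_orderOf_eq_one]
      group)
    have hne : g⁻¹ * w * g ≠ 1 := fun h => by
      have : w = 1 := by
        have := congrArg (fun t => g * t * g⁻¹) h
        simpa [mul_assoc] using this
      rw [this, orderOf_one] at hw
      norm_num at hw
    have honly : ∀ t : G ⧸ H, w • t = t → t = (g : G ⧸ H) := by
      intro t ht
      have h1 : (g⁻¹ * w * g) • (g⁻¹ • t) = g⁻¹ • t := by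
        rw [smul_smul, mul_inv_cancel_right, mul_smul, ht]
      obtain ⟨i, hi⟩ := Subgroup.mem_zpowers_iff.1 (mem_zpowers_of_prime_card
        (g := (⟨_, hK'⟩ : K)) (g' := ⟨r, Subgroup.mem_zpowers r⟩) hK3
        (fun h => hne (congrArg Subtype.val h)))
      have hi' : (g⁻¹ * w * g) ^ i = r := by simpa using congrArg Subtype.val hi
      have h2 := hFone (g⁻¹ • t) (MulAction.mem_stabilizer_iff.1
        (hi' ▸ Subgroup.zpow_mem _ (MulAction.mem_stabilizer_iff.2 h1) i))
      rw [← smul_inv_smul g t, h2, MulAction.Quotient.smul_mk, smul_eq_mul, mul_one]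
    exact hxy ((honly y hwy).trans (honly x hwx).symm)
  · intro m hm
    simp only [Finset.mem_insert, Finset.mem_singleton] at hm
    rw [hcard]
    rcases hm with rfl | rfl <;> norm_num

end Cfsg.Agent.Lib.SylowCounting.Sixteen
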