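import Cfsg.Agent.Lib.SylowCounting.Order1440
import Cfsg.Agent.Lib.SylowCounting.FiveNormalizer
import Cfsg.Agent.Lib.SylowCounting.FiveSelfCentral
import Cfsg.Agent.Lib.SylowCounting.SixteenPoints
import Mathlib.Tactic

/-!
# Groups of order 4320 and 5760

A five-subgroup of order five has automizer of order two or four. For order two the degree
equation leaves the degrees `(4, 3)` and `(9, 8)` and an odd centralizer; for order four there
are counting arguments.
-/

namespace Cfsg.Agent.Lib.SylowCounting.Order4320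

open Cfsg.Agent.Lib.SylowCounting

set_option linter.unusedSectionVars false

universe u

variable {G : Type u} [Group G] [Finite G]

/-- The automizer data of a Sylow five-subgroup. -/
theorem data [IsSimpleGroup G] (hG : ¬ IsMulCommutative G) [Fact (Nat.Prime 5)] {n m r : ℕ}
    (hcard : Nat.card G = n) (hn : n = 5 ^ 1 * m) (hm : ¬ 5 ∣ m) (P : Sylow 5 G)
    (hr : Nat.card (Sylow 5 G) = r) (hr0 : r ≠ 0) :
    Nat.card (P : Subgroup G) = 5 ∧
    Nat.card (Subgroup.normalizer ((P : Subgroup G) : Set G)) = n / r ∧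
    ∃ e k : ℕ, (e = 2 ∨ e = 4) ∧ e * (5 * k) = n / r ∧
      Nat.card (Subgroup.centralizer ((P : Subgroup G) : Set G)) = 5 * k := by
  have hP : Nat.card (P : Subgroup G) = 5 := by
    rw [sylow_card (hcard.trans hn) hm P, pow_one]
  have hN : Nat.card (Subgroup.normalizer ((P : Subgroup G) : Set G)) = n / r := by
    have h1 := (Subgroup.normalizer ((P : Subgroup G) : Set G)).index_mul_card
    have h2 : (Subgroup.normalizer ((P : Subgroup G) : Set G)).index = r := by
      rw [← hr, Sylow.card_eq_index_normalizer P]; rfl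
    rw [h2, hcard] at h1
    rw [← h1, Nat.mul_div_cancel_left _ (Nat.pos_of_ne_zero hr0)]
  refine ⟨hP, hN, ?_⟩
  obtain ⟨e, c, hec, he1, hed, ⟨k, rfl⟩, hcC⟩ := normalizer_card_eq hG P hP
  refine ⟨e, k, ?_, by rw [← hN, hec], hcC.symm⟩
  have := Nat.le_of_dvd (by norm_num) hed
  interval_cases e <;> omega

/-- With automizer of order two the centralizer is odd and the degrees are `(4, 3)` or `(9, 8)`. -/
theorem inertia_two [IsSimpleGroup G] (hG : ¬ IsMulCommutative G) [Fact (Nat.Prime 5)]
    (P : Sylow 5 G) (hP : Nat.card (P : Subgroup G) = 5) {k : ℕ} (hk : ¬ 5 ∣ k)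
    (hn : Nat.card G = 4320 ∨ Nat.card G = 5760)
    (hC : Nat.card (Subgroup.centralizer ((P : Subgroup G) : Set G)) = 5 * k)
    (hN : Nat.card (Subgroup.normalizer ((P : Subgroup G) : Set G)) = 2 * (5 * k)) :
    ¬ 2 ∣ k ∧ ∃ d f : ℕ, ((d = 4 ∧ f = 3) ∨ (d = 9 ∧ f = 8)) ∧
      ∀ t : G, t * t = 1 → t ≠ 1 → ∃ l m : ℕ, 0 < l ∧ l < d ∧
        Nat.card G * 5 * k * (2 * l) ^ 2 =
          d * f * (Nat.card (Subgroup.centralizer ({t} : Set G)) * m) ^ 2 := by
  obtain ⟨d, f, hd1, hf1, hdd, hfd, hcong, hsum, hform, hev⟩ :=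
    degree_equation_five hG (by norm_num : Nat.Prime 5) (by norm_num) (P : Subgroup G) hP hk hC hN
  have hdf : (d = 4 ∧ f = 3) ∨ (d = 9 ∧ f = 8) := by
    have hlt : d < 76 := by
      by_contra h
      have h1 : 76 * 76 ≤ d * d := Nat.mul_le_mul (not_lt.1 h) (not_lt.1 h)
      rw [pow_two d] at hsum
      rcases hn with h' | h' <;> rw [h'] at hsum <;> omega
    have key : ∀ n ∈ [4320, 5760], ∀ d ∈ Finset.range 76, 1 < d → d ∣ n →
        (d % 5 = 1 → ¬ (d + 1) ∣ n) ∧
        (d % 5 = 4 → (d - 1) ∣ n → d = 4 ∨ d = 9) := by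
      decide +kernel
    obtain ⟨k1, k2⟩ := key (Nat.card G) (by rcases hn with h | h <;> simp [h]) d
      (Finset.mem_range.2 hlt) hd1 hdd
    rcases hcong with ⟨he, hdiv⟩ | ⟨he, hdiv⟩
    · obtain ⟨q, hq⟩ := hdiv
      exact absurd (he ▸ hfd) (k1 (by omega))
    · obtain ⟨q, hq⟩ := hdiv
      have h1 : (d - 1) ∣ Nat.card G := by rwa [show d - 1 = f by omega]
      rcases k2 (by omega) h1 with h | h <;> omega
  refine ⟨fun h2 => ?_, d, f, hdf, hform⟩
  have := hev h2
  rcases hdf with ⟨rfl, -⟩ | ⟨rfl, -⟩ <;> omega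

/-- An involution with a Sylow two-subgroup in its centralizer. -/
theorem exists_central_involution {v w : ℕ} (hcard : Nat.card G = 2 ^ v * w) (hw : ¬ 2 ∣ w)
    (hv : v ≠ 0) :
    ∃ t : G, t * t = 1 ∧ t ≠ 1 ∧ 2 ^ v ∣ Nat.card (Subgroup.centralizer ({t} : Set G)) := by
  haveI := Fact.mk Nat.prime_two
  let T : Sylow 2 G := default
  have hT : Nat.card (T : Subgroup G) = 2 ^ v := sylow_card hcard hw T
  haveI : Nontrivial (T : Subgroup G) :=
    Finite.one_lt_card_iff_nontrivial.1 (by rw [hT]; exact Nat.one_lt_two_pow hv)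
  haveI := T.isPGroup'.center_nontrivial
  have h2 : 2 ∣ Nat.card (Subgroup.center (T : Subgroup G)) := by
    obtain ⟨j, hj⟩ := (T.isPGroup'.to_subgroup (Subgroup.center (T : Subgroup G))).exists_card_eq
    rw [hj]
    refine dvd_pow_self 2 fun h => ?_
    rw [h, pow_zero] at hj
    have := Finite.one_lt_card (α := Subgroup.center (T : Subgroup G))
    omega
  obtain ⟨z, hz⟩ := exists_prime_orderOf_dvd_card' 2 h2
  have hord : orderOf ((z : (T : Subgroup G)) : G) = 2 := by
    rw [Subgroup.orderOf_coe, Subgroup.orderOf_coe, hz]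
  refine ⟨((z : (T : Subgroup G)) : G), ?_, fun h => ?_, ?_⟩
  · have h := pow_orderOf_eq_one ((z : (T : Subgroup G)) : G)
    rwa [hord, pow_two] at h
  · rw [h, orderOf_one] at hord; norm_num at hord
  · rw [← hT]
    refine Subgroup.card_dvd_of_le fun s hs => Subgroup.mem_centralizer_singleton_iff.2 ?_
    exact congrArg Subtype.val (Subgroup.mem_center_iff.1 z.2 ⟨s, hs⟩)

/-- No simple group has order `4320`. -/
theorem card_ne [IsSimpleGroup G] : Nat.card G ≠ 4320 := by
  intro hcard
  haveI : Fact (Nat.Prime 5) := ⟨by norm_num⟩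
  have hG : ¬ IsMulCommutative G := not_comm_of_not_prime (by rw [hcard]; norm_num)
  have hr := sylow_count_mem_of_excluded 4320 5 864 1 (by norm_num) (by norm_num) (by norm_num)
    (by norm_num) (by norm_num) hcard {16, 36, 216} (by decide +kernel)
  let P : Sylow 5 G := default
  simp only [Finset.mem_insert, Finset.mem_singleton] at hr
  obtain ⟨hP, hN, e, k, he, hek, hC⟩ := data hG hcard (m := 864) (by norm_num) (by norm_num) P rfl
    (by rcases hr with h | h | h <;> omega)
  rcases he with rfl | rfl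
  · rcases hr with hr | hr | hr <;> rw [hr] at hN hek <;> simp only [Nat.reduceDiv] at hN hek
    · refine Order1440.not_sixteen P hP hr (toPermHom_injective _ fun h => ?_) ?_
      · rw [h, Subgroup.card_top, hcard] at hN; norm_num at hN
      · rw [hC, show k = 27 by omega]; norm_num
    all_goals
      exact (inertia_two hG P hP (k := k) (by omega) (Or.inl hcard) hC
        (by rw [hN]; omega)).1 (by omega)
  · rcases hr with hr | hr | hr <;> rw [hr] at hN hek <;> simp only [Nat.reduceDiv] at hN hek
    · omega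
    · obtain rfl : k = 6 := by omega
      exact Five.not_thirtysix hG P hP (Or.inl rfl) (by rw [hcard]) hr (by rw [hN]) (by rw [hC])
    · obtain rfl : k = 1 := by omega
      exact Five.not_selfcentral hG P hP hcard hN (by rw [hC])

/-- No simple group has order `5760`. -/
theorem card_ne_5760 [IsSimpleGroup G] : Nat.card G ≠ 5760 := by
  intro hcard
  haveI : Fact (Nat.Prime 5) := ⟨by norm_num⟩
  have hG : ¬ IsMulCommutative G := not_comm_of_not_prime (by rw [hcard]; norm_num)
  have hr := sylow_count_mem_of_excluded 5760 5 1152 1 (by norm_num) (by norm_num) (by norm_num)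
    (by norm_num) (by norm_num) hcard {16, 36, 96, 576} (by decide +kernel)
  let P : Sylow 5 G := default
  simp only [Finset.mem_insert, Finset.mem_singleton] at hr
  obtain ⟨hP, hN, e, k, he, hek, hC⟩ := data hG hcard (m := 1152) (by norm_num) (by norm_num) P rfl
    (by rcases hr with h | h | h | h <;> omega)
  rcases hr with hr | hr | hr | hr <;> rw [hr] at hN hek <;> simp only [Nat.reduceDiv] at hN hek
  · refine Order1440.not_sixteen P hP hr (toPermHom_injective _ fun h => ?_) ?_
    · rw [h, Subgroup.card_top, hcard] at hN; norm_num at hN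
    · rw [hC]
      rcases he with rfl | rfl
      · rw [show k = 36 by omega]; norm_num
      · rw [show k = 18 by omega]; norm_num
  · rcases he with rfl | rfl
    · exact (inertia_two hG P hP (k := k) (by omega) (Or.inr hcard) hC
        (by rw [hN]; omega)).1 (by omega)
    · obtain rfl : k = 8 := by omega
      exact Five.not_thirtysix hG P hP (Or.inr rfl) (by rw [hcard]) hr (by rw [hN]) (by rw [hC])
  · rcases he with rfl | rfl
    · exact (inertia_two hG P hP (k := k) (by omega) (Or.inr hcard) hC
        (by rw [hN]; omega)).1 (by omega)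
    · obtain rfl : k = 3 := by omega
      exact Sixteen.not_ninetysix P hP hcard hN (by rw [hC])
  · rcases he with rfl | rfl
    · obtain rfl : k = 1 := by omega
      obtain ⟨-, d, f, hdf, hform⟩ := inertia_two hG P hP (k := 1) (by norm_num) (Or.inr hcard) hC
        (by rw [hN])
      obtain ⟨t, ht2, ht1, q, hq⟩ := exists_central_involution (v := 7) (w := 45)
        (by rw [hcard]; norm_num) (by norm_num) (by norm_num)
      obtain ⟨l, m, hl0, hl, heq⟩ := hform t ht2 ht1
      rw [hcard, hq] at heq
      have key : ∀ l u : ℕ, 0 < l → l < 4 → 75 * l ^ 2 ≠ 128 * u := by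
        intro l u h1 h2; interval_cases l <;> omega
      have key' : ∀ l u : ℕ, 0 < l → l < 9 → 25 * l ^ 2 ≠ 256 * u := by
        intro l u h1 h2; interval_cases l <;> omega
      rcases hdf with ⟨rfl, rfl⟩ | ⟨rfl, rfl⟩
      · refine key l ((q * m) ^ 2 * 2 ^ 0) hl0 hl ?_
        ring_nf at heq ⊢
        omega
      · refine key' l ((q * m) ^ 2) hl0 hl ?_
        ring_nf at heq ⊢
        omega
    · omega

end Cfsg.Agent.Lib.SylowCounting.Order4320
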