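import Cfsg.Agent.Lib.SylowCounting.Tools
import Cfsg.Agent.Lib.SylowCounting.Intersection
import Cfsg.Agent.Lib.SylowCounting.Embedding
import Cfsg.Agent.Lib.Involutions.Counting
import Mathlib.GroupTheory.Transfer
import Mathlib.GroupTheory.Perm.Cycle.Type
import Mathlib.Tactic

/-!
# No simple group of order 5040

Sylow five-normalisers, fixed point parities and one transfer.
-/

namespace Cfsg.Agent.Lib.SylowCounting.Order5040

open MulAction Cfsg.Agent.Lib.SylowCounting

set_option linter.unusedSectionVars false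
set_option linter.style.haveILetI false

variable {G : Type*} [Group G] [Finite G]

/-- An involution of a nonabelian simple group moves a multiple of four points. -/
theorem fixed_parity [IsSimpleGroup G] (hG : ¬ IsMulCommutative G) {X : Type*} [MulAction G X]
    [Finite X] (u : G) (hu : u ^ 2 = 1) :
    ∃ k, Nat.card X = Nat.card (fixedBy X u) + 4 * k := by
  classical
  haveI : Fintype X := Fintype.ofFinite X
  set σ : Equiv.Perm X := MulAction.toPermHom G X u with hσ
  have hs : Equiv.Perm.sign σ = 1 := hom_zmod_trivial hG (Equiv.Perm.sign.comp (MulAction.toPermHom G X)) u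
  have h2 : orderOf σ ∣ 2 := orderOf_dvd_of_pow_eq_one (by rw [hσ, ← map_pow, hu, map_one])
  have hall : ∀ n ∈ σ.cycleType, n = 2 := fun n hn =>
    le_antisymm (Nat.le_of_dvd two_pos ((Equiv.Perm.dvd_of_mem_cycleType hn).trans h2))
      (Equiv.Perm.two_le_of_mem_cycleType hn)
  have hrep : σ.cycleType = Multiset.replicate (Multiset.card σ.cycleType) 2 :=
    Multiset.eq_replicate_card.2 hall
  have hsum : σ.cycleType.sum = 2 * Multiset.card σ.cycleType := by
    conv_lhs => rw [hrep]
    simp [mul_comm]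
  rw [Equiv.Perm.sign_of_cycleType, hsum] at hs
  have heven : Even (Multiset.card σ.cycleType) := by
    rcases Nat.even_or_odd (Multiset.card σ.cycleType) with h | ⟨m, hm⟩
    · exact h
    · rw [hm, show 2 * (2 * m + 1) + (2 * m + 1) = 2 * (3 * m + 1) + 1 by ring, pow_succ, pow_mul] at hs
      simp at hs
  obtain ⟨k, hk⟩ := heven
  refine ⟨k, ?_⟩
  have hsupp := σ.sum_cycleType
  have e : Nat.card (fixedBy X u) = Nat.card {a : X // ¬ a ∈ σ.support} :=
    Nat.card_congr (Equiv.subtypeEquivRight fun a => by simp [hσ, MulAction.mem_fixedBy])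
  rw [e, Nat.card_eq_fintype_card, Nat.card_eq_fintype_card, Fintype.card_subtype_compl, Fintype.card_coe]
  have := Finset.card_le_univ σ.support
  omega

/-- An element of order `p` fixes exactly one coset of an overgroup of the Sylow normaliser. -/
theorem fixed_exists_unique {p : ℕ} [Fact p.Prime] (P : Sylow p G)
    (hP : Nat.card (P : Subgroup G) = p) (H : Subgroup G)
    (hN : Subgroup.normalizer ((P : Subgroup G) : Set G) ≤ H) (x : G) (hx : orderOf x = p) :
    ∃ a : G ⧸ H, x • a = a ∧ ∀ b : G ⧸ H, x • b = b → b = a := by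
  let Q : Sylow p G := Sylow.ofCard (Subgroup.zpowers x) (by
    rw [Nat.card_zpowers, hx, ← P.card_eq_multiplicity, hP])
  obtain ⟨g, hg⟩ := MulAction.exists_smul_eq G P Q
  have hPH : (P : Subgroup G) ≤ H := Subgroup.le_normalizer.trans hN
  have hfix : ∀ k : G, x • (QuotientGroup.mk k : G ⧸ H) = QuotientGroup.mk k ↔ k⁻¹ * x * k ∈ H := by
    intro k
    rw [MulAction.Quotient.smul_mk, smul_eq_mul, eq_comm, QuotientGroup.eq, mul_assoc]
  refine ⟨QuotientGroup.mk g, (hfix g).2 (hPH ?_), fun b => ?_⟩
  · have hxQ : x ∈ ((g • P : Sylow p G) : Subgroup G) := by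
      rw [hg]; exact Subgroup.mem_zpowers x
    rw [Sylow.coe_subgroup_smul, Subgroup.mem_pointwise_smul_iff_inv_smul_mem] at hxQ
    simpa using hxQ
  · induction b using QuotientGroup.induction_on with
    | H k =>
      intro hk
      have hk' := (hfix k).1 hk
      have hle : ((k⁻¹ • Q : Sylow p G) : Subgroup G) ≤ H := by
        intro z hz
        rw [Sylow.coe_subgroup_smul, Subgroup.mem_pointwise_smul_iff_inv_smul_mem] at hz
        simp only [inv_inv, MulAut.smul_def, MulAut.conj_apply, map_inv] at hz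
        obtain ⟨i, hi⟩ := Subgroup.mem_zpowers_iff.1 (show _ ∈ Subgroup.zpowers x from hz)
        have : z = (k⁻¹ * x * k) ^ i := by
          have hc : (k⁻¹ * x * k⁻¹⁻¹) ^ i = k⁻¹ * x ^ i * k⁻¹⁻¹ := conj_zpow
          rw [inv_inv] at hc
          rw [hc, hi]; group
        rw [this]
        exact H.zpow_mem hk' i
      obtain ⟨h, hh⟩ := MulAction.exists_smul_eq H (P.subtype hPH) ((k⁻¹ • Q).subtype hle)
      rw [Sylow.smul_subtype] at hh
      have h2 : (h : G) • P = k⁻¹ • Q := Sylow.subtype_injective hh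
      have h3 : (g⁻¹ * (k * h)) • P = P := by
        rw [mul_smul, mul_smul, h2, smul_inv_smul, ← hg, inv_smul_smul]
      have h4 := hN (Sylow.smul_eq_iff_mem_normalizer.1 h3)
      rw [QuotientGroup.eq]
      have h5 := H.mul_mem h4 (H.inv_mem h.2)
      have h6 := H.inv_mem h5
      simpa [mul_assoc] using h6

/-- An element normalising, not centralising, a semiregular group fixes few points. -/
theorem fixed_le {X : Type*} [MulAction G X] [Finite X] (P : Subgroup G) (a₀ : X)
    (hPa₀ : ∀ u ∈ P, u • a₀ = a₀) (hfree : ∀ u ∈ P, u ≠ 1 → ∀ a : X, u • a = a → a = a₀) (y : G)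
    (hy0 : y • a₀ = a₀) (hyN : ∀ u ∈ P, y * u * y⁻¹ ∈ P) (hyC : ∀ u ∈ P, y * u * y⁻¹ = u → u = 1) :
    (Nat.card (fixedBy X y) - 1) * Nat.card P ≤ Nat.card X - 1 := by
  classical
  haveI : Fintype X := Fintype.ofFinite X
  have e1 : Nat.card {a : X // a ∈ fixedBy X y ∧ a ≠ a₀} = Nat.card (fixedBy X y) - 1 := by
    have := Set.ncard_diff_singleton_of_mem (s := fixedBy X y) (a := a₀) hy0
    rw [Set.ncard_def, ← Set.ncard_def] at this
    rw [← Nat.card_coe_set_eq, ← Nat.card_coe_set_eq] at this
    exact this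
  have e2 : Nat.card {b : X // b ≠ a₀} = Nat.card X - 1 := by
    rw [Nat.card_eq_fintype_card, Nat.card_eq_fintype_card, Fintype.card_subtype_compl,
      Fintype.card_subtype_eq]
  rw [← e1, ← e2, ← Nat.card_prod]
  refine Nat.card_le_card_of_injective (fun au => ⟨(au.2 : G) • au.1.1, fun h => au.1.2.2 ?_⟩) ?_
  · rw [← inv_smul_smul (au.2 : G) au.1.1, h]
    exact hPa₀ _ (P.inv_mem au.2.2)
  · rintro ⟨⟨a, hay, ha⟩, u, hu⟩ ⟨⟨b, hby, hb⟩, v, hv⟩ huv
    have huv' : u • a = v • b := congrArg Subtype.val huv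
    have hay' : y • a = a := hay
    have hby' : y • b = b := hby
    set w := v⁻¹ * u with hw
    have hwP : w ∈ P := P.mul_mem (P.inv_mem hv) hu
    have hwa : w • a = b := by rw [hw, mul_smul, huv', inv_smul_smul]
    have hfa : (w⁻¹ * (y * w * y⁻¹)) • a = a := by
      rw [mul_smul, mul_smul, mul_smul, inv_smul_eq_iff.2 hay'.symm, hwa, hby', inv_smul_eq_iff, hwa]
    have h1 : w⁻¹ * (y * w * y⁻¹) = 1 := by
      by_contra hne
      exact ha (hfree _ (P.mul_mem (P.inv_mem hwP) (hyN w hwP)) hne a hfa)
    have h2 := hyC w hwP (inv_mul_eq_one.1 h1).symm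
    have h3 : u = v := (inv_mul_eq_one.1 (hw ▸ h2)).symm
    subst h3
    rw [smul_left_cancel_iff] at huv'
    subst huv'
    rfl

/-- Sylow congruence for the normaliser in an overgroup. -/
theorem relIndex_mod {p : ℕ} [Fact p.Prime] (P : Sylow p G) (M : Subgroup G)
    (hM : Subgroup.normalizer ((P : Subgroup G) : Set G) ≤ M) :
    (Subgroup.normalizer ((P : Subgroup G) : Set G)).relIndex M % p = 1 := by
  have hPM : (P : Subgroup G) ≤ M := Subgroup.le_normalizer.trans hM
  let PM : Sylow p M := P.subtype hPM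
  have hNM : Subgroup.normalizer ((PM : Subgroup M) : Set M) =
      (Subgroup.normalizer ((P : Subgroup G) : Set G)).subgroupOf M := by
    rw [Sylow.coe_subtype, Subgroup.subgroupOf_normalizer_eq hPM]
  have h1 := PM.card_eq_index_normalizer
  rw [← Sylow.coe_coe, hNM] at h1
  have h2 := sylow_count_mod (G := M) p
  rw [h1] at h2
  exact h2

/-- A fixed involution of an even centraliser under a 2-subgroup of the normaliser. -/
theorem exists_commuting (P : Subgroup G) (T : Subgroup G) (hT : IsPGroup 2 T)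
    (hTN : T ≤ Subgroup.normalizer (P : Set G))
    (hC : Even (Nat.card (Subgroup.centralizer (P : Set G)))) :
    ∃ z ∈ Subgroup.centralizer (P : Set G), orderOf z = 2 ∧ ∀ t ∈ T, Commute z t := by
  set C := Subgroup.centralizer (P : Set G) with hCdef
  let S := {c : C // orderOf c = 2}
  have hconj : ∀ t ∈ T, ∀ c ∈ C, t * c * t⁻¹ ∈ C := by
    intro t ht c hc
    refine Subgroup.mem_centralizer_iff.2 fun b hb => ?_
    have hb' : t⁻¹ * b * t ∈ P := by
      simpa using (Subgroup.mem_normalizer_iff.1 ((Subgroup.normalizer _).inv_mem (hTN ht)) b).1 hb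
    have := Subgroup.mem_centralizer_iff.1 hc _ hb'
    calc b * (t * c * t⁻¹) = t * ((t⁻¹ * b * t) * c) * t⁻¹ := by group
      _ = t * (c * (t⁻¹ * b * t)) * t⁻¹ := by rw [this]
      _ = (t * c * t⁻¹) * b := by group
  letI : MulAction T S :=
    { smul := fun t c => ⟨⟨t * c.1.1 * (t : G)⁻¹, hconj t t.2 _ c.1.2⟩, by
        rw [← Subgroup.orderOf_coe]
        show orderOf (MulAut.conj (t : G) (c.1 : G)) = 2
        rw [MulEquiv.orderOf_eq, Subgroup.orderOf_coe]
        exact c.2⟩
      one_smul := fun c => by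
        apply Subtype.ext; apply Subtype.ext
        show ((1 : T) : G) * c.1.1 * ((1 : T) : G)⁻¹ = c.1.1
        simp
      mul_smul := fun s t c => by
        apply Subtype.ext; apply Subtype.ext
        show ((s * t : T) : G) * c.1.1 * ((s * t : T) : G)⁻¹ =
          (s : G) * ((t : G) * c.1.1 * (t : G)⁻¹) * (s : G)⁻¹
        simp [mul_assoc] }
  haveI : Fact (Nat.Prime 2) := ⟨Nat.prime_two⟩
  obtain ⟨z, hz⟩ := hT.nonempty_fixed_point_of_prime_not_dvd_card S (by
    rw [← even_iff_two_dvd, Nat.not_even_iff_odd]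
    exact Cfsg.Agent.Lib.Involutions.odd_card_invol hC)
  refine ⟨z.1.1, z.1.2, by rw [Subgroup.orderOf_coe]; exact z.2, fun t ht => ?_⟩
  have := congrArg (fun c : S => c.1.1) (MulAction.mem_fixedPoints.1 hz ⟨t, ht⟩)
  exact (mul_inv_eq_iff_eq_mul.1 this).symm

variable [IsSimpleGroup G]

theorem not_fix_all (hG : ¬ IsMulCommutative G) (H : Subgroup G) (hH : H ≠ ⊤) (u : G) (hu : u ≠ 1) :
    Nat.card (fixedBy (G ⧸ H) u) ≠ Nat.card (G ⧸ H) := by
  intro h
  apply hu
  apply toPermHom_injective H hH
  rw [map_one]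
  ext a
  have hs : fixedBy (G ⧸ H) u = Set.univ := Set.eq_of_subset_of_ncard_le (Set.subset_univ _)
    (by rw [Set.ncard_univ, ← Nat.card_coe_set_eq, h])
  have ha : a ∈ fixedBy (G ⧸ H) u := hs ▸ Set.mem_univ a
  exact ha

theorem units_five : ∀ v : (ZMod 5)ˣ, v ^ 2 = 1 → v ≠ 1 → v = -1 := by decide +kernel

theorem units_five_ne : (-1 : (ZMod 5)ˣ) ≠ 1 := by decide +kernel

/-- No involution of a Sylow five-centraliser has centraliser equal to the normaliser. -/
theorem no_isolated (hG : ¬ IsMulCommutative G) [Fact (Nat.Prime 5)] (P : Sylow 5 G)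
    (hP : Nat.card (P : Subgroup G) = 5) (z : G) (hz : orderOf z = 2)
    (hzC : z ∈ Subgroup.centralizer ((P : Subgroup G) : Set G))
    (hN : Subgroup.centralizer ({z} : Set G) = Subgroup.normalizer ((P : Subgroup G) : Set G))
    (heven : Even (Subgroup.normalizer ((P : Subgroup G) : Set G)).index) : False := by
  classical
  set N := Subgroup.normalizer ((P : Subgroup G) : Set G) with hNdef
  haveI : IsCyclic (P : Subgroup G) := isCyclic_of_prime_card hP
  let φ : N →* (ZMod 5)ˣ := (Units.mapEquiv (ZMod.ringEquivCongr hP).toMulEquiv).toMonoidHom.comp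
    ((IsCyclic.mulAutMulEquiv (P : Subgroup G)).toMonoidHom.comp (P : Subgroup G).normalizerMonoidHom)
  have hφ : ∀ u : N, φ u = 1 → (u : G) ∈ Subgroup.centralizer ((P : Subgroup G) : Set G) := by
    intro u hu
    have h1 : u ∈ (P : Subgroup G).normalizerMonoidHom.ker := by
      rw [MonoidHom.mem_ker]
      simp only [φ, MonoidHom.coe_comp, Function.comp_apply, MulEquiv.coe_toMonoidHom,
        map_eq_one_iff _ (MulEquiv.injective _)] at hu
      exact hu
    rw [Subgroup.normalizerMonoidHom_ker, Subgroup.mem_subgroupOf] at h1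
    exact h1
  have hφ' : ∀ u : N, (u : G) ∈ Subgroup.centralizer ((P : Subgroup G) : Set G) → φ u = 1 := by
    intro u hu
    have h1 : u ∈ (P : Subgroup G).normalizerMonoidHom.ker := by
      rw [Subgroup.normalizerMonoidHom_ker, Subgroup.mem_subgroupOf]; exact hu
    show φ u = 1
    simp only [φ, MonoidHom.coe_comp, Function.comp_apply, MonoidHom.mem_ker.1 h1, map_one]
  have hz2 : z ^ 2 = 1 := hz ▸ pow_orderOf_eq_one z
  haveI : Fintype (Quotient (orbitRel (Subgroup.zpowers z) (G ⧸ N))) := Fintype.ofFinite _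
  set base : G ⧸ N := QuotientGroup.mk 1 with hbase
  have hper2 : ∀ a : G ⧸ N, Function.minimalPeriod (z • ·) a ∣ 2 := by
    intro a
    refine Function.IsPeriodicPt.minimalPeriod_dvd ?_
    show (z • ·)^[2] a = a
    simp only [Function.iterate_succ, Function.iterate_zero, Function.comp_apply, id_eq]
    rw [← mul_smul, ← pow_two, hz2, one_smul]
  let good : G ⧸ N → Prop := fun a => z • a = a ∧ a ≠ base
  have hval : ∀ q : Quotient (orbitRel (Subgroup.zpowers z) (G ⧸ N)),
      φ ⟨q.out.out⁻¹ * z ^ Function.minimalPeriod (z • ·) q.out * q.out.out,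
        QuotientGroup.out_conj_pow_minimalPeriod_mem N z q.out⟩ =
      if good q.out then -1 else 1 := by
    intro q
    set a := q.out
    by_cases hfa : z • a = a
    · have hper : Function.minimalPeriod (z • ·) a = 1 :=
        Function.minimalPeriod_eq_one_iff_isFixedPt.2 hfa
      have hmem : a.out⁻¹ * z * a.out ∈ N := by
        have := QuotientGroup.out_conj_pow_minimalPeriod_mem N z a
        rwa [hper, pow_one] at this
      have e : (⟨a.out⁻¹ * z ^ Function.minimalPeriod (z • ·) a * a.out,
        QuotientGroup.out_conj_pow_minimalPeriod_mem N z a⟩ : N) = ⟨a.out⁻¹ * z * a.out, hmem⟩ :=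
        Subtype.ext (by simp [hper])
      rw [e]
      by_cases hb : a = base
      · rw [if_neg (fun h => h.2 hb)]
        refine hφ' _ ?_
        have haN : a.out ∈ N := by
          have h1 : (QuotientGroup.mk a.out : G ⧸ N) = QuotientGroup.mk 1 := by
            rw [QuotientGroup.out_eq']; exact hb
          rw [QuotientGroup.eq, mul_one, Subgroup.inv_mem_iff] at h1
          exact h1
        have hcz : a.out * z = z * a.out :=
          Subgroup.mem_centralizer_singleton_iff.1 (hN.symm ▸ haN : a.out ∈ Subgroup.centralizer ({z} : Set G))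
        show a.out⁻¹ * z * a.out ∈ _
        rw [mul_assoc, ← hcz, inv_mul_cancel_left]
        exact hzC
      · rw [if_pos ⟨hfa, hb⟩]
        have hne : φ ⟨a.out⁻¹ * z * a.out, hmem⟩ ≠ 1 := by
          intro h1
          have hc := hφ _ h1
          apply hb
          have hle : ((a.out • P : Sylow 5 G) : Subgroup G) ≤ (P : Subgroup G) := by
            intro w hw
            rw [Sylow.coe_subgroup_smul, Subgroup.mem_pointwise_smul_iff_inv_smul_mem] at hw
            simp only [MulAut.smul_def, map_inv, MulAut.conj_inv_apply] at hw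
            by_cases hw1 : w = 1
            · rw [hw1]; exact Subgroup.one_mem _
            have hwN : w ∈ N := by
              rw [← hN, Subgroup.mem_centralizer_singleton_iff]
              have h2 := Subgroup.mem_centralizer_iff.1 hc _ hw
              calc w * z = a.out * ((a.out⁻¹ * w * a.out) * (a.out⁻¹ * z * a.out)) * a.out⁻¹ := by
                    group
                _ = a.out * ((a.out⁻¹ * z * a.out) * (a.out⁻¹ * w * a.out)) * a.out⁻¹ := by rw [h2]
                _ = z * w := by group
            refine mem_sylow_of_orderOf P hwN (k := 1) ?_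
            have ho : orderOf (a.out⁻¹ * w * a.out) = 5 := orderOf_of_mem hP hw (fun h => hw1 (by
              have : w = a.out * (a.out⁻¹ * w * a.out) * a.out⁻¹ := by group
              rw [this, h]; group))
            rw [pow_one, ← ho]
            exact ((MulAut.conj a.out⁻¹).orderOf_eq w).symm.trans (by simp)
          have heq : a.out • P = P := Sylow.ext (Subgroup.eq_of_le_of_card_ge hle (by
            rw [Sylow.card_eq_multiplicity, Sylow.card_eq_multiplicity]))
          have hm : a.out ∈ N := Sylow.smul_eq_iff_mem_normalizer.1 heq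
          rw [hbase, ← QuotientGroup.out_eq' a, QuotientGroup.eq, mul_one]
          exact N.inv_mem hm
        have hsq : φ ⟨a.out⁻¹ * z * a.out, hmem⟩ ^ 2 = 1 := by
          rw [← map_pow]
          refine (congrArg φ (Subtype.ext ?_)).trans (map_one φ)
          show (a.out⁻¹ * z * a.out) ^ 2 = 1
          have : (a.out⁻¹ * z * a.out) ^ 2 = a.out⁻¹ * z ^ 2 * a.out := by simp only [pow_two]; group
          rw [this, hz2]; simp
        exact units_five _ hsq hne
    · rw [if_neg (fun h => hfa h.1)]
      have hper : Function.minimalPeriod (z • ·) a = 2 := by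
        refine ((Nat.dvd_prime Nat.prime_two).1 (hper2 a)).resolve_left fun h => hfa ?_
        exact Function.minimalPeriod_eq_one_iff_isFixedPt.1 h
      refine (congrArg φ (Subtype.ext ?_)).trans (map_one φ)
      show a.out⁻¹ * z ^ Function.minimalPeriod (z • ·) a * a.out = 1
      rw [hper, hz2]; simp
  have htr : MonoidHom.transfer φ z = 1 := hom_zmod_trivial hG (MonoidHom.transfer φ) z
  rw [MonoidHom.transfer_eq_prod_quotient_orbitRel_zpowers_quot, Finset.prod_congr rfl (fun q _ => hval q),
    Finset.prod_ite, Finset.prod_const, Finset.prod_const_one, mul_one] at htr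
  -- the good orbits are the fixed cosets other than the base
  have horb : ∀ a : G ⧸ N, z • a = a →
      (Quotient.mk'' a : Quotient (orbitRel (Subgroup.zpowers z) (G ⧸ N))).out = a := by
    intro a ha
    have h1 : (Quotient.mk'' a : Quotient (orbitRel (Subgroup.zpowers z) (G ⧸ N))).out ∈
        orbit (Subgroup.zpowers z) a :=
      MulAction.orbitRel_apply.1 (Quotient.exact' (Quotient.out_eq' _))
    obtain ⟨⟨g, hg⟩, hga⟩ := h1
    have hga' : g • a = _ := hga
    rw [← hga']
    have : Subgroup.zpowers z ≤ MulAction.stabilizer G a := Subgroup.zpowers_le.2 ha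
    exact this hg
  have hbfix : base ∈ fixedBy (G ⧸ N) z := by
    show z • base = base
    rw [hbase, MulAction.Quotient.smul_mk, smul_eq_mul, mul_one, eq_comm, QuotientGroup.eq, inv_one, one_mul]
    exact hN ▸ Subgroup.mem_centralizer_singleton_iff.2 rfl
  have hcard : (Finset.univ.filter fun q : Quotient (orbitRel (Subgroup.zpowers z) (G ⧸ N)) =>
      good q.out).card = Nat.card (fixedBy (G ⧸ N) z) - 1 := by
    have h1 := Set.ncard_diff_singleton_of_mem (s := fixedBy (G ⧸ N) z) (a := base) hbfix
    rw [← Nat.card_coe_set_eq, ← Nat.card_coe_set_eq] at h1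
    rw [← h1, ← Nat.card_eq_finsetCard]
    exact Nat.card_congr
      { toFun := fun q => ⟨q.1.out, (Finset.mem_filter.1 q.2).2⟩
        invFun := fun a => ⟨Quotient.mk'' a.1, Finset.mem_filter.2
          ⟨Finset.mem_univ _, by rw [horb a.1 a.2.1]; exact a.2⟩⟩
        left_inv := fun q => Subtype.ext (Quotient.out_eq' _)
        right_inv := fun a => Subtype.ext (horb a.1 a.2.1) }
  rw [hcard] at htr
  obtain ⟨k, hk⟩ := fixed_parity hG (X := G ⧸ N) z hz2
  rw [← Subgroup.index_eq_card] at hk
  obtain ⟨m, hm⟩ := heven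
  have hpos : 0 < Nat.card (fixedBy (G ⧸ N) z) := by
    haveI : Nonempty (fixedBy (G ⧸ N) z) := ⟨⟨base, hbfix⟩⟩
    exact Nat.card_pos
  have hodd : Odd (Nat.card (fixedBy (G ⧸ N) z) - 1) := ⟨(Nat.card (fixedBy (G ⧸ N) z) - 2) / 2, by omega⟩
  rw [hodd.neg_one_pow] at htr
  exact units_five_ne htr

/-- The common part of the cases with twenty-one points. -/
theorem core (hG : ¬ IsMulCommutative G) [Fact (Nat.Prime 5)] (P : Sylow 5 G)
    (hP : Nat.card (P : Subgroup G) = 5) (H : Subgroup G)
    (hN : Subgroup.normalizer ((P : Subgroup G) : Set G) ≤ H) (hidx : H.index = 21)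
    (h8 : 8 ∣ Nat.card (Subgroup.normalizer ((P : Subgroup G) : Set G)))
    (hz : ∀ y ∈ H, orderOf y = 2 →
      ∃ z ∈ H, orderOf z = 2 ∧ Commute z y ∧ ∃ x, orderOf x = 5 ∧ Commute z x) : False := by
  classical
  haveI : Fact (Nat.Prime 2) := ⟨Nat.prime_two⟩
  have hX : Nat.card (G ⧸ H) = 21 := by rw [← Subgroup.index_eq_card, hidx]
  have hH : H ≠ ⊤ := fun h => by rw [h, Subgroup.index_top] at hidx; omega
  set N := Subgroup.normalizer ((P : Subgroup G) : Set G) with hNdef
  set a₀ : G ⧸ H := QuotientGroup.mk 1 with ha₀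
  have hbase : ∀ g ∈ H, g • a₀ = a₀ := by
    intro g hg
    rw [ha₀, MulAction.Quotient.smul_mk, smul_eq_mul, mul_one, eq_comm, QuotientGroup.eq, inv_one, one_mul]
    exact hg
  have hPH : (P : Subgroup G) ≤ H := Subgroup.le_normalizer.trans hN
  have hne1 : ∀ u : G, orderOf u = 2 → u ≠ 1 := fun u hu h => by
    rw [h, orderOf_one] at hu; omega
  -- an involution centralizing an element of order five fixes one point
  have hone : ∀ u x : G, orderOf u = 2 → orderOf x = 5 → Commute u x →
      Nat.card (fixedBy (G ⧸ H) u) = 1 := by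
    intro u x hu hx hc
    obtain ⟨a, hxa, huniq⟩ := fixed_exists_unique P hP H hN x hx
    have hua : u • a = a := huniq _ (by rw [← mul_smul, ← hc.eq, mul_smul, hxa])
    obtain ⟨k, hk⟩ := fixed_parity hG (X := G ⧸ H) u (hu ▸ pow_orderOf_eq_one u)
    have hnall := not_fix_all hG H hH u (hne1 u hu)
    rw [hX] at hk hnall
    letI : MulAction (Subgroup.zpowers x) (fixedBy (G ⧸ H) u) :=
      { smul := fun g b => ⟨(g : G) • b.1, by
          obtain ⟨i, hi⟩ := Subgroup.mem_zpowers_iff.1 g.2
          show u • ((g : G) • b.1) = (g : G) • b.1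
          rw [← hi, ← mul_smul, (hc.zpow_right i).eq, mul_smul, show u • b.1 = b.1 from b.2]⟩
        one_smul := fun b => Subtype.ext (one_smul G b.1)
        mul_smul := fun g h b => Subtype.ext (mul_smul (g : G) (h : G) b.1) }
    have hp : IsPGroup 5 (Subgroup.zpowers x) :=
      IsPGroup.of_card (n := 1) (by rw [Nat.card_zpowers, hx, pow_one])
    have hmod := hp.card_modEq_card_fixedPoints (fixedBy (G ⧸ H) u)
    have hfp : Nat.card (fixedPoints (Subgroup.zpowers x) (fixedBy (G ⧸ H) u)) = 1 := by
      rw [Nat.card_eq_one_iff_unique]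
      have hmem : ∀ b : fixedBy (G ⧸ H) u, b ∈ fixedPoints (Subgroup.zpowers x) (fixedBy (G ⧸ H) u) →
          b.1 = a := fun b hb => huniq _ (congrArg Subtype.val
            (MulAction.mem_fixedPoints.1 hb ⟨x, Subgroup.mem_zpowers x⟩))
      refine ⟨⟨fun b c => Subtype.ext (Subtype.ext ((hmem _ b.2).trans (hmem _ c.2).symm))⟩,
        ⟨⟨⟨a, hua⟩, ?_⟩⟩⟩
      intro g
      apply Subtype.ext
      show (g : G) • a = a
      have : Subgroup.zpowers x ≤ MulAction.stabilizer G a := Subgroup.zpowers_le.2 hxa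
      exact this g.2
    rw [hfp] at hmod
    have hmod' : Nat.card (fixedBy (G ⧸ H) u) % 5 = 1 % 5 := hmod
    omega
  -- semiregularity of `P` off the base point
  have hfree : ∀ w ∈ (P : Subgroup G), w ≠ 1 → ∀ a : G ⧸ H, w • a = a → a = a₀ := by
    intro w hw hw1 a ha
    obtain ⟨b, -, hu⟩ := fixed_exists_unique P hP H hN w (orderOf_of_mem hP hw hw1)
    rw [hu a ha, hu a₀ (hbase w (hPH hw))]
  -- an involution of `N` with five fixed points
  obtain ⟨T, hT⟩ := Sylow.exists_subgroup_card_pow_prime (G := N) 2 (n := 3) (by simpa using h8)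
  set T' : Subgroup G := T.map N.subtype with hT'
  have hT'c : Nat.card T' = 8 := by
    rw [hT', Subgroup.card_map_of_injective N.subtype_injective, hT]; norm_num
  have hT'N : T' ≤ N := Subgroup.map_subtype_le _
  obtain ⟨y, hyN, hy2, hy⟩ : ∃ y ∈ N, orderOf y = 2 ∧ Nat.card (fixedBy (G ⧸ H) y) ≠ 1 := by
    by_contra hcon
    push Not at hcon
    have hfix : ∀ t : T', t ≠ 1 → Nat.card (fixedBy (G ⧸ H) t) = 1 := by
      intro t ht
      have hord : orderOf (t : G) ∣ 2 ^ 3 := by
        have := T'.orderOf_dvd_natCard t.2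
        rwa [hT'c] at this
      obtain ⟨j, hj, hjo⟩ := (Nat.dvd_prime_pow Nat.prime_two).1 hord
      rcases j with _ | j
      · rw [pow_zero, orderOf_eq_one_iff] at hjo
        exact absurd (Subtype.ext hjo) ht
      set u := (t : G) ^ 2 ^ j with hu
      have hu2 : orderOf u = 2 := by
        rw [hu, orderOf_pow' _ (by positivity), hjo, Nat.gcd_eq_right ⟨2, by ring⟩, pow_succ,
          Nat.mul_div_cancel_left _ (by positivity)]
      have hu1 := hcon u (N.pow_mem (hT'N t.2) _) hu2
      rw [Nat.card_eq_one_iff_unique] at hu1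
      rw [Nat.card_eq_one_iff_unique]
      have hsub : ∀ b : G ⧸ H, (t : G) • b = b → b ∈ fixedBy (G ⧸ H) u := fun b hb => by
        have : Subgroup.zpowers (t : G) ≤ MulAction.stabilizer G b := Subgroup.zpowers_le.2 hb
        exact this ((Subgroup.zpowers (t : G)).pow_mem (Subgroup.mem_zpowers _) _)
      refine ⟨⟨fun b c => Subtype.ext ?_⟩, ⟨⟨a₀, hbase _ (hN (hT'N t.2))⟩⟩⟩
      have := hu1.1.elim (⟨b.1, hsub b.1 b.2⟩ : fixedBy (G ⧸ H) u) ⟨c.1, hsub c.1 c.2⟩
      exact congrArg (fun s : fixedBy (G ⧸ H) u => (s : G ⧸ H)) this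
    haveI : Fintype T' := Fintype.ofFinite _
    haveI : ∀ t : T', Fintype (fixedBy (G ⧸ H) t) := fun t => Fintype.ofFinite _
    haveI : Fintype (MulAction.orbitRel.Quotient T' (G ⧸ H)) := Fintype.ofFinite _
    have hb := MulAction.sum_card_fixedBy_eq_card_orbits_mul_card_group T' (G ⧸ H)
    simp only [← Nat.card_eq_fintype_card] at hb
    rw [hT'c, ← Finset.sum_erase_add _ _ (Finset.mem_univ (1 : T')),
      Finset.sum_congr rfl (fun t ht => hfix t (Finset.mem_erase.1 ht).1), Finset.sum_const,
      Finset.card_erase_of_mem (Finset.mem_univ _), Finset.card_univ, ← Nat.card_eq_fintype_card, hT'c,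
      show fixedBy (G ⧸ H) (1 : T') = Set.univ from Set.eq_univ_of_forall fun a => one_smul _ a,
      Nat.card_univ, hX, smul_eq_mul] at hb
    omega
  have hyH : y ∈ H := hN hyN
  have hy5 : Nat.card (fixedBy (G ⧸ H) y) = 5 := by
    have hle := fixed_le (P : Subgroup G) a₀ (fun w hw => hbase w (hPH hw)) hfree y (hbase y hyH)
      (fun w hw => (Subgroup.mem_normalizer_iff.1 hyN w).1 hw) (fun w hw he => by
        by_contra hw1
        exact hy (hone y w hy2 (orderOf_of_mem hP hw hw1) (mul_inv_eq_iff_eq_mul.1 he)))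
    obtain ⟨k, hk⟩ := fixed_parity hG (X := G ⧸ H) y (hy2 ▸ pow_orderOf_eq_one y)
    rw [hP, hX] at hle
    rw [hX] at hk
    omega
  -- its centralizer is transitive on the five points
  set K := Subgroup.centralizer ({y} : Set G) with hK
  set O := MulAction.orbit K a₀ with hO
  have hsubF : O ⊆ fixedBy (G ⧸ H) y := by
    rintro _ ⟨k, rfl⟩
    show y • ((k : G) • a₀) = (k : G) • a₀
    rw [← mul_smul, ← Subgroup.mem_centralizer_singleton_iff.1 k.2, mul_smul, hbase y hyH]
  have hzq : ∀ b ∈ fixedBy (G ⧸ H) y, ∃ σ : Equiv.Perm O, σ ^ 2 ^ 1 = 1 ∧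
      (∀ c : O, σ c = c ↔ c.1 = b) := by
    intro b hb
    induction b using QuotientGroup.induction_on with
    | H g =>
      have hg : g⁻¹ * y * g ∈ H := by
        have h1 : y • (QuotientGroup.mk g : G ⧸ H) = QuotientGroup.mk g := hb
        rw [MulAction.Quotient.smul_mk, smul_eq_mul, eq_comm, QuotientGroup.eq, ← mul_assoc] at h1
        exact h1
      obtain ⟨z, hzH, hz2, hzy, x, hx, hzx⟩ := hz _ hg (by
        rw [← hy2]; simpa using ((MulAut.conj g⁻¹).orderOf_eq y))
      set w := g * z * g⁻¹ with hw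
      have hwy : Commute y w := by
        show y * (g * z * g⁻¹) = g * z * g⁻¹ * y
        calc y * (g * z * g⁻¹) = g * ((g⁻¹ * y * g) * z) * g⁻¹ := by group
          _ = g * (z * (g⁻¹ * y * g)) * g⁻¹ := by rw [hzy.eq]
          _ = g * z * g⁻¹ * y := by group
      have hwK : w ∈ K := Subgroup.mem_centralizer_singleton_iff.2 hwy.eq.symm
      have hw2 : orderOf w = 2 := by rw [hw, ← hz2]; exact (MulAut.conj g).orderOf_eq z
      have hwx : Commute w (g * x * g⁻¹) := by
        show g * z * g⁻¹ * (g * x * g⁻¹) = g * x * g⁻¹ * (g * z * g⁻¹)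
        calc g * z * g⁻¹ * (g * x * g⁻¹) = g * (z * x) * g⁻¹ := by group
          _ = g * (x * z) * g⁻¹ := by rw [hzx.eq]
          _ = _ := by group
      have hw1 := hone w _ hw2 (by rw [← hx]; exact (MulAut.conj g).orderOf_eq x) hwx
      have hwb : w • (QuotientGroup.mk g : G ⧸ H) = QuotientGroup.mk g := by
        rw [MulAction.Quotient.smul_mk, smul_eq_mul, eq_comm, QuotientGroup.eq, hw]
        simpa [mul_assoc] using hzH
      refine ⟨MulAction.toPerm (⟨w, hwK⟩ : K), ?_, fun c => ?_⟩
      · ext c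
        have : (⟨w, hwK⟩ : K) • (⟨w, hwK⟩ : K) • c = c := by
          rw [← mul_smul, show (⟨w, hwK⟩ : K) * ⟨w, hwK⟩ = 1 from Subtype.ext (by
            show w * w = 1
            rw [← pow_two, ← hw2, pow_orderOf_eq_one]), one_smul]
        simpa [pow_two] using congrArg Subtype.val this
      · constructor
        · intro hc
          have hc' : w • c.1 = c.1 := congrArg Subtype.val hc
          rw [Nat.card_eq_one_iff_unique] at hw1
          exact congrArg Subtype.val (hw1.1.elim ⟨c.1, hc'⟩ ⟨_, hwb⟩)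
        · intro hc
          apply Subtype.ext
          show w • c.1 = c.1
          rw [hc, hwb]
  haveI : Fintype O := Fintype.ofFinite _
  have hodd : ¬ 2 ∣ Fintype.card O := by
    intro hev
    obtain ⟨σ, hσ, hfix⟩ := hzq a₀ (hbase y hyH)
    obtain ⟨c, hc, hne⟩ := Equiv.Perm.exists_fixed_point_of_prime' hev hσ
      (a := ⟨a₀, MulAction.mem_orbit_self a₀⟩) ((hfix _).2 rfl)
    exact hne (Subtype.ext ((hfix c).1 hc))
  have hall : fixedBy (G ⧸ H) y ⊆ O := by
    intro b hb
    obtain ⟨σ, hσ, hfix⟩ := hzq b hb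
    obtain ⟨c, hc⟩ := Equiv.Perm.exists_fixed_point_of_prime hodd hσ
    exact (hfix c).1 hc ▸ c.2
  have hO5 : Nat.card O = 5 := by rw [← hy5, subset_antisymm hsubF hall]
  have hdvd : 5 ∣ Nat.card K := by
    rw [← hO5, Nat.card_congr (MulAction.orbitEquivQuotientStabilizer K a₀)]
    exact Subgroup.card_quotient_dvd_card _
  obtain ⟨x, hx⟩ := exists_prime_orderOf_dvd_card' (G := K) 5 hdvd
  have := hone y (x : G) hy2 (by rw [Subgroup.orderOf_coe]; exact hx)
    (Subgroup.mem_centralizer_singleton_iff.1 x.2).symm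
  omega

theorem card_ne : Nat.card G ≠ 5040 := by
  classical
  intro hc
  haveI : Fact (Nat.Prime 2) := ⟨by norm_num⟩
  haveI : Fact (Nat.Prime 3) := ⟨by norm_num⟩
  haveI : Fact (Nat.Prime 5) := ⟨by norm_num⟩
  haveI : Fact (Nat.Prime 7) := ⟨by norm_num⟩
  have hG : ¬ IsMulCommutative G := not_comm_of_not_prime (by rw [hc]; norm_num)
  have hc5 : Nat.card G = 5 ^ 1 * 1008 := by rw [hc]; norm_num
  have hsmall : ∀ H : Subgroup G, H ≠ ⊤ → ¬ H.index ≤ 7 := by
    intro H hH hle
    have := two_card_dvd_factorial hG H hH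
    rw [hc] at this
    revert this
    generalize H.index = n at hle
    interval_cases n <;> decide +kernel
  let P : Sylow 5 G := default
  have hP : Nat.card (P : Subgroup G) = 5 := by rw [sylow_card hc5 (by norm_num) P, pow_one]
  set N := Subgroup.normalizer ((P : Subgroup G) : Set G) with hNdef
  have hNi : N.index = Nat.card (Sylow 5 G) := by rw [P.card_eq_index_normalizer]; rfl
  have hNm := N.index_mul_card
  rw [hc] at hNm
  obtain ⟨e, c, hec, he1, hed, h5c, hcC⟩ := normalizer_card_eq hG P hP
  rw [← hNdef] at hec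
  have he : e = 2 ∨ e = 4 := by
    have := Nat.le_of_dvd (by norm_num) hed
    interval_cases e <;> simp_all
  have hn := sylow_count_candidates (G := G) hc5 (by norm_num) (by norm_num) (by norm_num)
  rw [show candidates 5 1008 = {6, 16, 21, 36, 56, 126, 336} by decide +kernel, ← hNi] at hn
  simp only [Finset.mem_insert, Finset.mem_singleton] at hn
  obtain ⟨c', rfl⟩ := h5c
  have hNne : N ≠ ⊤ := fun h => by rw [h, Subgroup.index_top] at hn; omega
  rcases hn with hn | hn | hn | hn | hn | hn | hn <;> rw [hn] at hNm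
  · exact hsmall N hNne (by omega)
  · -- sixteen
    rcases he with rfl | rfl <;> omega
  · -- twenty-one
    refine core hG P hP N le_rfl hn (by rw [← hNdef]; omega) ?_
    intro y hyN hy2
    have hCeven : Even (Nat.card (Subgroup.centralizer ((P : Subgroup G) : Set G))) := by
      rw [← hcC, even_iff_two_dvd]
      rcases he with rfl | rfl <;> omega
    obtain ⟨z, hzC, hz2, hzy⟩ := exists_commuting (P : Subgroup G) (Subgroup.zpowers y)
      (IsPGroup.of_card (n := 1) (by rw [Nat.card_zpowers, hy2, pow_one]))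
      (Subgroup.zpowers_le.2 hyN) hCeven
    obtain ⟨x₀, hx₀⟩ := exists_prime_orderOf_dvd_card' (G := (P : Subgroup G)) 5 (by rw [hP])
    exact ⟨z, Subgroup.centralizer_le_normalizer _ hzC, hz2, hzy y (Subgroup.mem_zpowers y),
      x₀, by rw [Subgroup.orderOf_coe]; exact hx₀, ((Subgroup.mem_centralizer_iff.1 hzC) _ x₀.2).symm⟩
  · -- thirty-six
    have hN140 : Nat.card N = 140 := by omega
    obtain ⟨Q₀⟩ : Nonempty (Sylow 7 N) := inferInstance
    have hn7 := sylow_count_mem (G := N) (p := 7) (k := 1) (m := 20) (by rw [hN140]; norm_num) (by norm_num)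
    rw [show ((20 : ℕ).divisors.filter fun d => d % 7 = 1) = {1} by decide +kernel,
      Finset.mem_singleton] at hn7
    haveI : Subsingleton (Sylow 7 N) := (Nat.card_eq_one_iff_unique.1 hn7).1
    haveI := Q₀.normal_of_subsingleton
    set Q₁ : Subgroup G := (Q₀ : Subgroup N).map N.subtype with hQ₁
    have hc7 : Nat.card G = 7 ^ 1 * 720 := by rw [hc]; norm_num
    have hQ1c : Nat.card Q₁ = 7 := by
      rw [hQ₁, Subgroup.card_map_of_injective N.subtype_injective,
        sylow_card (k := 1) (m := 20) (by rw [hN140]; norm_num) (by norm_num) Q₀, pow_one]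
    let Q : Sylow 7 G := Sylow.ofCard Q₁ (by
      rw [hQ1c, ← (default : Sylow 7 G).card_eq_multiplicity, sylow_card hc7 (by norm_num), pow_one])
    have hQ : Nat.card (Q : Subgroup G) = 7 := hQ1c
    set M := Subgroup.normalizer ((Q : Subgroup G) : Set G) with hMdef
    have hNM : N ≤ M := by
      intro g hg
      refine Subgroup.mem_normalizer_iff.2 fun q => ?_
      show q ∈ Q₁ ↔ g * q * g⁻¹ ∈ Q₁
      constructor
      · rintro ⟨q', hq', rfl⟩
        exact ⟨⟨g, hg⟩ * q' * ⟨g, hg⟩⁻¹, Subgroup.Normal.conj_mem inferInstance q' hq' _, rfl⟩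
      · rintro ⟨q', hq', he⟩
        refine ⟨⟨g, hg⟩⁻¹ * q' * ⟨g, hg⟩⁻¹⁻¹, Subgroup.Normal.conj_mem inferInstance q' hq' _, ?_⟩
        have he' : (q' : G) = g * q * g⁻¹ := he
        show g⁻¹ * (q' : G) * g⁻¹⁻¹ = q
        rw [he']; group
    have hMN : M = N := by
      have h1 := relIndex_mod P M hNM
      have h2 := Subgroup.relIndex_mul_index hNM
      rw [← hNdef] at h1
      rw [hn] at h2
      have hMne : M ≠ ⊤ := normalizer_ne_top Q (sylow_count_ne_one hc7 (by norm_num) (by norm_num) (by norm_num))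
      have hMi := hsmall M hMne
      have hk : N.relIndex M ∈ (36 : ℕ).divisors := Nat.mem_divisors.2 ⟨Dvd.intro _ h2, by norm_num⟩
      rw [show (36 : ℕ).divisors = {1, 2, 3, 4, 6, 9, 12, 18, 36} by decide +kernel] at hk
      simp only [Finset.mem_insert, Finset.mem_singleton] at hk
      have hk1 : N.relIndex M = 1 := by
        rcases hk with h | h | h | h | h | h | h | h | h <;> rw [h] at h1 h2 <;> omega
      exact le_antisymm (Subgroup.relIndex_eq_one.1 hk1) hNM
    obtain ⟨e', c₇, hec', he1', hed', h7c, hc7C⟩ := normalizer_card_eq hG Q hQ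
    rw [← hMdef, hMN, hN140] at hec'
    have hc70 : c₇ = 70 := by
      obtain ⟨j, rfl⟩ := h7c
      have := Nat.le_of_dvd (by norm_num) hed'
      interval_cases e' <;> omega
    subst hc70
    set C7 := Subgroup.centralizer ((Q : Subgroup G) : Set G) with hC7
    have hC7N : C7 ≤ N := hMN ▸ Subgroup.centralizer_le_normalizer _
    have hX : Nat.card (G ⧸ N) = 36 := by rw [← Subgroup.index_eq_card, hn]
    set a₀ : G ⧸ N := QuotientGroup.mk 1 with ha₀
    have hbase : ∀ g ∈ N, g • a₀ = a₀ := by
      intro g hg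
      rw [ha₀, MulAction.Quotient.smul_mk, smul_eq_mul, mul_one, eq_comm, QuotientGroup.eq, inv_one, one_mul]
      exact hg
    have hQN : (Q : Subgroup G) ≤ N := hMN ▸ Subgroup.le_normalizer
    have hfree5 : ∀ w ∈ (P : Subgroup G), w ≠ 1 → ∀ a : G ⧸ N, w • a = a → a = a₀ := by
      intro w hw hw1 a ha
      obtain ⟨b, -, hu⟩ := fixed_exists_unique P hP N le_rfl w (orderOf_of_mem hP hw hw1)
      rw [hu a ha, hu a₀ (hbase w (Subgroup.le_normalizer hw))]
    have hfree7 : ∀ w ∈ (Q : Subgroup G), w ≠ 1 → ∀ a : G ⧸ N, w • a = a → a = a₀ := by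
      intro w hw hw1 a ha
      obtain ⟨b, -, hu⟩ := fixed_exists_unique Q hQ N hMN.le w (orderOf_of_mem hQ hw hw1)
      rw [hu a ha, hu a₀ (hbase w (hQN hw))]
    -- fixed points of an involution centralizing `Q`
    have hinv : ∀ t ∈ C7, orderOf t = 2 → Nat.card (fixedBy (G ⧸ N) t) = 8 := by
      intro t ht ht2
      have htN := hC7N ht
      obtain ⟨k, hk⟩ := fixed_parity hG (X := G ⧸ N) t (ht2 ▸ pow_orderOf_eq_one t)
      have hnall := not_fix_all hG N hNne t (fun h => by rw [h, orderOf_one] at ht2; omega)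
      rw [hX] at hk hnall
      have hmodp : ∀ (p : ℕ) [Fact p.Prime] (R : Subgroup G), Nat.card R = p →
          (∀ r ∈ R, r * t = t * r) → R ≤ N → (∀ w ∈ R, w ≠ 1 → ∀ a : G ⧸ N, w • a = a → a = a₀) →
          Nat.card (fixedBy (G ⧸ N) t) % p = 1 % p := by
        intro p _ R hR hcomm hRN hfree
        letI : MulAction R (fixedBy (G ⧸ N) t) :=
          { smul := fun r b => ⟨(r : G) • b.1, by
              show t • ((r : G) • b.1) = (r : G) • b.1
              rw [← mul_smul, ← hcomm r r.2, mul_smul, show t • b.1 = b.1 from b.2]⟩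
            one_smul := fun b => Subtype.ext (one_smul G b.1)
            mul_smul := fun g h b => Subtype.ext (mul_smul (g : G) (h : G) b.1) }
        have hp : IsPGroup p R := IsPGroup.of_card (n := 1) (by rw [hR, pow_one])
        have hmod := hp.card_modEq_card_fixedPoints (fixedBy (G ⧸ N) t)
        haveI : Nontrivial R := Finite.one_lt_card_iff_nontrivial.1 (by rw [hR]; exact (Fact.out : p.Prime).one_lt)
        obtain ⟨⟨r, hr⟩, hr1⟩ := exists_ne (1 : R)
        have hmem : ∀ b : fixedBy (G ⧸ N) t, b ∈ fixedPoints R (fixedBy (G ⧸ N) t) → b.1 = a₀ :=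
          fun b hb => hfree r hr (fun h => hr1 (Subtype.ext h)) _ (congrArg Subtype.val
            (MulAction.mem_fixedPoints.1 hb ⟨r, hr⟩))
        have hfp : Nat.card (fixedPoints R (fixedBy (G ⧸ N) t)) = 1 := by
          rw [Nat.card_eq_one_iff_unique]
          refine ⟨⟨fun b d => Subtype.ext (Subtype.ext ((hmem _ b.2).trans (hmem _ d.2).symm))⟩,
            ⟨⟨⟨a₀, hbase t htN⟩, fun g => Subtype.ext (hbase (g : G) (hRN g.2))⟩⟩⟩
        rw [hfp] at hmod
        exact hmod
      have h7 := hmodp 7 (Q : Subgroup G) hQ (fun r hr => Subgroup.mem_centralizer_iff.1 ht r hr) hQN hfree7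
      by_cases htP : ∀ w ∈ (P : Subgroup G), w * t = t * w
      · have h5 := hmodp 5 (P : Subgroup G) hP htP Subgroup.le_normalizer hfree5
        omega
      · have hle := fixed_le (P : Subgroup G) a₀ (fun w hw => hbase w (Subgroup.le_normalizer hw)) hfree5 t
          (hbase t htN) (fun w hw => (Subgroup.mem_normalizer_iff.1 htN w).1 hw) (fun w hw he => by
            by_contra hw1
            apply htP
            intro v hv
            have hgen : Subgroup.zpowers w = (P : Subgroup G) :=
              Subgroup.eq_of_le_of_card_ge (Subgroup.zpowers_le.2 hw)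
                (by rw [Nat.card_zpowers, orderOf_of_mem hP hw hw1, hP])
            rw [← hgen] at hv
            obtain ⟨i, rfl⟩ := Subgroup.mem_zpowers_iff.1 hv
            exact ((show Commute t w from mul_inv_eq_iff_eq_mul.1 he).zpow_right i).eq.symm)
        rw [hP, hX] at hle
        omega
    obtain ⟨t₀, ht₀⟩ := exists_prime_orderOf_dvd_card' (G := C7) 2 (by rw [hC7, ← hc7C]; norm_num)
    set t : G := (t₀ : G) with ht
    have ht2 : orderOf t = 2 := by rw [ht, Subgroup.orderOf_coe]; exact ht₀
    have hset : ∀ g : G, IsConj t g ∧ g ∈ N ↔ g ∈ C7 ∧ orderOf g = 2 := by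
      intro g
      constructor
      · rintro ⟨hcj, hgN⟩
        obtain ⟨d, hd⟩ := isConj_iff.1 hcj
        have hg2 : orderOf g = 2 := by rw [← hd, ← ht2]; exact (MulAut.conj d).orderOf_eq t
        refine ⟨?_, hg2⟩
        by_contra hgC
        have hle := fixed_le (Q : Subgroup G) a₀ (fun w hw => hbase w (hQN hw)) hfree7 g
          (hbase g hgN) (fun w hw => (Subgroup.mem_normalizer_iff.1 (hMN.symm ▸ hgN : g ∈ M) w).1 hw)
          (fun w hw he => by
            by_contra hw1
            apply hgC
            rw [hC7, Subgroup.mem_centralizer_iff]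
            intro v hv
            have hgen : Subgroup.zpowers w = (Q : Subgroup G) :=
              Subgroup.eq_of_le_of_card_ge (Subgroup.zpowers_le.2 hw)
                (by rw [Nat.card_zpowers, orderOf_of_mem hQ hw hw1, hQ])
            rw [SetLike.mem_coe, ← hgen] at hv
            obtain ⟨i, rfl⟩ := Subgroup.mem_zpowers_iff.1 hv
            exact ((show Commute g w from mul_inv_eq_iff_eq_mul.1 he).zpow_right i).eq.symm)
        have heq : Nat.card (fixedBy (G ⧸ N) g) = Nat.card (fixedBy (G ⧸ N) t) := by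
          rw [← hd, ← smul_fixedBy, Nat.card_coe_set_eq, Nat.card_coe_set_eq, Set.ncard_smul_set]
        rw [heq, hinv t t₀.2 ht2, hQ, hX] at hle
        omega
      · rintro ⟨hgC, hg2⟩
        refine ⟨?_, hC7N hgC⟩
        have hsy : ∀ u : C7, orderOf u = 2 →
            Nat.card (Subgroup.zpowers u) = 2 ^ (Nat.card C7).factorization 2 := fun u hu => by
          rw [Nat.card_zpowers, hu, hC7, ← hc7C, Nat.factorization_def _ Nat.prime_two,
            show (70 : ℕ) = 2 * 35 by norm_num, padicValNat.mul (by norm_num) (by norm_num),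
            padicValNat_self, padicValNat.eq_zero_of_not_dvd (by norm_num : ¬ 2 ∣ 35)]
          norm_num
        have hg0 : orderOf (⟨g, hgC⟩ : C7) = 2 := by rw [← Subgroup.orderOf_coe]; exact hg2
        obtain ⟨d, hd⟩ := MulAction.exists_smul_eq C7 (Sylow.ofCard _ (hsy t₀ ht₀))
          (Sylow.ofCard _ (hsy _ hg0))
        have hmem : d * t₀ * d⁻¹ ∈ Subgroup.zpowers (⟨g, hgC⟩ : C7) := by
          have hm : d * t₀ * d⁻¹ ∈ ((d • Sylow.ofCard _ (hsy t₀ ht₀) : Sylow 2 C7) : Subgroup C7) := by
            rw [Sylow.coe_subgroup_smul, Subgroup.mem_pointwise_smul_iff_inv_smul_mem]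
            simp [Sylow.coe_ofCard, mul_assoc]
          rw [hd] at hm
          exact hm
        obtain ⟨i, hi⟩ := Subgroup.mem_zpowers_iff.1 hmem
        rw [← zpow_mod_orderOf, hg0] at hi
        obtain h | h : i % 2 = 0 ∨ i % 2 = 1 := by omega
        · rw [Nat.cast_ofNat, h, zpow_zero] at hi
          have : t₀ = 1 := conj_eq_one_iff.1 hi.symm
          rw [this, orderOf_one] at ht₀; omega
        · rw [Nat.cast_ofNat, h, zpow_one] at hi
          exact isConj_iff.2 ⟨(d : G), (congrArg Subtype.val hi).symm⟩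
    have hk : Nat.card {g : G // IsConj t g ∧ g ∈ N} = Nat.card {u : C7 // orderOf u = 2} :=
      Nat.card_congr
        { toFun := fun g => ⟨⟨g.1, ((hset g.1).1 g.2).1⟩, by
            rw [← Subgroup.orderOf_coe]; exact ((hset g.1).1 g.2).2⟩
          invFun := fun u => ⟨u.1.1, (hset _).2 ⟨u.1.2, by rw [Subgroup.orderOf_coe]; exact u.2⟩⟩
          left_inv := fun g => rfl
          right_inv := fun u => rfl }
    have hodd := Cfsg.Agent.Lib.Involutions.odd_card_invol (G := C7)
      (by rw [hC7, ← hc7C]; norm_num)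
    have hcount := fixedBy_mul_class N t
    rw [hinv t t₀.2 ht2, hn, hk] at hcount
    obtain ⟨m, hm⟩ := hodd
    omega
  · -- fifty-six
    have hN90 : Nat.card N = 90 := by omega
    set C := Subgroup.centralizer ((P : Subgroup G) : Set G) with hC
    have hc45 : Nat.card C = 45 := by rcases he with rfl | rfl <;> omega
    have hCN : C ≤ N := Subgroup.centralizer_le_normalizer _
    have hn3 := sylow_count_mem (G := C) (p := 3) (k := 2) (m := 5) (by rw [hc45]; norm_num) (by norm_num)
    rw [show ((5 : ℕ).divisors.filter fun d => d % 3 = 1) = {1} by decide +kernel,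
      Finset.mem_singleton] at hn3
    haveI : Subsingleton (Sylow 3 C) := (Nat.card_eq_one_iff_unique.1 hn3).1
    obtain ⟨R₀⟩ : Nonempty (Sylow 3 C) := inferInstance
    set R₁ : Subgroup G := (R₀ : Subgroup C).map C.subtype with hR₁
    have hc3 : Nat.card G = 3 ^ 2 * 560 := by rw [hc]; norm_num
    have hR1c : Nat.card R₁ = 9 := by
      rw [hR₁, Subgroup.card_map_of_injective C.subtype_injective,
        sylow_card (k := 2) (m := 5) (by rw [hc45]; norm_num) (by norm_num) R₀]
      norm_num
    let R : Sylow 3 G := Sylow.ofCard R₁ (by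
      rw [hR1c, ← (default : Sylow 3 G).card_eq_multiplicity, sylow_card hc3 (by norm_num)]; norm_num)
    set M := Subgroup.normalizer ((R : Subgroup G) : Set G) with hMdef
    have hNM : N ≤ M := by
      intro g hg
      refine Subgroup.mem_normalizer_iff_map_conj_eq.2 ?_
      show R₁.map _ = R₁
      have hsub : ∀ r ∈ R₁, g * r * g⁻¹ ∈ C := by
        rintro r ⟨⟨r', hr'⟩, -, rfl⟩
        refine Subgroup.mem_centralizer_iff.2 fun b hb => ?_
        have hb' : g⁻¹ * b * g ∈ (P : Subgroup G) := by
          simpa using (Subgroup.mem_normalizer_iff.1 (N.inv_mem hg) b).1 hb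
        have := Subgroup.mem_centralizer_iff.1 hr' _ hb'
        calc b * (g * r' * g⁻¹) = g * ((g⁻¹ * b * g) * r') * g⁻¹ := by group
          _ = g * (r' * (g⁻¹ * b * g)) * g⁻¹ := by rw [this]
          _ = (g * r' * g⁻¹) * b := by group
      have hRC : ((g • R : Sylow 3 G) : Subgroup G) ≤ C := by
        intro r hr
        rw [Sylow.coe_subgroup_smul, Subgroup.mem_pointwise_smul_iff_inv_smul_mem] at hr
        simp only [MulAut.smul_def, map_inv, MulAut.conj_inv_apply] at hr
        have := hsub _ hr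
        simpa [mul_assoc] using this
      have hRC0 : (R : Subgroup G) ≤ C := Subgroup.map_subtype_le _
      have : g • R = R := Sylow.subtype_injective (hP := hRC) (hQ := hRC0) (Subsingleton.elim _ _)
      exact congrArg (fun S : Sylow 3 G => (S : Subgroup G)) this
    have hMne : M ≠ ⊤ := normalizer_ne_top R (sylow_count_ne_one hc3 (by norm_num) (by norm_num) (by norm_num))
    have h1 := relIndex_mod P M hNM
    have h2 := Subgroup.relIndex_mul_index hNM
    rw [← hNdef] at h1
    rw [hn] at h2
    have hMi := hsmall M hMne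
    have hk : N.relIndex M ∈ (56 : ℕ).divisors := Nat.mem_divisors.2 ⟨Dvd.intro _ h2, by norm_num⟩
    rw [show (56 : ℕ).divisors = {1, 2, 4, 7, 8, 14, 28, 56} by decide +kernel] at hk
    have h3 := sylow_count_mod (G := G) 3
    rw [R.card_eq_index_normalizer, ← R.coe_coe, ← hMdef] at h3
    simp only [Finset.mem_insert, Finset.mem_singleton] at hk
    rcases hk with h | h | h | h | h | h | h | h <;> rw [h] at h1 h2 <;> omega
  · -- one hundred and twenty-six
    have hN40 : Nat.card N = 40 := by omega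
    obtain ⟨T, hT⟩ := Sylow.exists_subgroup_card_pow_prime (G := N) 2 (n := 3) (by rw [hN40]; norm_num)
    have hCeven : Even (Nat.card (Subgroup.centralizer ((P : Subgroup G) : Set G))) := by
      rw [← hcC, even_iff_two_dvd]
      rcases he with rfl | rfl <;> omega
    obtain ⟨z, hzC, hz2, hzT⟩ := exists_commuting (P : Subgroup G) (T.map N.subtype)
      (IsPGroup.of_card (n := 3) (by rw [Subgroup.card_map_of_injective N.subtype_injective, hT]))
      (Subgroup.map_subtype_le _) hCeven
    set H := Subgroup.centralizer ({z} : Set G) with hH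
    have hNH : N ≤ H := by
      have h8 : 8 ∣ Nat.card ↥(N ⊓ H) := by
        rw [show (8 : ℕ) = Nat.card ↥(T.map N.subtype) by
          rw [Subgroup.card_map_of_injective N.subtype_injective, hT]; norm_num]
        exact Subgroup.card_dvd_of_le (le_inf (Subgroup.map_subtype_le _) fun t ht =>
          Subgroup.mem_centralizer_singleton_iff.2 (hzT t ht).eq.symm)
      have h5 : 5 ∣ Nat.card ↥(N ⊓ H) := by
        rw [← hP]
        exact Subgroup.card_dvd_of_le (le_inf Subgroup.le_normalizer fun t ht =>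
          Subgroup.mem_centralizer_singleton_iff.2 (Subgroup.mem_centralizer_iff.1 hzC t ht))
      have hle := Subgroup.card_dvd_of_le (inf_le_left : N ⊓ H ≤ N)
      rw [hN40] at hle
      have h40 : Nat.card ↥(N ⊓ H) = 40 :=
        Nat.dvd_antisymm hle (Nat.Coprime.mul_dvd_of_dvd_of_dvd (by norm_num : Nat.Coprime 8 5) h8 h5)
      exact inf_eq_left.1 (Subgroup.eq_of_le_of_card_ge inf_le_left (by rw [h40, hN40]))
    have hHne : H ≠ ⊤ := by
      intro htop
      have hzc : z ∈ Subgroup.center G := Subgroup.mem_center_iff.2 fun g =>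
        Subgroup.mem_centralizer_singleton_iff.1 (show g ∈ H by rw [htop]; exact Subgroup.mem_top g)
      rcases IsSimpleGroup.eq_bot_or_eq_top_of_normal (Subgroup.center G) inferInstance with e | e
      · rw [e, Subgroup.mem_bot] at hzc
        rw [hzc, orderOf_one] at hz2; omega
      · exact hG ⟨⟨fun a b => Subgroup.mem_center_iff.1 (e ▸ Subgroup.mem_top b) a⟩⟩
    have h1 := relIndex_mod P H hNH
    have h2 := Subgroup.relIndex_mul_index hNH
    rw [← hNdef] at h1
    rw [hn] at h2
    have hMi := hsmall H hHne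
    have hk : N.relIndex H ∈ (126 : ℕ).divisors := Nat.mem_divisors.2 ⟨Dvd.intro _ h2, by norm_num⟩
    rw [show (126 : ℕ).divisors = {1, 2, 3, 6, 7, 9, 14, 18, 21, 42, 63, 126} by decide +kernel] at hk
    simp only [Finset.mem_insert, Finset.mem_singleton] at hk
    by_cases hk1 : N.relIndex H = 1
    · exact no_isolated hG P hP z hz2 hzC (le_antisymm (Subgroup.relIndex_eq_one.1 hk1) hNH)
        (by rw [hn]; decide)
    have hH21 : H.index = 21 := by
      rcases hk with h | h | h | h | h | h | h | h | h | h | h | h <;> rw [h] at h1 h2 hk1 <;> omega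
    refine core hG P hP H hNH hH21 (by rw [← hNdef, hN40]; norm_num) ?_
    intro y hyH _
    obtain ⟨x₀, hx₀⟩ := exists_prime_orderOf_dvd_card' (G := (P : Subgroup G)) 5 (by rw [hP])
    exact ⟨z, Subgroup.mem_centralizer_singleton_iff.2 rfl, hz2,
      (Subgroup.mem_centralizer_singleton_iff.1 hyH).symm,
      x₀, by rw [Subgroup.orderOf_coe]; exact hx₀, ((Subgroup.mem_centralizer_iff.1 hzC) _ x₀.2).symm⟩
  · -- three hundred and thirty-six
    rcases he with rfl | rfl <;> omega

end Cfsg.Agent.Lib.SylowCounting.Order5040
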