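import Cfsg.Agent.Lib.SylowCounting.OrderCounts

/-!
# Searches for the alternating groups of degree 4, 5 and 6
-/

set_option maxHeartbeats 2000000

namespace Cfsg.Agent.Lib.SylowCounting.OrderCounts

/-- Candidate orders above two for the `four` case, with allowed counts and divisors. -/
def fourTable : List (ℕ × List ℕ × List ℕ) :=
  [(4, [8], []), (8, [8], [4]), (16, [8], [4, 8]), (3, [8], []), (6, [8], [3]),
   (12, [8], [4, 3, 6]), (24, [8], [4, 8, 3, 6, 12])]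

def fourTests : List ℕ :=
  [4, 8, 16, 3, 6, 12, 24, 2, 32, 64, 128, 9, 27, 81, 243, 729, 2187]

/-- Candidate orders above two for the `five` case, with allowed counts and divisors. -/
def fiveTable : List (ℕ × List ℕ × List ℕ) :=
  [(4, [20, 24], []), (8, [20, 24], [4]), (16, [24], [4, 8]), (3, [20, 24], []),
   (6, [20, 24], [3]), (9, [24], [3]), (12, [20, 24], [4, 3, 6]), (18, [24], [3, 6, 9]),
   (24, [24], [4, 8, 3, 6, 12]), (36, [24], [4, 3, 6, 9, 12, 18]),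
   (72, [24], [4, 8, 3, 6, 9, 12, 18, 24, 36]), (5, [20, 24], []), (10, [20, 24], [5]),
   (15, [24], [3, 5]), (20, [24], [4, 5, 10]), (25, [20], [5]), (30, [24], [3, 6, 5, 10, 15]),
   (45, [24], [3, 9, 5, 15]), (50, [20], [5, 10, 25]),
   (90, [24], [3, 6, 9, 18, 5, 10, 15, 30, 45])]

def fiveTests : List ℕ :=
  [4, 8, 16, 3, 6, 9, 12, 18, 24, 36, 72, 5, 10, 15, 20, 25, 30, 45, 50, 90, 2, 32, 64, 128, 27, 81, 243, 729, 2187, 125, 625, 3125, 15625, 78125]

/-- Candidate orders above two for the `six` case, with allowed counts and divisors. -/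
def sixTable : List (ℕ × List ℕ × List ℕ) :=
  [(4, [80, 90, 144], []), (8, [80, 144], [4]), (16, [80, 144], [4, 8]),
   (32, [80, 144], [4, 8, 16]), (3, [80, 90, 144], []), (6, [80, 90, 144], [3]),
   (9, [90, 144], [3]), (12, [80, 144], [4, 3, 6]), (18, [90, 144], [3, 6, 9]),
   (24, [80, 144], [4, 8, 3, 6, 12]), (27, [90, 144], [3, 9]),
   (36, [144], [4, 3, 6, 9, 12, 18]), (48, [80, 144], [4, 8, 16, 3, 6, 12, 24]),
   (54, [90, 144], [3, 6, 9, 18, 27]), (72, [144], [4, 8, 3, 6, 9, 12, 18, 24, 36]),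
   (108, [144], [4, 3, 6, 9, 12, 18, 27, 36, 54]),
   (144, [144], [4, 8, 16, 3, 6, 9, 12, 18, 24, 36, 48, 72]),
   (216, [144], [4, 8, 3, 6, 9, 12, 18, 24, 27, 36, 54, 72, 108]),
   (432, [144], [4, 8, 16, 3, 6, 9, 12, 18, 24, 27, 36, 48, 54, 72, 108, 144, 216]),
   (5, [80, 144], []), (10, [80, 144], [5]), (15, [80, 144], [3, 5]),
   (20, [80, 144], [4, 5, 10]), (25, [80], [5]), (30, [80, 144], [3, 6, 5, 10, 15]),
   (40, [80, 144], [4, 8, 5, 10, 20]), (45, [144], [3, 9, 5, 15]), (50, [80], [5, 10, 25]),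
   (60, [80, 144], [4, 3, 6, 12, 5, 10, 15, 20, 30]), (75, [80], [3, 5, 15, 25]),
   (90, [144], [3, 6, 9, 18, 5, 10, 15, 30, 45]), (100, [80], [4, 5, 10, 20, 25, 50]),
   (135, [144], [3, 9, 27, 5, 15, 45]), (150, [80], [3, 6, 5, 10, 15, 25, 30, 50, 75]),
   (180, [144], [4, 3, 6, 9, 12, 18, 36, 5, 10, 15, 20, 30, 45, 60, 90]),
   (200, [80], [4, 8, 5, 10, 20, 25, 40, 50, 100]),
   (270, [144], [3, 6, 9, 18, 27, 54, 5, 10, 15, 30, 45, 90, 135]),
   (300, [80], [4, 3, 6, 12, 5, 10, 15, 20, 25, 30, 50, 60, 75, 100, 150]),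
   (540, [144], [4, 3, 6, 9, 12, 18, 27, 36, 54, 108, 5, 10, 15, 20, 30, 45, 60, 90, 135, 180, 270]),
   (7, [90, 144], []), (14, [90, 144], [7]), (21, [144], [3, 7]), (28, [144], [4, 7, 14]),
   (35, [144], [5, 7]), (42, [144], [3, 6, 7, 14, 21]), (56, [144], [4, 8, 7, 14, 28]),
   (63, [144], [3, 9, 7, 21]), (70, [144], [5, 10, 7, 14, 35]),
   (84, [144], [4, 3, 6, 12, 7, 14, 21, 28, 42]), (105, [144], [3, 5, 15, 7, 21, 35]),
   (112, [144], [4, 8, 16, 7, 14, 28, 56]), (126, [144], [3, 6, 9, 18, 7, 14, 21, 42, 63]),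
   (140, [144], [4, 5, 10, 20, 7, 14, 28, 35, 70]),
   (168, [144], [4, 8, 3, 6, 12, 24, 7, 14, 21, 28, 42, 56, 84]),
   (210, [144], [3, 6, 5, 10, 15, 30, 7, 14, 21, 35, 42, 70, 105]),
   (252, [144], [4, 3, 6, 9, 12, 18, 36, 7, 14, 21, 28, 42, 63, 84, 126]),
   (315, [144], [3, 9, 5, 15, 45, 7, 21, 35, 63, 105]),
   (504, [144], [4, 8, 3, 6, 9, 12, 18, 24, 36, 72, 7, 14, 21, 28, 42, 56, 63, 84, 126, 168, 252]),
   (630, [144], [3, 6, 9, 18, 5, 10, 15, 30, 45, 90, 7, 14, 21, 35, 42, 63, 70, 105, 126, 210, 315])]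

def sixTests : List ℕ :=
  [4, 8, 16, 32, 3, 6, 9, 12, 18, 24, 27, 36, 48, 54, 72, 108, 144, 216, 432, 5, 10, 15, 20, 25, 30, 40, 45, 50, 60, 75, 90, 100, 135, 150, 180, 200, 270, 300, 540, 7, 14, 21, 28, 35, 42, 56, 63, 70, 84, 105, 112, 126, 140, 168, 210, 252, 315, 504, 630, 2, 64, 128, 81, 243, 729, 2187, 125, 625, 3125, 15625, 78125, 49, 343, 2401, 16807, 117649, 823543]

theorem four_search : search [1, 3, 8] fourTests [(0, 12), (3, 9)] fourTable [(2, 3), (1, 1)] = true := by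
  decide +kernel

theorem five_search :
    search [1, 15, 20, 24] fiveTests [(0, 60), (2, 16), (5, 25), (10, 40)] fiveTable [(2, 15), (1, 1)] = true := by
  decide +kernel

theorem six_search :
    search [1, 45, 80, 90, 144] sixTests [(0, 360), (2, 46), (5, 145), (10, 190)] sixTable [(2, 45), (1, 1)] = true := by
  decide +kernel

end Cfsg.Agent.Lib.SylowCounting.OrderCounts
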