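import Mathlib.Tactic
import Mathlib.GroupTheory.OrderOfElement
import Mathlib.Data.Nat.Totient
import Mathlib.GroupTheory.Perm.Cycle.Type
import Cfsg.Agent.S3993

/-!
# The numbers of elements of each order determine small groups

A finite search over the possible functions `m ↦ #{g | orderOf g = m}` with prescribed set of
values.
-/

namespace Cfsg.Agent.Lib.SylowCounting.OrderCounts

/-- Sum of the recorded counts of orders dividing `d`. -/
def psum (acc : List (ℕ × ℕ)) (d : ℕ) : ℕ :=
  acc.foldr (fun e r => if d % e.1 == 0 then e.2 + r else r) 0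

/-- An order is recorded. -/
def have' (acc : List (ℕ × ℕ)) (d : ℕ) : Bool := acc.any (fun e => e.1 == d)

/-- The primes below one hundred. -/
def primes : List ℕ :=
  [2, 3, 5, 7, 11, 13, 17, 19, 23, 29, 31, 37, 41, 43, 47, 53, 59, 61, 67, 71, 73, 79, 83, 89, 97]

/-- A complete assignment is either the target or impossible. -/
def leaf (V D : List ℕ) (T : List (ℕ × ℕ)) (acc : List (ℕ × ℕ)) : Bool :=
  T.all (fun t => psum acc t.1 == t.2) ||
    !(V.all (fun v => acc.any (fun e => e.2 == v))) ||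
    acc.any (fun e => psum acc 0 % e.1 != 0) ||
    primes.any (fun p => psum acc 0 % p == 0 && !(have' acc p)) ||
    D.any (fun d => psum acc 0 % d == 0 && psum acc d % d != 0)

/-- The search. -/
def search (V D : List ℕ) (T : List (ℕ × ℕ)) :
    List (ℕ × List ℕ × List ℕ) → List (ℕ × ℕ) → Bool
  | [], acc => leaf V D T acc
  | (m, vs, ds) :: rest, acc =>
    search V D T rest acc &&
      (!(ds.all (have' acc)) ||
        vs.all (fun v => psum ((m, v) :: acc) m % m != 0 || search V D T rest ((m, v) :: acc)))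

/-- The recorded list describes `f` on the processed orders. -/
def Inv (f : ℕ → ℕ) (done : List ℕ) (acc : List (ℕ × ℕ)) : Prop :=
  (∀ d, psum acc d = (done.map fun k => if k ∣ d then f k else 0).sum) ∧
    (∀ k ∈ done, f k ≠ 0 → (k, f k) ∈ acc) ∧ ∀ e ∈ acc, f e.1 ≠ 0

/-- Divisors are processed first. -/
def ordered : List ℕ → List (ℕ × List ℕ × List ℕ) → Bool
  | _, [] => true
  | done, (m, _, ds) :: rest =>
    ds.all (fun d => done.contains d) && rest.all (fun e => m % e.1 != 0) &&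
      ordered (done ++ [m]) rest

theorem psum_cons (m v : ℕ) (acc : List (ℕ × ℕ)) (d : ℕ) :
    psum ((m, v) :: acc) d = (if m ∣ d then v else 0) + psum acc d := by
  show (if d % m == 0 then v + psum acc d else psum acc d) = _
  by_cases h : m ∣ d
  · rw [if_pos h, if_pos (by simpa using Nat.mod_eq_zero_of_dvd h)]
  · rw [if_neg h, if_neg (by simpa [Nat.dvd_iff_mod_eq_zero] using h), zero_add]

theorem search_sound {V D : List ℕ} {T : List (ℕ × ℕ)} {f : ℕ → ℕ} {K : List ℕ}
    (hmod : ∀ m ∈ K, f m ≠ 0 → m ∣ (K.map fun k => if k ∣ m then f k else 0).sum) :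
    ∀ (rest : List (ℕ × List ℕ × List ℕ)) (done : List ℕ) (acc : List (ℕ × ℕ)),
      done ++ rest.map Prod.fst = K → Inv f done acc → ordered done rest = true →
      (∀ e ∈ rest, f e.1 ≠ 0 → f e.1 ∈ e.2.1 ∧ ∀ d ∈ e.2.2, f d ≠ 0) →
      search V D T rest acc = true →
      ∃ acc', Inv f K acc' ∧ leaf V D T acc' = true := by
  intro rest
  induction rest with
  | nil =>
    intro done acc hK hinv _ _ hs
    simp only [List.map_nil, List.append_nil] at hK
    exact ⟨acc, hK ▸ hinv, hs⟩
  | cons e rest ih =>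
    obtain ⟨m, vs, ds⟩ := e
    intro done acc hK hinv hord hyp hs
    simp only [ordered, Bool.and_eq_true, List.all_eq_true] at hord
    obtain ⟨⟨hds, hlater⟩, hord'⟩ := hord
    rw [search, Bool.and_eq_true] at hs
    obtain ⟨hskip, htake⟩ := hs
    have hK' : (done ++ [m]) ++ rest.map Prod.fst = K := by simpa using hK
    have hyp' : ∀ e ∈ rest, f e.1 ≠ 0 → f e.1 ∈ e.2.1 ∧ ∀ d ∈ e.2.2, f d ≠ 0 :=
      fun e he => hyp e (List.mem_cons_of_mem _ he)
    obtain ⟨hp, hmem, hne⟩ := hinv
    by_cases hfm : f m = 0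
    · refine ih (done ++ [m]) acc hK' ⟨fun d => ?_, ?_, hne⟩ hord' hyp' hskip
      · simp [hp d, hfm]
      · intro k hk hk0
        rcases List.mem_append.1 hk with h | h
        · exact hmem k h hk0
        · exact absurd (List.mem_singleton.1 h ▸ hfm) hk0
    · obtain ⟨hv, hd0⟩ := hyp (m, vs, ds) List.mem_cons_self hfm
      have hpres : ds.all (have' acc) = true := List.all_eq_true.2 fun d hd => by
        have hdd : d ∈ done := List.contains_iff_mem.1 (hds d hd)
        exact List.any_eq_true.2 ⟨(d, f d), hmem d hdd (hd0 d hd), by simp⟩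
      rw [hpres, Bool.not_true, Bool.false_or, List.all_eq_true] at htake
      have hinv' : Inv f (done ++ [m]) ((m, f m) :: acc) := by
        refine ⟨fun d => ?_, ?_, ?_⟩
        · simp [psum_cons, hp d, add_comm]
        · intro k hk hk0
          rcases List.mem_append.1 hk with h | h
          · exact List.mem_cons_of_mem _ (hmem k h hk0)
          · rw [List.mem_singleton.1 h]; exact List.mem_cons_self
        · intro e he
          rcases List.mem_cons.1 he with rfl | he
          · exact hfm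
          · exact hne e he
      have hz : ((rest.map Prod.fst).map fun k => if k ∣ m then f k else 0).sum = 0 := by
        refine List.sum_eq_zero fun x hx => ?_
        obtain ⟨k, hk, rfl⟩ := List.mem_map.1 hx
        obtain ⟨e, he, rfl⟩ := List.mem_map.1 hk
        have h := hlater e he
        rw [if_neg]
        simpa [Nat.dvd_iff_mod_eq_zero] using h
      have hkey : psum ((m, f m) :: acc) m % m = 0 := by
        have hmK : m ∈ K := hK' ▸ List.mem_append_left _ (by simp)
        have h := hmod m hmK hfm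
        rw [← hK', List.map_append, List.sum_append, hz, add_zero, ← hinv'.1 m] at h
        exact Nat.mod_eq_zero_of_dvd h
      have h := htake (f m) hv
      rw [hkey] at h
      exact ih (done ++ [m]) _ hK' hinv' hord' hyp' (by simpa using h)
section

variable {G : Type*} [Group G] [Finite G]

/-- The number of elements of order `m`. -/
noncomputable def cnt (G : Type*) [Group G] (m : ℕ) : ℕ := Nat.card {g : G // orderOf g = m}

theorem cnt_ne_zero_iff {m : ℕ} : cnt G m ≠ 0 ↔ ∃ g : G, orderOf g = m := by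
  rw [cnt, Nat.card_ne_zero]
  exact ⟨fun ⟨⟨g, hg⟩, _⟩ => ⟨g, hg⟩, fun ⟨g, hg⟩ => ⟨⟨⟨g, hg⟩⟩, inferInstance⟩⟩

theorem cnt_dvd_ne_zero {m d : ℕ} (hm : cnt G m ≠ 0) (hd : d ∣ m) : cnt G d ≠ 0 := by
  obtain ⟨g, rfl⟩ := cnt_ne_zero_iff.1 hm
  exact cnt_ne_zero_iff.2 ⟨g ^ (orderOf g / d), orderOf_pow_orderOf_div (orderOf_pos g).ne' hd⟩

theorem card_pow_eq_sum (K : List ℕ) (hnd : K.Nodup) (hK : ∀ g : G, orderOf g ∈ K) (d : ℕ) :
    Nat.card {g : G // g ^ d = 1} = (K.map fun k => if k ∣ d then cnt G k else 0).sum := by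
  classical
  haveI := Fintype.ofFinite G
  rw [← List.sum_toFinset _ hnd, Nat.card_eq_fintype_card, Fintype.card_subtype,
    Finset.card_eq_sum_card_fiberwise (f := fun g : G => orderOf g) (t := K.toFinset)
      (fun g _ => List.mem_toFinset.2 (hK g))]
  refine Finset.sum_congr rfl fun k _ => ?_
  rw [Finset.filter_filter]
  split_ifs with h
  · rw [cnt, Nat.card_eq_fintype_card, Fintype.card_subtype]
    exact congrArg Finset.card (Finset.filter_congr fun g _ =>
      ⟨fun hg => hg.2, fun hg => ⟨orderOf_dvd_iff_pow_eq_one.1 (hg ▸ h), hg⟩⟩)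
  · rw [Finset.card_eq_zero, Finset.filter_eq_empty_iff]
    rintro g - ⟨hg, rfl⟩
    exact h (orderOf_dvd_iff_pow_eq_one.2 hg)

theorem cnt_one : cnt G 1 = 1 := by
  rw [cnt, Nat.card_eq_one_iff_unique]
  exact ⟨⟨fun a b => Subtype.ext ((orderOf_eq_one_iff.1 a.2).trans (orderOf_eq_one_iff.1 b.2).symm)⟩,
    ⟨⟨1, orderOf_one⟩⟩⟩

/-- The same-order counts determine the numbers recorded in the target. -/
theorem determined (V D : List ℕ) (T : List (ℕ × ℕ)) (table : List (ℕ × List ℕ × List ℕ)) (s2 : ℕ)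
    (hV : ∀ v : ℕ, v ∈ V ↔ ∃ g : G, cnt G (orderOf g) = v)
    (hs2 : s2 ∈ V) (hs2o : Odd s2) (hs21 : s2 ≠ 1)
    (hcover : ∀ (f : ℕ → ℕ) (m : ℕ), 2 < m →
      (∀ d, d ∣ m → f d ∈ V ∧ Nat.totient d ∣ f d ∧ (d.Prime → d ∣ 1 + f d)) →
      ∃ e ∈ table, e.1 = m ∧ f m ∈ e.2.1)
    (hord : ordered [1, 2] table = true) (hnd : ([1, 2] ++ table.map Prod.fst).Nodup)
    (hds : ∀ e ∈ table, ∀ d ∈ e.2.2, d ∣ e.1)
    (hsearch : search V D T table [(2, s2), (1, 1)] = true) :
    ∀ t ∈ T, Nat.card {g : G // g ^ t.1 = 1} = t.2 := by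
  have hval : ∀ m, cnt G m ≠ 0 → cnt G m ∈ V := fun m hm => by
    obtain ⟨g, rfl⟩ := cnt_ne_zero_iff.1 hm
    exact (hV _).2 ⟨g, rfl⟩
  have hprime : ∀ p, p.Prime → cnt G p ≠ 0 → p ∣ 1 + cnt G p := fun p hp hp0 => by
    obtain ⟨g, rfl⟩ := cnt_ne_zero_iff.1 hp0
    have h := Cfsg.Agent.S3993.result (G := G) (orderOf g) (orderOf_dvd_natCard g)
    classical
    haveI := Fintype.ofFinite G
    refine h.trans (dvd_of_eq ?_)
    rw [← cnt_one (G := G), cnt, cnt, ← Nat.card_sum]
    refine (Nat.card_congr ?_).symm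
    refine (subtypeOrEquiv (fun x : G => orderOf x = 1) (fun x : G => orderOf x = orderOf g)
      (Pi.disjoint_iff.2 fun x => Prop.disjoint_iff.2 fun ⟨a, b⟩ =>
        hp.ne_one (b.symm.trans a))).symm.trans (Equiv.subtypeEquivRight fun x => ?_)
    rw [← orderOf_dvd_iff_pow_eq_one, Nat.dvd_prime hp]
  obtain ⟨g₂, hg₂⟩ := (hV s2).1 hs2
  have h2 : cnt G 2 = s2 := by
    have hne : orderOf g₂ ≠ 1 := fun h => hs21 (by rw [← hg₂, h, cnt_one])
    have hle : orderOf g₂ ≤ 2 := by
      by_contra hlt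
      have he := (Nat.totient_even (not_le.1 hlt)).two_dvd.trans
        (Cfsg.Agent.S3993.totient_dvd_card_orderOf (G := G) (orderOf g₂))
      rw [show Nat.card {x : G // orderOf x = orderOf g₂} = s2 from hg₂] at he
      exact Nat.not_even_iff_odd.2 hs2o (even_iff_two_dvd.2 he)
    have : orderOf g₂ = 2 := by have := orderOf_pos g₂; omega
    rwa [this] at hg₂
  have hmem : ∀ g : G, orderOf g ∈ [1, 2] ++ table.map Prod.fst := by
    intro g
    rcases Nat.lt_or_ge 2 (orderOf g) with hlt | hle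
    · obtain ⟨e, he, he1, -⟩ := hcover (cnt G) _ hlt fun d hd =>
        have hd0 : cnt G d ≠ 0 := cnt_dvd_ne_zero (cnt_ne_zero_iff.2 ⟨g, rfl⟩) hd
        ⟨hval d hd0, Cfsg.Agent.S3993.totient_dvd_card_orderOf d, fun hp => hprime d hp hd0⟩
      exact List.mem_append_right _ (List.mem_map.2 ⟨e, he, he1⟩)
    · have := orderOf_pos g
      refine List.mem_append_left _ ?_
      simp only [List.mem_cons, List.not_mem_nil, or_false]
      omega
  have hpow := card_pow_eq_sum _ hnd hmem
  have hinv : Inv (cnt G) [1, 2] [(2, s2), (1, 1)] := by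
    refine ⟨fun d => ?_, ?_, ?_⟩
    · rw [psum_cons, psum_cons]
      simp [psum, h2, cnt_one, add_comm]
    · intro k hk _
      simp only [List.mem_cons, List.not_mem_nil, or_false] at hk
      rcases hk with rfl | rfl <;> simp [h2, cnt_one]
    · intro e he
      simp only [List.mem_cons, List.not_mem_nil, or_false] at he
      rcases he with rfl | rfl
      · show cnt G 2 ≠ 0
        rw [h2]; exact hs2o.pos.ne'
      · show cnt G 1 ≠ 0
        rw [cnt_one]; exact one_ne_zero
  obtain ⟨acc, ⟨hp, hin, hne⟩, hleaf⟩ := search_sound (V := V) (D := D) (T := T) (f := cnt G)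
    (K := [1, 2] ++ table.map Prod.fst)
    (fun m hm hm0 => by
      rw [← hpow m]
      obtain ⟨g, rfl⟩ := cnt_ne_zero_iff.1 hm0
      exact Cfsg.Agent.S3993.result _ (orderOf_dvd_natCard g))
    table [1, 2] _ rfl hinv hord
    (fun e he hne0 => by
      refine ⟨?_, fun d hd => cnt_dvd_ne_zero hne0 (hds e he d hd)⟩
      have hlt : 2 < e.1 := by
        have h := List.nodup_append.1 hnd
        have h1 : e.1 ≠ 1 := fun h1 => h.2.2 1 (by simp) 1 (List.mem_map.2 ⟨e, he, h1⟩) rfl
        have h2' : e.1 ≠ 2 := fun h1 => h.2.2 2 (by simp) 2 (List.mem_map.2 ⟨e, he, h1⟩) rfl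
        obtain ⟨g, hg⟩ := cnt_ne_zero_iff.1 hne0
        have := orderOf_pos g
        omega
      obtain ⟨e', he', he1, hv⟩ := hcover (cnt G) _ hlt fun d hd =>
        have hd0 : cnt G d ≠ 0 := cnt_dvd_ne_zero hne0 hd
        ⟨hval d hd0, Cfsg.Agent.S3993.totient_dvd_card_orderOf d, fun hp => hprime d hp hd0⟩
      have hinj := List.inj_on_of_nodup_map (List.nodup_append.1 hnd).2.1 he' he he1
      rw [hinj] at hv
      exact hv)
    hsearch
  have hn : psum acc 0 = Nat.card G := by
    rw [hp, ← hpow]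
    exact Nat.card_congr (Equiv.subtypeUnivEquiv fun g => pow_zero g)
  simp only [leaf, Bool.or_eq_true, Bool.not_eq_true', List.all_eq_true, List.any_eq_true,
    Bool.and_eq_true, beq_iff_eq, bne_iff_ne, ne_eq] at hleaf
  rcases hleaf with (((hT | hval') | he) | hq) | hD
  · intro t ht
    rw [← hT t ht, hp, hpow]
  · exfalso
    obtain ⟨v, hv, hv'⟩ := List.all_eq_false.1 hval'
    obtain ⟨g, rfl⟩ := (hV v).1 hv
    exact hv' (List.any_eq_true.2 ⟨_, hin _ (hmem g) (cnt_ne_zero_iff.2 ⟨g, rfl⟩), by simp⟩)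
  · exfalso
    obtain ⟨e, he, hme⟩ := he
    obtain ⟨g, hg⟩ := cnt_ne_zero_iff.1 (hne e he)
    exact hme (Nat.mod_eq_zero_of_dvd (hn ▸ hg ▸ orderOf_dvd_natCard g))
  · exfalso
    obtain ⟨p, hpm, hpn, hnot⟩ := hq
    have hpp : p.Prime := by
      have : ∀ q ∈ primes, q.Prime := by decide +kernel
      exact this p hpm
    haveI := Fact.mk hpp
    obtain ⟨g, hg⟩ := exists_prime_orderOf_dvd_card' (G := G) p
      (hn ▸ Nat.dvd_of_mod_eq_zero hpn)
    have : have' acc p = true :=
      List.any_eq_true.2 ⟨_, hin p (hg ▸ hmem g) (cnt_ne_zero_iff.2 ⟨g, hg⟩), by simp⟩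
    rw [this] at hnot
    exact Bool.noConfusion hnot
  · exfalso
    obtain ⟨d, -, hdn, hmd⟩ := hD
    refine hmd (Nat.mod_eq_zero_of_dvd ?_)
    rw [hp, ← hpow]
    exact Cfsg.Agent.S3993.result d (hn ▸ Nat.dvd_of_mod_eq_zero hdn)

end

end Cfsg.Agent.Lib.SylowCounting.OrderCounts
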