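import Mathlib.GroupTheory.Sylow
import Mathlib.GroupTheory.GroupAction.Quotient
import Mathlib.Algebra.Group.Subgroup.Pointwise
import Mathlib.Algebra.BigOperators.Group.Finset.Basic
import Mathlib.Tactic.Linarith
import Mathlib.Tactic.Ring
import Mathlib.Tactic.LinearCombination
import Mathlib.Tactic.Positivity

/-!
The number of Sylow `p`-subgroups of a proper subgroup of a group generated by its `p`-elements.

If `H` contains only some of the Sylow `p`-subgroups of `L`, and `L` is generated by those it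
contains, then `(2p - 1) n(H) ≤ (p - 1) n(L)`.
-/

set_option autoImplicit false

namespace Cfsg.Agent.Lib.SylowRatio

open scoped Classical

universe u

variable {G : Type u} [Group G]

/-- Conjugate subgroup. -/
def cj (g : G) (H : Subgroup G) : Subgroup G := H.map (MulAut.conj g).toMonoidHom

theorem cj_one (H : Subgroup G) : cj 1 H = H := by
  refine SetLike.ext fun x => ?_
  simp [cj]

theorem cj_mul (g h : G) (H : Subgroup G) : cj (g * h) H = cj g (cj h H) := by
  simp only [cj, Subgroup.map_map]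
  congr 1
  refine MonoidHom.ext fun x => ?_
  simp [mul_assoc]

theorem cj_mono {g : G} {H K : Subgroup G} (h : H ≤ K) : cj g H ≤ cj g K := Subgroup.map_mono h

theorem cj_inv_cancel (g : G) (H : Subgroup G) : cj g⁻¹ (cj g H) = H := by
  rw [← cj_mul, inv_mul_cancel, cj_one]

theorem cj_le_iff {g : G} {H K : Subgroup G} : cj g H ≤ cj g K ↔ H ≤ K :=
  ⟨fun h => by simpa [cj_inv_cancel] using cj_mono (g := g⁻¹) h, cj_mono⟩

theorem le_cj_iff {g : G} {H K : Subgroup G} : H ≤ cj g K ↔ cj g⁻¹ H ≤ K := by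
  rw [← cj_le_iff (g := g⁻¹), cj_inv_cancel]

theorem cj_of_mem {g : G} {H : Subgroup G} (hg : g ∈ H) : cj g H = H := by
  refine SetLike.ext fun x => ⟨?_, fun hx => Subgroup.mem_map.mpr
    ⟨g⁻¹ * x * g, H.mul_mem (H.mul_mem (H.inv_mem hg) hx) hg, ?_⟩⟩
  · rintro ⟨y, hy, rfl⟩
    exact H.mul_mem (H.mul_mem hg hy) (H.inv_mem hg)
  · simp [mul_assoc]

theorem cj_inf (g : G) (H K : Subgroup G) : cj g (H ⊓ K) = cj g H ⊓ cj g K :=
  Subgroup.map_inf H K _ (MulEquiv.injective _)

theorem card_cj (g : G) (H : Subgroup G) : Nat.card (cj g H) = Nat.card H :=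
  Subgroup.card_map_of_injective (MulEquiv.injective _)

theorem mem_normalizer_of_cj_eq {g : G} {H : Subgroup G} (h : cj g H = H) :
    g ∈ Subgroup.normalizer (H : Set G) := by
  refine Subgroup.mem_normalizer_iff.mpr fun x => ?_
  constructor
  · intro hx
    have : g * x * g⁻¹ ∈ cj g H := ⟨x, hx, rfl⟩
    rwa [h] at this
  · intro hx
    have h' : g * x * g⁻¹ ∈ cj g H := h.symm ▸ hx
    obtain ⟨y, hy, hyx⟩ := h'
    have : g * y * g⁻¹ = g * x * g⁻¹ := hyx
    rwa [mul_left_cancel (mul_right_cancel this)] at hy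

variable (p : ℕ)

theorem coe_smul_sylow (g : G) (S : Sylow p G) :
    ((g • S : Sylow p G) : Subgroup G) = cj g (S : Subgroup G) := rfl

variable [Finite G]

noncomputable local instance instFintypeSylowRatio : Fintype (Sylow p G) := Fintype.ofFinite _
noncomputable local instance instFintypeSubgroupRatio : Fintype (Subgroup G) := Fintype.ofFinite _

/-- The number of Sylow subgroups of `G` in a subgroup. -/
noncomputable def nu (H : Subgroup G) : ℕ :=
  ((Finset.univ : Finset (Sylow p G)).filter fun S : Sylow p G => (S : Subgroup G) ≤ H).card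

/-- The subgroup generated by the Sylow subgroups of `G` in a subgroup. -/
def cl (H : Subgroup G) : Subgroup G := ⨆ S : {S : Sylow p G // (S : Subgroup G) ≤ H}, (S.1 : Subgroup G)

theorem cl_le (H : Subgroup G) : cl p H ≤ H := iSup_le fun S => S.2

theorem le_cl {H : Subgroup G} {S : Sylow p G} (h : (S : Subgroup G) ≤ H) : (S : Subgroup G) ≤ cl p H :=
  le_iSup (fun S : {S : Sylow p G // (S : Subgroup G) ≤ H} => (S.1 : Subgroup G)) ⟨S, h⟩

theorem cl_mono {H K : Subgroup G} (h : H ≤ K) : cl p H ≤ cl p K := iSup_le fun S => le_cl p (S.2.trans h)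

theorem cl_cl (H : Subgroup G) : cl p (cl p H) = cl p H :=
  le_antisymm (cl_le p _) (iSup_le fun S => le_cl p (le_cl p S.2))

theorem sylow_le_cl_iff {H : Subgroup G} {S : Sylow p G} :
    (S : Subgroup G) ≤ cl p H ↔ (S : Subgroup G) ≤ H := ⟨fun h => h.trans (cl_le p H), le_cl p⟩

theorem nu_cl (H : Subgroup G) : nu p (cl p H) = nu p H := by
  unfold nu
  congr 1
  exact Finset.filter_congr fun S _ => sylow_le_cl_iff p

theorem nu_mono {H K : Subgroup G} (h : H ≤ K) : nu p H ≤ nu p K :=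
  Finset.card_le_card fun S hS => by
    simp only [Finset.mem_filter] at hS ⊢
    exact ⟨hS.1, hS.2.trans h⟩

theorem nu_pos {H : Subgroup G} {S : Sylow p G} (h : (S : Subgroup G) ≤ H) : 0 < nu p H :=
  Finset.card_pos.mpr ⟨S, by simp [h]⟩

theorem cl_cl_inf (H K : Subgroup G) : cl p (cl p H ⊓ K) = cl p (H ⊓ K) :=
  le_antisymm (cl_mono p (inf_le_inf_right K (cl_le p H)))
    (iSup_le fun S => le_cl p (le_inf (le_cl p (S.2.trans inf_le_left)) (S.2.trans inf_le_right)))

theorem cl_cj (g : G) (H : Subgroup G) : cl p (cj g H) = cj g (cl p H) := by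
  refine le_antisymm (iSup_le fun S => ?_) ?_
  · rw [le_cj_iff, ← coe_smul_sylow]
    exact le_cl p (le_cj_iff.mp S.2)
  · rw [cj, cl, Subgroup.map_iSup]
    exact iSup_le fun S => le_cl p (S := g • S.1) (cj_mono S.2)

theorem nu_cj (g : G) (H : Subgroup G) : nu p (cj g H) = nu p H := by
  unfold nu
  refine (Finset.card_bij' (fun S _ => g • S) (fun S _ => g⁻¹ • S) ?_ ?_ ?_ ?_).symm
  · intro S hS
    simp only [Finset.mem_filter, Finset.mem_univ, true_and] at hS ⊢
    rw [coe_smul_sylow]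
    exact cj_mono hS
  · intro S hS
    simp only [Finset.mem_filter, Finset.mem_univ, true_and] at hS ⊢
    rw [coe_smul_sylow]
    exact le_cj_iff.mp hS
  · exact fun S _ => inv_smul_smul g S
  · exact fun S _ => smul_inv_smul g S

variable [hp : Fact p.Prime]

theorem exists_cj_eq {L : Subgroup G} {R S : Sylow p G} (hR : (R : Subgroup G) ≤ L)
    (hS : (S : Subgroup G) ≤ L) : ∃ l ∈ L, cj l (R : Subgroup G) = S := by
  obtain ⟨l, hl⟩ := MulAction.exists_smul_eq L (R.subtype hR) (S.subtype hS)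
  refine ⟨l, l.2, ?_⟩
  have h : ((l • R.subtype hR : Sylow p L) : Subgroup L).map L.subtype =
      ((S.subtype hS : Sylow p L) : Subgroup L).map L.subtype := by rw [hl]
  rw [Sylow.coe_subtype, Subgroup.map_subgroupOf_eq_of_le hS] at h
  rw [← h]
  refine SetLike.ext fun x => ⟨?_, ?_⟩
  · rintro ⟨y, hy, rfl⟩
    exact ⟨l * ⟨y, hR hy⟩ * l⁻¹, ⟨⟨y, hR hy⟩, hy, rfl⟩, rfl⟩
  · rintro ⟨z, ⟨y, hy, rfl⟩, rfl⟩
    exact ⟨(y : G), hy, rfl⟩

/-- A `p`-element normalizing `H` lies in `H` when `H` contains a Sylow subgroup. -/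
theorem le_of_normalizes {P S : Sylow p G} {H : Subgroup G} (hS : (S : Subgroup G) ≤ H)
    {Q : Subgroup G} (hQ : IsPGroup p Q) (hN : Q ≤ Subgroup.normalizer (H : Set G)) : Q ≤ H := by
  let S' : Sylow p (Subgroup.normalizer (H : Set G)) := S.subtype (hS.trans Subgroup.le_normalizer)
  obtain ⟨T, hT⟩ := (hQ.comap_of_injective (Subgroup.normalizer (H : Set G)).subtype
    (Subgroup.subtype_injective _)).exists_le_sylow
  obtain ⟨g, hg⟩ := MulAction.exists_smul_eq (Subgroup.normalizer (H : Set G)) S' T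
  intro x hx
  have h1 := hT (show (⟨x, hN hx⟩ : Subgroup.normalizer (H : Set G)) ∈
    Q.comap (Subgroup.normalizer (H : Set G)).subtype from hx)
  rw [← hg] at h1
  obtain ⟨y, hy, hyx⟩ := h1
  have h2 : (g : G) * y * (g : G)⁻¹ = x := congrArg Subtype.val hyx
  rw [← h2]
  exact (Subgroup.mem_normalizer_iff.mp g.2 (y : G)).mp (hS hy)

/-- The class of `X` under conjugation by `L`. -/
noncomputable def cls (L X : Subgroup G) : Finset (Subgroup G) :=
  (Finset.univ : Finset (Subgroup G)).filter fun Y => ∃ l ∈ L, cj l X = Y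

omit hp in
theorem mem_cls {L X Y : Subgroup G} : Y ∈ cls L X ↔ ∃ l ∈ L, cj l X = Y := by simp [cls]

omit hp in
theorem self_mem_cls (L X : Subgroup G) : X ∈ cls L X := mem_cls.mpr ⟨1, L.one_mem, cj_one X⟩

omit hp in
theorem cj_mem_cls {L X Y : Subgroup G} (hY : Y ∈ cls L X) {l : G} (hl : l ∈ L) : cj l Y ∈ cls L X := by
  obtain ⟨k, hk, rfl⟩ := mem_cls.mp hY
  exact mem_cls.mpr ⟨l * k, L.mul_mem hl hk, cj_mul l k X⟩

omit hp in
theorem cls_eq_of_mem {L X Y : Subgroup G} (hY : Y ∈ cls L X) : cls L Y = cls L X := by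
  obtain ⟨k, hk, rfl⟩ := mem_cls.mp hY
  ext Z
  constructor
  · intro hZ
    obtain ⟨l, hl, rfl⟩ := mem_cls.mp hZ
    exact cj_mem_cls (mem_cls.mpr ⟨k, hk, rfl⟩) hl
  · intro hZ
    obtain ⟨l, hl, rfl⟩ := mem_cls.mp hZ
    exact mem_cls.mpr ⟨l * k⁻¹, L.mul_mem hl (L.inv_mem hk), by rw [cj_mul, cj_inv_cancel]⟩

/-- The defect of a set of subgroups: `(p - 1) |O| - (2 p - 1) #{X ∈ O | P ≤ X}`. -/
noncomputable def defect (P : Sylow p G) (O : Finset (Subgroup G)) : ℤ :=
  ∑ X ∈ O, if (P : Subgroup G) ≤ X then -(p : ℤ) else (p : ℤ) - 1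

omit hp in
theorem defect_eq (P : Sylow p G) (O : Finset (Subgroup G)) :
    defect p P O = ((p : ℤ) - 1) * O.card -
      (2 * (p : ℤ) - 1) * (O.filter fun X => (P : Subgroup G) ≤ X).card := by
  unfold defect
  rw [Finset.sum_ite, Finset.sum_const, Finset.sum_const, nsmul_eq_mul, nsmul_eq_mul]
  have h := Finset.card_filter_add_card_filter_not (s := O) (fun X => (P : Subgroup G) ≤ X)
  rw [← h]
  push_cast
  ring

/-- Double counting. -/
theorem card_cls_mul {L X : Subgroup G} {P : Sylow p G} (hP : (P : Subgroup G) ≤ L) :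
    (cls L X).card * nu p (L ⊓ X) =
      nu p L * ((cls L X).filter fun Y => (P : Subgroup G) ≤ Y).card := by
  have h1 : ∀ Y ∈ cls L X, nu p (L ⊓ Y) = nu p (L ⊓ X) := by
    intro Y hY
    obtain ⟨l, hl, rfl⟩ := mem_cls.mp hY
    conv_lhs => rw [← cj_of_mem hl, ← cj_inf]
    exact nu_cj p l _
  have h2 : ∀ R ∈ ((Finset.univ : Finset (Sylow p G)).filter fun S : Sylow p G => (S : Subgroup G) ≤ L),
      ((cls L X).filter fun Y => (R : Subgroup G) ≤ Y).card =
        ((cls L X).filter fun Y => (P : Subgroup G) ≤ Y).card := by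
    intro R hR
    simp only [Finset.mem_filter, Finset.mem_univ, true_and] at hR
    obtain ⟨l, hl, hlR⟩ := exists_cj_eq p hR hP
    refine Finset.card_bij' (fun Y _ => cj l Y) (fun Y _ => cj l⁻¹ Y) ?_ ?_ ?_ ?_
    · intro Y hY
      simp only [Finset.mem_filter] at hY ⊢
      exact ⟨cj_mem_cls hY.1 hl, hlR ▸ cj_mono hY.2⟩
    · intro Y hY
      simp only [Finset.mem_filter] at hY ⊢
      refine ⟨cj_mem_cls hY.1 (L.inv_mem hl), ?_⟩
      rw [← cj_inv_cancel l (R : Subgroup G), hlR]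
      exact cj_mono hY.2
    · exact fun Y _ => cj_inv_cancel l Y
    · exact fun Y _ => by rw [← cj_mul, mul_inv_cancel, cj_one]
  calc (cls L X).card * nu p (L ⊓ X) = ∑ Y ∈ cls L X, nu p (L ⊓ Y) := by
        rw [Finset.sum_congr rfl h1, Finset.sum_const, smul_eq_mul]
    _ = ∑ Y ∈ cls L X, (((Finset.univ : Finset (Sylow p G)).filter fun S : Sylow p G => (S : Subgroup G) ≤ L).filter
          fun S : Sylow p G => (S : Subgroup G) ≤ Y).card := by
        refine Finset.sum_congr rfl fun Y _ => ?_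
        unfold nu
        congr 1
        ext S
        simp [le_inf_iff]
    _ = ∑ R ∈ ((Finset.univ : Finset (Sylow p G)).filter fun S : Sylow p G => (S : Subgroup G) ≤ L),
          ((cls L X).filter fun Y => (R : Subgroup G) ≤ Y).card := by
        simp only [Finset.card_filter]
        exact Finset.sum_comm
    _ = _ := by
        rw [Finset.sum_congr rfl h2, Finset.sum_const, smul_eq_mul]
        rfl

theorem defect_mul_nu {L X : Subgroup G} {P : Sylow p G} (hP : (P : Subgroup G) ≤ L) :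
    defect p P (cls L X) * (nu p L : ℤ) =
      (cls L X).card * (((p : ℤ) - 1) * nu p L - (2 * (p : ℤ) - 1) * nu p (L ⊓ X)) := by
  have h : ((cls L X).card : ℤ) * nu p (L ⊓ X) =
      nu p L * ((cls L X).filter fun Y => (P : Subgroup G) ≤ Y).card := by
    exact_mod_cast card_cls_mul p (X := X) hP
  rw [defect_eq]
  linear_combination (2 * (p : ℤ) - 1) * h

theorem defect_indep {L X : Subgroup G} {P Q : Sylow p G} (hP : (P : Subgroup G) ≤ L)
    (hQ : (Q : Subgroup G) ≤ L) : defect p P (cls L X) = defect p Q (cls L X) := by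
  have h := (defect_mul_nu p (X := X) hP).trans (defect_mul_nu p (X := X) hQ).symm
  exact mul_right_cancel₀ (Nat.cast_ne_zero.mpr (nu_pos p hP).ne') h

/-- The size of a class is congruent to the number of its members containing `P`. -/
theorem card_cls_modEq {L X : Subgroup G} {P : Sylow p G} (hP : (P : Subgroup G) ≤ L)
    (hX : ∀ Y ∈ cls L X, ∀ Q : Subgroup G, IsPGroup p Q → Q ≤ Subgroup.normalizer (Y : Set G) → Q ≤ Y) :
    (cls L X).card ≡ ((cls L X).filter fun Y => (P : Subgroup G) ≤ Y).card [MOD p] := by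
  letI : MulAction (P : Subgroup G) {Y // Y ∈ cls L X} :=
    { smul := fun g Y => ⟨cj (g : G) Y.1, cj_mem_cls Y.2 (hP g.2)⟩
      one_smul := fun Y => Subtype.ext (cj_one _)
      mul_smul := fun g h Y => Subtype.ext (cj_mul _ _ _) }
  have h := P.isPGroup'.card_modEq_card_fixedPoints {Y // Y ∈ cls L X}
  rw [Nat.card_eq_fintype_card, Fintype.card_coe] at h
  refine h.trans (congrArg (· % p) ?_)
  rw [← Fintype.card_coe, Nat.card_eq_fintype_card]
  refine Fintype.card_congr
    { toFun := fun Y => ⟨Y.1.1, Finset.mem_filter.mpr ⟨Y.1.2, hX _ Y.1.2 _ P.isPGroup' fun g hg =>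
        mem_normalizer_of_cj_eq (congrArg Subtype.val (Y.2 ⟨g, hg⟩))⟩⟩
      invFun := fun Y => ⟨⟨Y.1, (Finset.mem_filter.mp Y.2).1⟩, fun g =>
        Subtype.ext (cj_of_mem ((Finset.mem_filter.mp Y.2).2 g.2))⟩
      left_inv := fun _ => rfl
      right_inv := fun _ => rfl }

/-- A class of subgroups with Sylow subgroups has defect divisible by `p`. -/
theorem dvd_defect {L X : Subgroup G} {P S : Sylow p G} (hP : (P : Subgroup G) ≤ L)
    (hS : (S : Subgroup G) ≤ X) : (p : ℤ) ∣ defect p P (cls L X) := by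
  have hmod := card_cls_modEq p (X := X) hP fun Y hY Q hQ hN => by
    obtain ⟨l, -, rfl⟩ := mem_cls.mp hY
    exact le_of_normalizes p (P := P) (S := l • S) (cj_mono hS) hQ hN
  rw [Nat.modEq_iff_dvd] at hmod
  obtain ⟨c, hc⟩ := hmod
  rw [defect_eq]
  refine ⟨((cls L X).card : ℤ) - 2 * ((cls L X).filter fun Y => (P : Subgroup G) ≤ Y).card + c, ?_⟩
  linear_combination hc

/-- The inequality for one group. -/
def Good (L : Subgroup G) : Prop :=
  cl p L = L → ∀ H : Subgroup G, H ≤ L → cl p H ≠ L → (2 * (p : ℤ) - 1) * nu p H ≤ ((p : ℤ) - 1) * nu p L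

variable {p}

theorem defect_nonneg {L X : Subgroup G} (hL : cl p L = L) (hgood : Good p L) {P : Sylow p G}
    (hP : (P : Subgroup G) ≤ L) (hX : ¬ L ≤ X) : 0 ≤ defect p P (cls L X) := by
  have h := hgood hL (L ⊓ X) inf_le_left fun h => hX (h ▸ (cl_le p _).trans inf_le_right)
  have h2 := defect_mul_nu p (X := X) hP
  have h3 : (0 : ℤ) < nu p L := by exact_mod_cast nu_pos p hP
  nlinarith [Nat.cast_nonneg (α := ℤ) (cls L X).card]

/-- The step: an orbit of a smaller group inside a class. -/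
theorem step {L L' U : Subgroup G} (hle : L' ≤ L) (hL' : cl p L' = L') (hgood : Good p L')
    {S₀ : Sylow p G} (hS₀ : (S₀ : Subgroup G) ≤ U) {P : Sylow p G} (hP : (P : Subgroup G) ≤ L')
    (hfix : ((cls L U).filter fun X => L' ≤ X).card ≤ 1) {b : ℤ} (hW : defect p P (cls L U) ≤ b)
    (hb : b + p < ((p : ℤ) - 1) * p) (hU : ¬ L' ≤ U) :
    (∃ S : Sylow p G, (S : Subgroup G) ≤ L' ⊓ U) ∧
      defect p P (cls L' (cl p (L' ⊓ U))) ≤ b + p := by
  set W := cls L U with hWdef
  set F := W.filter fun X => L' ≤ X with hF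
  set W' := W.filter fun X => ¬ L' ≤ X with hW'
  have hsub : ∀ X ∈ W', ∀ Y ∈ cls L' X, Y ∈ W' := by
    intro X hX Y hY
    obtain ⟨l, hl, rfl⟩ := mem_cls.mp hY
    simp only [hW', Finset.mem_filter] at hX ⊢
    refine ⟨cj_mem_cls hX.1 (hle hl), fun h => hX.2 ?_⟩
    rw [le_cj_iff, cj_of_mem (L'.inv_mem hl)] at h
    exact h
  have hOle : defect p P (cls L' U) ≤ defect p P W' := by
    have hUW : U ∈ W' := by simp [hW', hWdef, self_mem_cls, hU]
    have hmaps : ∀ X ∈ W', cls L' X ∈ W'.image (cls L') := fun X hX => Finset.mem_image_of_mem _ hX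
    have hfib : ∀ X ∈ W', (W'.filter fun Y => cls L' Y = cls L' X) = cls L' X := by
      intro X hX
      ext Y
      simp only [Finset.mem_filter]
      exact ⟨fun h => h.2 ▸ self_mem_cls L' Y, fun h => ⟨hsub X hX Y h, cls_eq_of_mem h⟩⟩
    have hsum := Finset.sum_fiberwise_of_maps_to hmaps
      (fun X => if (P : Subgroup G) ≤ X then -(p : ℤ) else (p : ℤ) - 1)
    unfold defect
    rw [← hsum]
    refine le_trans (le_of_eq ?_) (Finset.single_le_sum ?_ (hmaps U hUW))
    · rw [hfib U hUW]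
    · intro O hO
      obtain ⟨X, hX, rfl⟩ := Finset.mem_image.mp hO
      rw [hfib X hX]
      exact defect_nonneg hL' hgood hP (Finset.mem_filter.mp hX).2
  have hFd : defect p P F = -(p : ℤ) * F.card := by
    unfold defect
    rw [Finset.sum_congr rfl (g := fun _ => -(p : ℤ)) fun X hX => if_pos (hP.trans (Finset.mem_filter.mp hX).2),
      Finset.sum_const, nsmul_eq_mul]
    ring
  have hsplit : defect p P W = defect p P F + defect p P W' :=
    (Finset.sum_filter_add_sum_filter_not W (fun X => L' ≤ X) _).symm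
  have hFc : (F.card : ℤ) ≤ 1 := by exact_mod_cast hfix
  have hp0 : (0 : ℤ) ≤ p := Nat.cast_nonneg p
  have hO : defect p P (cls L' U) ≤ b + p := by nlinarith
  have hshare : ∃ S : Sylow p G, (S : Subgroup G) ≤ L' ⊓ U := by
    by_contra hno
    push Not at hno
    have hm : ((cls L' U).filter fun Y => (P : Subgroup G) ≤ Y).card = 0 := by
      rw [Finset.card_eq_zero, Finset.filter_eq_empty_iff]
      intro Y hY hPY
      obtain ⟨l, hl, rfl⟩ := mem_cls.mp hY
      refine hno (l⁻¹ • P) ?_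
      rw [coe_smul_sylow]
      exact le_inf (le_trans (cj_mono hP) (cj_of_mem (L'.inv_mem hl)).le) (le_cj_iff.mp hPY)
    have hmod := card_cls_modEq p (X := U) hP fun Y hY Q hQ hN => by
      obtain ⟨l, -, rfl⟩ := mem_cls.mp hY
      exact le_of_normalizes p (P := P) (S := l • S₀) (cj_mono hS₀) hQ hN
    rw [hm] at hmod
    have hpO : p ≤ (cls L' U).card := Nat.le_of_dvd
      (Finset.card_pos.mpr ⟨U, self_mem_cls L' U⟩) (Nat.modEq_zero_iff_dvd.mp hmod)
    rw [defect_eq, hm] at hO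
    have h1 : (1 : ℤ) ≤ p := by exact_mod_cast (Fact.out : p.Prime).one_le
    have h2 : (p : ℤ) ≤ (cls L' U).card := by exact_mod_cast hpO
    push_cast at hO
    linarith [mul_le_mul_of_nonneg_left h2 (show (0 : ℤ) ≤ (p : ℤ) - 1 by linarith)]
  refine ⟨hshare, le_trans ?_ hO⟩
  have hne : ¬ L' ≤ cl p (L' ⊓ U) := fun h => hU (h.trans ((cl_le p _).trans inf_le_right))
  have h1 := defect_mul_nu p (X := cl p (L' ⊓ U)) hP
  have h2 := defect_mul_nu p (X := U) hP
  have heq : nu p (L' ⊓ cl p (L' ⊓ U)) = nu p (L' ⊓ U) := by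
    rw [inf_eq_right.mpr ((cl_le p _).trans inf_le_left), nu_cl]
  rw [heq] at h1
  have hcard : (cls L' (cl p (L' ⊓ U))).card ≤ (cls L' U).card := by
    refine le_trans (Finset.card_le_card fun Y hY => ?_) (Finset.card_image_le (f := fun X => cl p (L' ⊓ X)))
    obtain ⟨l, hl, rfl⟩ := mem_cls.mp hY
    refine Finset.mem_image.mpr ⟨cj l U, mem_cls.mpr ⟨l, hl, rfl⟩, ?_⟩
    rw [← cl_cj, cj_inf, cj_of_mem hl]
  have h3 : (0 : ℤ) < nu p L' := by exact_mod_cast nu_pos p hP
  have h4 : ((cls L' (cl p (L' ⊓ U))).card : ℤ) ≤ (cls L' U).card := by exact_mod_cast hcard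
  have h5 := hgood hL' (L' ⊓ U) inf_le_left fun h => hne h.ge
  nlinarith

/-- At most one member of a class of small defect contains a given smaller subgroup. -/
theorem card_filter_le_one {L L' U : Subgroup G} (hle : L' ≤ L) (hL : cl p L = L) (hL' : cl p L' = L')
    (hU : cl p U = U) (hUL : U ≤ L) (hUne : U ≠ L) (hgood : ∀ M : Subgroup G, M ≤ L → Good p M)
    {P : Sylow p G} (hP : (P : Subgroup G) ≤ L') (hne : L' ≠ L)
    (hV : defect p P (cls L L') ≤ ((p : ℤ) - 3) * p) :
    ((cls L U).filter fun X => L' ≤ X).card ≤ 1 := by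
  by_contra hc
  obtain ⟨X₁, hX₁, X₂, hX₂, hX⟩ := Finset.one_lt_card.mp (not_le.mp hc)
  simp only [Finset.mem_filter] at hX₁ hX₂
  have hPL : (P : Subgroup G) ≤ L := hP.trans hle
  have hcls : ∀ X ∈ cls L U, cl p X = X ∧ X ≤ L ∧ X ≠ L ∧ Nat.card X = Nat.card U := by
    intro X hX
    obtain ⟨l, hl, rfl⟩ := mem_cls.mp hX
    refine ⟨by rw [cl_cj, hU], (cj_mono hUL).trans (cj_of_mem hl).le, fun h => hUne ?_, card_cj l U⟩
    rw [← cj_inv_cancel l U, h, cj_of_mem (L.inv_mem hl)]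
  obtain ⟨hX₁c, hX₁L, hX₁ne, hX₁card⟩ := hcls X₁ hX₁.1
  set V := cls L L' with hVdef
  obtain ⟨f, hf⟩ : ∃ f, f = (V.filter fun X => (P : Subgroup G) ≤ X).card := ⟨_, rfl⟩
  have hmod : V.card ≡ f [MOD p] := hf ▸ card_cls_modEq p (X := L') hPL fun Y hY Q hQ hN => by
    obtain ⟨l, -, rfl⟩ := mem_cls.mp hY
    exact le_of_normalizes p (P := P) (S := l • P) (cj_mono hP) hQ hN
  have hfV : f ≤ V.card := hf ▸ Finset.card_filter_le _ _
  obtain ⟨k, hk⟩ := (Nat.modEq_iff_dvd' hfV).mp hmod.symm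
  have hsV : V.card = f + p * k := by omega
  have hmoved : ∀ Q : Sylow p G, (Q : Subgroup G) ≤ L →
      (V.filter fun X => ¬ (Q : Subgroup G) ≤ X).card = p * k := by
    intro Q hQ
    have h1 := Finset.card_filter_add_card_filter_not (s := V) (fun X => (Q : Subgroup G) ≤ X)
    have h2 := defect_indep p (X := L') hQ hPL
    rw [defect_eq, defect_eq, ← hVdef, ← hf] at h2
    have h3 : ((V.filter fun X => (Q : Subgroup G) ≤ X).card : ℤ) = f := by
      have : (2 : ℤ) * p - 1 ≠ 0 := by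
        have : (1 : ℤ) ≤ p := by exact_mod_cast (Fact.out : p.Prime).one_le
        omega
      exact mul_left_cancel₀ this (by linarith)
    have h4 : (V.filter fun X => (Q : Subgroup G) ≤ X).card = f := by exact_mod_cast h3
    omega
  have hf1 : 1 ≤ f := hf ▸ Finset.card_pos.mpr ⟨L', Finset.mem_filter.mpr ⟨self_mem_cls L L', hP⟩⟩
  have hk1 : k = 1 := by
    have hk0 : k ≠ 0 := by
      rintro rfl
      have hall : ∀ Q : Sylow p G, (Q : Subgroup G) ≤ L → (Q : Subgroup G) ≤ L' := fun Q hQ => by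
        have h := hmoved Q hQ
        rw [mul_zero, Finset.card_eq_zero, Finset.filter_eq_empty_iff] at h
        exact not_not.mp (h (self_mem_cls L L'))
      refine hne (le_antisymm hle ?_)
      rw [← hL]
      exact iSup_le fun Q => hall Q.1 Q.2
    by_contra hk2
    set R := cl p (X₁ ⊓ X₂) with hR
    have hRX : R ≠ X₁ := fun h => hX (Subgroup.eq_of_le_of_card_ge
      (h ▸ (cl_le p _).trans inf_le_right) (by rw [hX₁card, (hcls X₂ hX₂.1).2.2.2]))
    have h1 := hgood X₁ hX₁L hX₁c (X₁ ⊓ X₂) inf_le_left hRX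
    have h2 := hgood L le_rfl hL X₁ hX₁L (by rw [hX₁c]; exact hX₁ne)
    have h3 : nu p L' ≤ nu p (X₁ ⊓ X₂) := nu_mono p (le_inf hX₁.2 hX₂.2)
    have h4 : (V.card : ℤ) * nu p L' = nu p L * f := by
      have := card_cls_mul p (X := L') hPL
      rw [inf_eq_right.mpr hle, ← hVdef, ← hf] at this
      exact_mod_cast this
    have hp1 : (2 : ℤ) ≤ p := by exact_mod_cast (Fact.out : p.Prime).two_le
    have hf' : (1 : ℤ) ≤ f := by exact_mod_cast hf1
    have hk' : (2 : ℤ) ≤ k := by exact_mod_cast (show 2 ≤ k by omega)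
    rw [defect_eq, ← hf, hsV] at hV
    push_cast at hV
    have hN : (0 : ℤ) < nu p L := by exact_mod_cast nu_pos p hPL
    have h5 : (2 * (p : ℤ) - 1) ^ 2 * nu p L' ≤ ((p : ℤ) - 1) ^ 2 * nu p L := by
      have h3' : (nu p L' : ℤ) ≤ nu p (X₁ ⊓ X₂) := by exact_mod_cast h3
      have ha : (2 * (p : ℤ) - 1) * nu p L' ≤ ((p : ℤ) - 1) * nu p X₁ := le_trans (by nlinarith) h1
      calc (2 * (p : ℤ) - 1) ^ 2 * nu p L' = (2 * (p : ℤ) - 1) * ((2 * (p : ℤ) - 1) * nu p L') := by ring
        _ ≤ (2 * (p : ℤ) - 1) * (((p : ℤ) - 1) * nu p X₁) := mul_le_mul_of_nonneg_left ha (by linarith)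
        _ = ((p : ℤ) - 1) * ((2 * (p : ℤ) - 1) * nu p X₁) := by ring
        _ ≤ ((p : ℤ) - 1) * (((p : ℤ) - 1) * nu p L) := mul_le_mul_of_nonneg_left h2 (by linarith)
        _ = _ := by ring
    have h6 : (2 * (p : ℤ) - 1) ^ 2 * f ≤ ((p : ℤ) - 1) ^ 2 * V.card := by
      refine le_of_mul_le_mul_right ?_ hN
      calc (2 * (p : ℤ) - 1) ^ 2 * f * nu p L = (V.card : ℤ) * ((2 * (p : ℤ) - 1) ^ 2 * nu p L') := by
            linear_combination (-(2 * (p : ℤ) - 1) ^ 2) * h4
        _ ≤ (V.card : ℤ) * (((p : ℤ) - 1) ^ 2 * nu p L) := mul_le_mul_of_nonneg_left h5 (by positivity)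
        _ = _ := by ring
    rw [hsV] at h6
    push_cast at h6
    have h7 : (p : ℤ) * ((3 * p - 2) * f) ≤ (p : ℤ) * (((p : ℤ) - 1) ^ 2 * k) := by linarith
    have h8 : (3 * (p : ℤ) - 2) * f ≤ ((p : ℤ) - 1) ^ 2 * k :=
      le_of_mul_le_mul_left h7 (by linarith)
    have h9 : ((p : ℤ) - 1) * k - f ≤ (p : ℤ) - 3 := by
      refine le_of_mul_le_mul_left ?_ (show (0 : ℤ) < p by linarith)
      linarith
    nlinarith
  subst hk1
  rw [mul_one] at hmoved
  -- `L'` is transitive on the rest of `V`, and so is each member of `V`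
  have htrans : ∀ v ∈ V, ∀ J ∈ V, ∀ J' ∈ V, J ≠ v → J' ≠ v → ∃ l ∈ v, cj l J = J' := by
    intro v hv
    obtain ⟨a, ha, hav⟩ := mem_cls.mp hv
    have hQ : ((a • P : Sylow p G) : Subgroup G) ≤ v := hav ▸ cj_mono hP
    have hvL : v ≤ L := hav ▸ (cj_mono hle).trans (cj_of_mem ha).le
    have hvc : cl p v = v := by rw [← hav, cl_cj, hL']
    set Q := a • P with hQdef
    have hto : ∀ J ∈ V, J ≠ v → ∃ l ∈ v, ¬ (Q : Subgroup G) ≤ cj l J := by
      intro J hJ hJv
      by_contra hall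
      push Not at hall
      refine hJv (Subgroup.eq_of_le_of_card_ge ?_ ?_).symm
      · rw [← hvc]
        refine iSup_le fun R => ?_
        obtain ⟨l, hl, hlR⟩ := exists_cj_eq p R.2 hQ
        have h := hall l hl
        rw [← hlR] at h
        exact cj_le_iff.mp h
      · obtain ⟨b, -, rfl⟩ := mem_cls.mp hJ
        rw [card_cj, ← hav, card_cj]
    intro J hJ J' hJ' hne₁ hne₂
    obtain ⟨l, hl, hlJ⟩ := hto J hJ hne₁
    obtain ⟨l', hl', hlJ'⟩ := hto J' hJ' hne₂
    have hm1 : cj l J ∈ V.filter fun X => ¬ (Q : Subgroup G) ≤ X :=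
      Finset.mem_filter.mpr ⟨cj_mem_cls hJ (hvL hl), hlJ⟩
    have hm2 : cj l' J' ∈ V.filter fun X => ¬ (Q : Subgroup G) ≤ X :=
      Finset.mem_filter.mpr ⟨cj_mem_cls hJ' (hvL hl'), hlJ'⟩
    have horb : cls (Q : Subgroup G) (cj l J) = V.filter fun X => ¬ (Q : Subgroup G) ≤ X := by
      refine Finset.eq_of_subset_of_card_le (fun Y hY => ?_) ?_
      · obtain ⟨g, hg, rfl⟩ := mem_cls.mp hY
        refine Finset.mem_filter.mpr ⟨cj_mem_cls (Finset.mem_filter.mp hm1).1 (hQ.trans hvL hg), fun h => hlJ ?_⟩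
        rw [le_cj_iff, cj_of_mem ((Q : Subgroup G).inv_mem hg)] at h
        exact h
      · rw [hmoved Q (hQ.trans hvL)]
        have hmod' := card_cls_modEq p (L := (Q : Subgroup G)) (X := cj l J) (P := Q) le_rfl
          fun Y hY R hR hN => by
            obtain ⟨g, -, rfl⟩ := mem_cls.mp hY
            obtain ⟨b, -, rfl⟩ := mem_cls.mp hJ
            exact le_of_normalizes p (P := P) (S := (g * l * b) • P)
              (by rw [coe_smul_sylow, cj_mul, cj_mul]; exact cj_mono (cj_mono (cj_mono hP))) hR hN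
        have h0 : ((cls (Q : Subgroup G) (cj l J)).filter fun Y => (Q : Subgroup G) ≤ Y).card = 0 := by
          rw [Finset.card_eq_zero, Finset.filter_eq_empty_iff]
          intro Y hY h
          obtain ⟨g, hg, rfl⟩ := mem_cls.mp hY
          rw [le_cj_iff, cj_of_mem ((Q : Subgroup G).inv_mem hg)] at h
          exact hlJ h
        rw [h0] at hmod'
        exact Nat.le_of_dvd (Finset.card_pos.mpr ⟨_, self_mem_cls _ _⟩) (Nat.modEq_zero_iff_dvd.mp hmod')
    rw [← horb] at hm2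
    obtain ⟨g, hg, hgJ⟩ := mem_cls.mp hm2
    refine ⟨l'⁻¹ * g * l, v.mul_mem (v.mul_mem (v.inv_mem hl') (hQ hg)) hl, ?_⟩
    rw [cj_mul, cj_mul, hgJ, cj_inv_cancel]
  -- no member of the class contains two members of `V`
  have huniq : ∀ w : Subgroup G, w ≤ L → w ≠ L → ∀ v ∈ V, ∀ v' ∈ V, v ≤ w → v' ≤ w → v = v' := by
    intro w hwL hwne v hv v' hv' hvw hv'w
    by_contra hvv
    have hallw : ∀ J ∈ V, J ≤ w := by
      intro J hJ
      by_cases hJv : J = v
      · exact hJv ▸ hvw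
      obtain ⟨l, hl, rfl⟩ := htrans v hv v' hv' J hJ (Ne.symm hvv) hJv
      exact (cj_mono hv'w).trans (cj_of_mem (hvw hl)).le
    refine hwne (le_antisymm hwL ?_)
    rw [← hL]
    refine iSup_le fun R => ?_
    obtain ⟨l, hl, hlR⟩ := exists_cj_eq p hPL R.2
    rw [← hlR]
    exact (cj_mono hP).trans (hallw _ (mem_cls.mpr ⟨l, hl, rfl⟩))
  have hfixX : ∀ X ∈ cls L U, L' ≤ X → X = L' := by
    intro X hX hL'X
    obtain ⟨hXc, hXL, hXne, -⟩ := hcls X hX
    refine le_antisymm ?_ hL'X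
    rw [← hXc]
    refine iSup_le fun R => le_of_normalizes p (P := P) (S := P) hP R.1.isPGroup' fun g hg => ?_
    exact mem_normalizer_of_cj_eq (huniq X hXL hXne _ (cj_mem_cls (self_mem_cls L L') (hXL (R.2 hg))) _
      (self_mem_cls L L') ((cj_mono hL'X).trans (cj_of_mem (R.2 hg)).le) hL'X)
  exact hX ((hfixX X₁ hX₁.1 hX₁.2).trans (hfixX X₂ hX₂.1 hX₂.2).symm)

/-- The Sylow counting inequality. -/
theorem good (L : Subgroup G) : Good p L := by
  induction hn : Nat.card L using Nat.strong_induction_on generalizing L with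
  | _ n ih =>
  intro hL H hHL hne
  have hp1 : (2 : ℤ) ≤ p := by exact_mod_cast (Fact.out : p.Prime).two_le
  by_cases hno : nu p H = 0
  · rw [hno]
    push_cast
    nlinarith [Nat.cast_nonneg (α := ℤ) (nu p L)]
  obtain ⟨P, hPH⟩ := Finset.card_pos.mp (Nat.pos_of_ne_zero hno)
  simp only [Finset.mem_filter, Finset.mem_univ, true_and] at hPH
  rw [← nu_cl p H]
  set K := cl p H with hK
  have hPK : (P : Subgroup G) ≤ K := le_cl p hPH
  have hKL : K ≤ L := (cl_le p H).trans hHL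
  have hKc : cl p K = K := cl_cl p H
  have hPL : (P : Subgroup G) ≤ L := hPK.trans hKL
  by_contra hbad
  push Not at hbad
  set Z := cls L K with hZdef
  have hD : defect p P Z ≤ -(p : ℤ) := by
    have h := defect_mul_nu p (X := K) hPL
    rw [inf_eq_right.mpr hKL] at h
    have hpos : (0 : ℤ) < nu p L := by exact_mod_cast nu_pos p hPL
    have hcard : (0 : ℤ) < Z.card := by exact_mod_cast Finset.card_pos.mpr ⟨K, self_mem_cls L K⟩
    have hneg : defect p P Z < 0 := by nlinarith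
    obtain ⟨c, hc⟩ := dvd_defect p (X := K) hPL hPK
    rw [← hZdef] at hc
    have : c < 0 := by nlinarith
    nlinarith
  have hZ : ∀ J ∈ Z, cl p J = J ∧ J ≤ L ∧ J ≠ L ∧ Nat.card J = Nat.card K ∧
      ∃ S : Sylow p G, (S : Subgroup G) ≤ J := by
    intro J hJ
    obtain ⟨l, hl, rfl⟩ := mem_cls.mp hJ
    refine ⟨by rw [cl_cj, hKc], (cj_mono hKL).trans (cj_of_mem hl).le, fun h => hne ?_, card_cj l K,
      l • P, cj_mono hPK⟩
    rw [← cj_inv_cancel l K, h, cj_of_mem (L.inv_mem hl)]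
  have hsmall : ∀ M : Subgroup G, M ≤ L → M ≠ L → Good p M := fun M hM hMne =>
    ih _ (hn ▸ lt_of_le_of_ne (Subgroup.card_le_of_le hM)
      (fun h => hMne (Subgroup.eq_of_le_of_card_ge hM h.ge))) M rfl
  have main : ∀ T : Finset (Subgroup G), T.Nonempty → T ⊆ Z → T.card + 1 ≤ p →
      ∀ δ ∈ Z, (∃ S : Sylow p G, (S : Subgroup G) ≤ cl p (T.inf id) ⊓ δ) ∧
        (¬ cl p (T.inf id) ≤ δ → ∀ Q : Sylow p G, (Q : Subgroup G) ≤ cl p (T.inf id) →
          defect p Q (cls (cl p (T.inf id)) (cl p (cl p (T.inf id) ⊓ δ))) ≤ ((T.card : ℤ) - 1) * p) := by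
    intro T hT
    induction hT using Finset.Nonempty.cons_induction with
    | singleton J =>
      intro hTZ _ δ hδ
      have hJ : J ∈ Z := hTZ (Finset.mem_singleton_self J)
      obtain ⟨hJc, hJL, hJne, hJcard, S, hS⟩ := hZ J hJ
      simp only [Finset.inf_singleton, id_eq, hJc, Finset.card_singleton]
      by_cases hJδ : J ≤ δ
      · exact ⟨⟨S, le_inf hS (hS.trans hJδ)⟩, fun h => absurd hJδ h⟩
      have hclsδ : cls L δ = Z := cls_eq_of_mem hδ
      obtain ⟨-, -, -, -, S₁, hS₁⟩ := hZ δ hδ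
      have hfix : ((cls L δ).filter fun X => J ≤ X).card ≤ 1 := by
        rw [hclsδ, Finset.card_le_one]
        intro a ha b hb
        simp only [Finset.mem_filter] at ha hb
        rw [← Subgroup.eq_of_le_of_card_ge ha.2 (by rw [(hZ a ha.1).2.2.2.1, hJcard]),
          ← Subgroup.eq_of_le_of_card_ge hb.2 (by rw [(hZ b hb.1).2.2.2.1, hJcard])]
      have key : ∀ Q : Sylow p G, (Q : Subgroup G) ≤ J → _ := fun Q hQ =>
        step (L := L) (L' := J) (U := δ) hJL hJc (hsmall J hJL hJne) hS₁ hQ hfix (b := -(p : ℤ))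
          (by rw [hclsδ, hZdef, defect_indep p (hQ.trans hJL) hPL]; exact hD) (by nlinarith) hJδ
      exact ⟨(key S hS).1, fun _ Q hQ => by have := (key Q hQ).2; push_cast; linarith⟩
    | cons γ T hγT hT ih' =>
      intro hTZ hcard δ hδ
      rw [Finset.cons_eq_insert, Finset.insert_subset_iff] at hTZ
      rw [Finset.card_cons] at hcard
      obtain ⟨hγshare, hγdef⟩ := ih' hTZ.2 (by omega) γ hTZ.1
      obtain ⟨hδshare, hδdef⟩ := ih' hTZ.2 (by omega) δ hδ
      set M := cl p (T.inf id) with hM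
      have hinf : cl p ((Finset.cons γ T hγT).inf id) = cl p (M ⊓ γ) := by
        rw [Finset.inf_cons, id_eq, inf_comm, hM, cl_cl_inf]
      rw [hinf, Finset.card_cons]
      by_cases hMγ : M ≤ γ
      · rw [inf_eq_left.mpr hMγ, hM, cl_cl, ← hM]
        refine ⟨hδshare, fun h Q hQ => (hδdef h Q hQ).trans ?_⟩
        push_cast
        nlinarith
      obtain ⟨J₀, hJ₀⟩ := hT
      have hMJ : M ≤ J₀ := (cl_le p _).trans (Finset.inf_le (f := id) hJ₀)
      obtain ⟨-, hJ₀L, hJ₀ne, -, -⟩ := hZ J₀ (hTZ.2 hJ₀)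
      have hMg : ∀ N : Subgroup G, N ≤ M → Good p N := fun N hN =>
        hsmall N ((hN.trans hMJ).trans hJ₀L) fun h => hJ₀ne (le_antisymm hJ₀L (h.ge.trans (hN.trans hMJ)))
      set M' := cl p (M ⊓ γ) with hM'
      have hM'M : M' ≤ M := (cl_le p _).trans inf_le_left
      have hM'ne : M' ≠ M := fun h => hMγ (h.ge.trans ((cl_le p _).trans inf_le_right))
      obtain ⟨S, hS⟩ := hγshare
      have hSM' : (S : Subgroup G) ≤ M' := le_cl p hS
      by_cases hδ' : M' ≤ δ
      · exact ⟨⟨S, le_inf hSM' (hSM'.trans hδ')⟩, fun h => absurd hδ' h⟩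
      have hMδ : ¬ M ≤ δ := fun h => hδ' (hM'M.trans h)
      set U := cl p (M ⊓ δ) with hUdef
      have hUM : U ≤ M := (cl_le p _).trans inf_le_left
      have hUne : U ≠ M := fun h => hMδ (h.ge.trans ((cl_le p _).trans inf_le_right))
      obtain ⟨S₁, hS₁⟩ := hδshare
      have hMc : cl p M = M := cl_cl p _
      have hU' : ¬ M' ≤ U := fun h => hδ' (h.trans ((cl_le p _).trans inf_le_right))
      have hcl : cl p (M' ⊓ U) = cl p (M' ⊓ δ) := by
        rw [hUdef, inf_comm M' (cl p _), cl_cl_inf]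
        congr 1
        refine le_antisymm (le_inf inf_le_right (inf_le_left.trans inf_le_right)) ?_
        exact le_inf (le_inf (inf_le_left.trans hM'M) inf_le_right) inf_le_left
      have hcard' : (T.card : ℤ) + 2 ≤ p := by exact_mod_cast hcard
      have key : ∀ Q : Sylow p G, (Q : Subgroup G) ≤ M' → _ := fun Q hQ =>
        step (L := M) (L' := M') (U := U) hM'M (cl_cl p _) (hMg M' hM'M) (le_cl p hS₁) hQ
          (card_filter_le_one hM'M hMc (cl_cl p _) (cl_cl p _) hUM hUne hMg hQ hM'ne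
            ((hγdef hMγ Q (hQ.trans hM'M)).trans (by nlinarith)))
          (b := ((T.card : ℤ) - 1) * p) (hδdef hMδ Q (hQ.trans hM'M)) (by nlinarith) hU'
      refine ⟨?_, fun _ Q hQ => ?_⟩
      · obtain ⟨S₂, hS₂⟩ := (key S hSM').1
        exact ⟨S₂, le_inf (hS₂.trans inf_le_left) (hS₂.trans (inf_le_right.trans
          ((cl_le p _).trans inf_le_right)))⟩
      · have h := (key Q hQ).2
        rw [hcl] at h
        push_cast
        linarith
  -- some `p`-element permutes `p` members of `Z` cyclically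
  obtain ⟨R, hRL, hRK⟩ : ∃ R : Sylow p G, (R : Subgroup G) ≤ L ∧ ¬ (R : Subgroup G) ≤ K := by
    by_contra hall
    push Not at hall
    refine hne (le_antisymm hKL ?_)
    rw [← hL]
    exact iSup_le fun S => hall S.1 S.2
  obtain ⟨x, hx, hxK⟩ : ∃ x ∈ (R : Subgroup G), cj x K ≠ K := by
    by_contra hall
    push Not at hall
    exact hRK (le_of_normalizes p (P := P) hPK R.isPGroup' fun g hg => mem_normalizer_of_cj_eq (hall g hg))
  have hpow : ∃ j : ℕ, cj (x ^ p ^ j) K = K := by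
    obtain ⟨j, hj⟩ := R.isPGroup' ⟨x, hx⟩
    exact ⟨j, by rw [show x ^ p ^ j = 1 from congrArg Subtype.val hj, cj_one]⟩
  have hj0 : Nat.find hpow ≠ 0 := fun h => hxK (by
    have h' := Nat.find_spec hpow
    rw [h, pow_zero, pow_one] at h'
    exact h')
  set y := x ^ p ^ (Nat.find hpow - 1) with hy
  have hyK : cj y K ≠ K := Nat.find_min hpow (by omega)
  have hyp : cj (y ^ p) K = K := by
    rw [hy, ← pow_mul, ← pow_succ, Nat.sub_add_cancel (Nat.one_le_iff_ne_zero.mpr hj0)]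
    exact Nat.find_spec hpow
  have hyR : y ∈ (R : Subgroup G) := pow_mem hx _
  set T := (Finset.range p).image fun i => cj (y ^ i) K with hT
  have hTZ : T ⊆ Z := fun J hJ => by
    obtain ⟨i, -, rfl⟩ := Finset.mem_image.mp hJ
    exact mem_cls.mpr ⟨y ^ i, pow_mem (hRL hyR) i, rfl⟩
  have hKT : K ∈ T := Finset.mem_image.mpr ⟨0, Finset.mem_range.mpr (Fact.out : p.Prime).pos, by
    rw [pow_zero, cj_one]⟩
  have hy1 : cj y K ∈ T := Finset.mem_image.mpr
    ⟨1, Finset.mem_range.mpr (Fact.out : p.Prime).one_lt, by rw [pow_one]⟩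
  have hTy : cj y (T.inf id) = T.inf id := by
    refine Subgroup.eq_of_le_of_card_ge (Finset.le_inf fun J hJ => ?_) (card_cj y _).ge
    obtain ⟨i, hi, rfl⟩ := Finset.mem_image.mp hJ
    rw [Finset.mem_range] at hi
    rcases Nat.eq_zero_or_pos i with rfl | hpos
    · show cj y (T.inf id) ≤ cj (y ^ 0) K
      rw [pow_zero, cj_one]
      refine le_trans (cj_mono (Finset.inf_le (f := id) (show cj (y ^ (p - 1)) K ∈ T from ?_))) (le_of_eq ?_)
      · exact Finset.mem_image.mpr ⟨p - 1, Finset.mem_range.mpr (by omega), rfl⟩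
      · show cj y (cj (y ^ (p - 1)) K) = K
        rw [← cj_mul, ← pow_succ', Nat.sub_add_cancel (Fact.out : p.Prime).one_le]
        exact hyp
    · refine le_trans (cj_mono (Finset.inf_le (f := id) (show cj (y ^ (i - 1)) K ∈ T from ?_))) (le_of_eq ?_)
      · exact Finset.mem_image.mpr ⟨i - 1, Finset.mem_range.mpr (by omega), rfl⟩
      · show cj y (cj (y ^ (i - 1)) K) = id (cj (y ^ i) K)
        rw [← cj_mul, ← pow_succ', Nat.sub_add_cancel hpos, id_eq]
  have hTcard : T.card ≤ p := Finset.card_image_le.trans (le_of_eq (Finset.card_range p))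
  have hTne : (T.erase K).Nonempty := ⟨cj y K, Finset.mem_erase.mpr ⟨hyK, hy1⟩⟩
  obtain ⟨⟨S, hS⟩, -⟩ := main (T.erase K) hTne ((Finset.erase_subset _ _).trans hTZ)
    (by rw [Finset.card_erase_of_mem hKT]; omega) K (self_mem_cls L K)
  have hST : (S : Subgroup G) ≤ T.inf id := Finset.le_inf fun J hJ => by
    by_cases hJK : J = K
    · exact hJK ▸ hS.trans inf_le_right
    · exact (hS.trans inf_le_left).trans ((cl_le p _).trans
        (Finset.inf_le (f := id) (Finset.mem_erase.mpr ⟨hJK, hJ⟩)))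
  have hfinal : Subgroup.zpowers y ≤ T.inf id :=
    le_of_normalizes p (P := P) hST (R.isPGroup'.to_le (Subgroup.zpowers_le.mpr hyR))
      (Subgroup.zpowers_le.mpr (mem_normalizer_of_cj_eq hTy))
  exact hyK (cj_of_mem ((Finset.inf_le (f := id) hKT : T.inf id ≤ K)
    (hfinal (Subgroup.mem_zpowers y))))

/-- The subgroup generated by all Sylow subgroups is the one generated by the `p`-elements. -/
theorem cl_top_eq_closure : cl p (⊤ : Subgroup G) = Subgroup.closure {g : G | ∃ k : ℕ, orderOf g = p ^ k} := by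
  refine le_antisymm (iSup_le fun S g hg => Subgroup.subset_closure ?_) ((Subgroup.closure_le _).mpr ?_)
  · obtain ⟨k, hk⟩ := IsPGroup.iff_orderOf.mp S.1.isPGroup' ⟨g, hg⟩
    exact ⟨k, by rwa [← Subgroup.orderOf_coe] at hk⟩
  · rintro g ⟨k, hk⟩
    obtain ⟨S, hS⟩ := (IsPGroup.of_card (n := k) (by rw [Nat.card_zpowers, hk]) :
      IsPGroup p (Subgroup.zpowers g)).exists_le_sylow
    exact le_cl p (le_top : (S : Subgroup G) ≤ ⊤) (hS (Subgroup.mem_zpowers g))

theorem nu_top : nu p (⊤ : Subgroup G) = Nat.card (Sylow p G) := by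
  simp [nu, Nat.card_eq_fintype_card]

theorem nu_eq_card_sylow {H : Subgroup G} {P : Sylow p G} (hP : (P : Subgroup G) ≤ H) :
    nu p H = Nat.card (Sylow p H) := by
  rw [nu, ← Fintype.card_coe, ← Nat.card_eq_fintype_card]
  refine Nat.card_eq_of_bijective (fun S => S.1.subtype (Finset.mem_filter.mp S.2).2) ⟨fun S T h => ?_, fun T => ?_⟩
  · refine Subtype.ext (Sylow.ext ?_)
    have h' := congrArg (fun Q : Sylow p H => (Q : Subgroup H).map H.subtype) h
    simpa [Sylow.coe_subtype, Subgroup.map_subgroupOf_eq_of_le (Finset.mem_filter.mp S.2).2,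
      Subgroup.map_subgroupOf_eq_of_le (Finset.mem_filter.mp T.2).2] using h'
  · obtain ⟨l, hl⟩ := MulAction.exists_smul_eq H (P.subtype hP) T
    have hle : (((l : G) • P : Sylow p G) : Subgroup G) ≤ H := (cj_mono hP).trans (cj_of_mem l.2).le
    refine ⟨⟨(l : G) • P, by simp [hle]⟩, ?_⟩
    rw [← hl]
    refine Sylow.ext (SetLike.ext fun z => ⟨?_, ?_⟩)
    · rintro ⟨a, ha, haz⟩
      exact ⟨⟨a, hP ha⟩, ha, Subtype.ext haz⟩
    · rintro ⟨a, ha, rfl⟩
      exact ⟨(a : G), ha, rfl⟩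

end Cfsg.Agent.Lib.SylowRatio
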