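import Mathlib.GroupTheory.OrderOfElement
import Mathlib.Tactic
import Cfsg.Prelude.Def_SporadicB

namespace Cfsg.Agent.Lib.SylowCounting

variable {G : Type*} [Group G]

theorem tt_mul_self {E : Set G} (hE : Cfsg.IsThreeTranspositionSet E) {a : G} (ha : a ∈ E) :
    a * a = 1 := by
  have h := pow_orderOf_eq_one a
  rw [hE.1 a ha, pow_two] at h
  exact h

theorem tt_inv {E : Set G} (hE : Cfsg.IsThreeTranspositionSet E) {a : G} (ha : a ∈ E) :
    a⁻¹ = a := inv_eq_of_mul_eq_one_right (tt_mul_self hE ha)

theorem tt_braid {E : Set G} (hE : Cfsg.IsThreeTranspositionSet E) {a b : G} (ha : a ∈ E)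
    (hb : b ∈ E) (h : ¬ Commute a b) : a * b * a = b * a * b := by
  have h3 : (a * b) ^ 3 = 1 := by
    rcases hE.2 a ha b hb with h2 | h3
    · exfalso
      apply h
      have h4 : (a * b)⁻¹ = a * b := inv_eq_of_mul_eq_one_right (by rw [← pow_two]; exact h2)
      rw [mul_inv_rev, tt_inv hE ha, tt_inv hE hb] at h4
      exact h4.symm
    · exact h3
  have e : (a * b * a) * (b * a * b) = 1 := by
    rw [← h3]; simp only [pow_succ, pow_zero, one_mul, mul_assoc]
  have e2 := eq_inv_of_mul_eq_one_left e
  rw [e2, mul_inv_rev, mul_inv_rev, tt_inv hE ha, tt_inv hE hb, mul_assoc]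

theorem tt_conj_eq {E : Set G} (hE : Cfsg.IsThreeTranspositionSet E) {a x : G} (ha : a ∈ E)
    (h : Commute a x) : a * x * a = x := by
  rw [h.eq, mul_assoc, tt_mul_self hE ha, mul_one]

/-- If `e` commutes with the product of two distinct commuting 3-transpositions, it commutes with both. -/
theorem tt_commute_two {E : Set G} (hE : Cfsg.IsThreeTranspositionSet E) {a b e : G}
    (ha : a ∈ E) (hb : b ∈ E) (he : e ∈ E) (hab : a ≠ b) (hcomm : Commute a b)
    (h : Commute e (a * b)) : Commute e a ∧ Commute e b := by
  by_cases h1 : Commute e a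
  · refine ⟨h1, ?_⟩
    have := h1.mul_right h
    rwa [← mul_assoc, tt_mul_self hE ha, one_mul] at this
  · exfalso
    have h2 : ¬ Commute e b := by
      intro h2
      apply h1
      have := h.mul_right h2
      rwa [mul_assoc, tt_mul_self hE hb, mul_one] at this
    have h0 := tt_conj_eq hE he h
    have hee := tt_mul_self hE he
    have e1 : e * (a * b) * e = (e * a * e) * (e * b * e) := by
      simp only [mul_assoc]
      rw [← mul_assoc e e, hee, one_mul]
    rw [e1, tt_braid hE he ha h1, tt_braid hE he hb h2] at h0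
    apply hab
    have h5 : e * (a * b) * e = 1 := by
      have := congrArg (fun x => a * x * b) h0
      simp only [mul_assoc] at this
      rw [tt_mul_self hE hb] at this
      simp only [← mul_assoc] at this
      rw [tt_mul_self hE ha] at this
      simp only [mul_one, one_mul, tt_mul_self hE hb] at this
      rw [← mul_assoc]
      exact this
    rw [tt_conj_eq hE he h] at h5
    have := eq_inv_of_mul_eq_one_left h5
    rwa [tt_inv hE hb] at this

end Cfsg.Agent.Lib.SylowCounting
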