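import Mathlib.GroupTheory.Sylow

namespace Cfsg.Agent.Lib.SylowCounting

theorem mem_of_le_centralizer {G : Type*} [Group G] [Finite G] {p : ℕ} [Fact p.Prime] (t : G)
    (ht : orderOf t = p) (P : Sylow p G) (hP : (P : Subgroup G) ≤ Subgroup.centralizer ({t} : Set G)) :
    t ∈ (P : Subgroup G) := by
  have hT : IsPGroup p (Subgroup.zpowers t) := IsPGroup.of_card (n := 1) (by rw [Nat.card_zpowers, ht, pow_one])
  have hn : Subgroup.zpowers t ≤ Subgroup.normalizer ((P : Subgroup G) : Set G) := by
    refine le_trans ?_ (Subgroup.centralizer_le_normalizer _)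
    rw [Subgroup.zpowers_le, Subgroup.mem_centralizer_iff]
    intro x hx
    exact Subgroup.mem_centralizer_singleton_iff.1 (hP hx)
  have hsup := hT.to_sup_of_normal_right' P.isPGroup' hn
  have := P.is_maximal' hsup le_sup_right
  rw [← this]
  exact Subgroup.mem_sup_left (Subgroup.mem_zpowers t)

end Cfsg.Agent.Lib.SylowCounting
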